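import Cfsg.Agent.Lib.RankOneInter.Defs
import Cfsg.Agent.Lib.ZStar.Consequences
import Cfsg.Agent.Lib.PGroups.UniqueSubgroup

/-!
# Sylow 2-intersections with one involution: first facts

A 2-group with two involutions lies in one Sylow subgroup; inheritance by subgroups and by quotients
by normal subgroups of odd order; 2-groups with one involution are cyclic or quaternion.
-/

set_option autoImplicit false
set_option linter.style.haveILetI false
set_option linter.unusedSectionVars false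

namespace Cfsg.Agent.RankOneInter

open Subgroup
open scoped Pointwise
open Cfsg.Agent.ZStar.CyclicIntersections

universe u

variable {G : Type*} [Group G]

/-- The subgroup has at most one involution. -/
def UniqueInv (X : Subgroup G) : Prop :=
  ∀ x ∈ X, ∀ y ∈ X, orderOf x = 2 → orderOf y = 2 → x = y

theorem UniqueInv.mono {X Y : Subgroup G} (h : UniqueInv Y) (hle : X ≤ Y) : UniqueInv X :=
  fun x hx y hy => h x (hle hx) y (hle hy)

theorem OneInv.uniqueInv (h : OneInv G) {S T : Sylow 2 G} (hne : S ≠ T) :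
    UniqueInv ((S : Subgroup G) ⊓ (T : Subgroup G)) :=
  fun x hx y hy hx2 hy2 => h S T hne x y hx.1 hx.2 hy.1 hy.2 hx2 hy2

/-- Two Sylow subgroups with two common involutions are equal. -/
theorem OneInv.eq_of_two (h : OneInv G) {S T : Sylow 2 G} {x y : G}
    (hxS : x ∈ (S : Subgroup G)) (hxT : x ∈ (T : Subgroup G)) (hyS : y ∈ (S : Subgroup G))
    (hyT : y ∈ (T : Subgroup G)) (hx2 : orderOf x = 2) (hy2 : orderOf y = 2) (hne : x ≠ y) :
    S = T := by
  by_contra hST
  exact hne (h S T hST x y hxS hxT hyS hyT hx2 hy2)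

/-- An element normalising a subgroup of `S` with two involutions normalises `S`. -/
theorem OneInv.mem_normalizer (h : OneInv G) {S : Sylow 2 G} {A : Subgroup G}
    (hAS : A ≤ (S : Subgroup G)) {x y : G} (hx : x ∈ A) (hy : y ∈ A) (hx2 : orderOf x = 2)
    (hy2 : orderOf y = 2) (hne : x ≠ y) {g : G} (hg : ∀ a ∈ A, g * a * g⁻¹ ∈ A) :
    g ∈ normalizer ((S : Subgroup G) : Set G) := by
  refine Sylow.smul_eq_iff_mem_normalizer.1 ?_
  refine h.eq_of_two (conj_mem_smul g (hAS hx)) (hAS (hg x hx)) (conj_mem_smul g (hAS hy))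
    (hAS (hg y hy)) (by rw [Involutions.Basic.orderOf_conj, hx2])
    (by rw [Involutions.Basic.orderOf_conj, hy2]) fun e => hne ?_
  exact mul_left_cancel (mul_right_cancel e)

theorem OneInv.le_normalizer (h : OneInv G) {S : Sylow 2 G} {A : Subgroup G}
    (hAS : A ≤ (S : Subgroup G)) {x y : G} (hx : x ∈ A) (hy : y ∈ A) (hx2 : orderOf x = 2)
    (hy2 : orderOf y = 2) (hne : x ≠ y) :
    normalizer (A : Set G) ≤ normalizer ((S : Subgroup G) : Set G) := fun _ hg =>
  h.mem_normalizer hAS hx hy hx2 hy2 hne fun a ha => (mem_normalizer_iff.1 hg a).1 ha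

/-- An element commuting with two involutions of `S` normalises `S`. -/
theorem OneInv.mem_normalizer_of_commute (h : OneInv G) {S : Sylow 2 G} {x y : G}
    (hx : x ∈ (S : Subgroup G)) (hy : y ∈ (S : Subgroup G)) (hx2 : orderOf x = 2)
    (hy2 : orderOf y = 2) (hne : x ≠ y) {g : G} (hgx : Commute g x) (hgy : Commute g y) :
    g ∈ normalizer ((S : Subgroup G) : Set G) := by
  refine h.mem_normalizer (A := closure {x, y}) ?_ (subset_closure (by simp))
    (subset_closure (by simp)) hx2 hy2 hne fun a ha => ?_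
  · rw [closure_le]
    rintro a (rfl | rfl)
    exacts [hx, hy]
  · have hc : ∀ b ∈ closure ({x, y} : Set G), Commute g b := by
      intro b hb
      induction hb using closure_induction with
      | mem b hb => rcases hb with rfl | rfl; exacts [hgx, hgy]
      | one => exact Commute.one_right g
      | mul a b _ _ ha hb => exact ha.mul_right hb
      | inv a _ ha => exact ha.inv_right
    rwa [(hc a ha).eq, mul_inv_cancel_right]

variable [Finite G]

/-- A 2-group with two involutions has two commuting involutions. -/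
theorem exists_commuting_pair {X : Subgroup G} (hX : IsPGroup 2 X) (h : ¬ UniqueInv X) :
    ∃ x ∈ X, ∃ y ∈ X, orderOf x = 2 ∧ orderOf y = 2 ∧ x ≠ y ∧ Commute x y := by
  simp only [UniqueInv, not_forall] at h
  obtain ⟨x, hx, y, hy, hx2, hy2, hne⟩ := h
  have hXne : X ≠ ⊥ := fun e => Involutions.Basic.ne_one hx2 (by rwa [e, mem_bot] at hx)
  obtain ⟨w, hw, hw2, hwc⟩ := exists_central_involution hX hXne
  by_cases hxw : x = w
  · exact ⟨x, hx, y, hy, hx2, hy2, hne, hxw ▸ hwc y hy⟩
  · exact ⟨w, hw, x, hx, hw2, hx2, Ne.symm hxw, hwc x hx⟩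

theorem oneInv_of_rank
    (hI : ∀ S T : Sylow 2 G, S ≠ T → Cfsg.PRankLE 2 1 ↥((S : Subgroup G) ⊓ (T : Subgroup G))) :
    OneInv G := by
  intro S T hne x y hxS hxT hyS hyT hx2 hy2
  classical
  by_contra hxy
  obtain ⟨a, ha, b, hb, ha2, hb2, hab, hc⟩ := exists_commuting_pair
    (X := (S : Subgroup G) ⊓ (T : Subgroup G)) (S.isPGroup'.to_le inf_le_left)
    fun h => hxy (h x ⟨hxS, hxT⟩ y ⟨hyS, hyT⟩ hx2 hy2)
  let A := four a b (mul_self_of_orderOf ha2) (mul_self_of_orderOf hb2) hc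
  have hAX : A ≤ (S : Subgroup G) ⊓ (T : Subgroup G) := by
    intro c h'
    rcases mem_four.1 h' with rfl | rfl | rfl | rfl
    exacts [one_mem _, ha, hb, mul_mem ha hb]
  have hinv : ∀ p ∈ A, p⁻¹ = p := fun p hp => inv_eq_of_mul_eq_one_left (four_sq hp)
  have hcomm : ∀ p ∈ A, ∀ q ∈ A, p * q = q * p := fun p hp q hq => by
    rw [← hinv _ (mul_mem hp hq), mul_inv_rev, hinv p hp, hinv q hq]
  have h4 := hI S T hne (A.subgroupOf _)
    ⟨⟨fun c d => Subtype.ext (Subtype.ext (hcomm _ c.2 _ d.2))⟩⟩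
    (fun c hc' => Subtype.ext (by
      rw [SubgroupClass.coe_pow, pow_two]
      exact four_sq (show (c : G) ∈ A from mem_subgroupOf.1 hc')))
  rw [Nat.card_congr (subgroupOfEquivOfLe hAX).toEquiv] at h4
  have h3 : ({1, a, b} : Finset G).card = 3 := by
    rw [Finset.card_insert_of_notMem, Finset.card_pair hab]
    simp [(Involutions.Basic.ne_one ha2).symm, (Involutions.Basic.ne_one hb2).symm]
  have h5 : ({1, a, b} : Finset G).card ≤ Nat.card ↥A := by
    rw [← SetLike.coe_sort_coe, Nat.card_coe_set_eq, ← Set.ncard_coe_finset]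
    refine Set.ncard_le_ncard fun c hc' => ?_
    simp only [Finset.coe_insert, Finset.coe_singleton, Set.mem_insert_iff,
      Set.mem_singleton_iff] at hc'
    exact mem_four.2 (by tauto)
  omega

theorem OneInv.rank (h : OneInv G) {S T : Sylow 2 G} (hne : S ≠ T) :
    Cfsg.PRankLE 2 1 ↥((S : Subgroup G) ⊓ (T : Subgroup G)) := by
  intro A _ hsq
  classical
  have hone : ∀ a ∈ A, ∀ b ∈ A, a ≠ 1 → b ≠ 1 → a = b := by
    intro a ha b hb ha1 hb1
    refine Subtype.ext (h.uniqueInv hne a a.2 b b.2 ?_ ?_) <;> rw [Subgroup.orderOf_coe]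
    · exact orderOf_eq_prime (hsq a ha) ha1
    · exact orderOf_eq_prime (hsq b hb) hb1
  by_cases hA : A = ⊥
  · rw [hA, Subgroup.card_bot]; norm_num
  obtain ⟨⟨a, ha⟩, ha1⟩ := ne_bot_iff_exists_ne_one.1 hA
  have ha1' : a ≠ 1 := fun e => ha1 (Subtype.ext e)
  calc Nat.card A = (A : Set ↥((S : Subgroup G) ⊓ (T : Subgroup G))).ncard :=
        Nat.card_coe_set_eq _
    _ ≤ ({1, a} : Set _).ncard := Set.ncard_le_ncard fun b hb => by
        by_cases hb1 : b = 1
        · exact Or.inl hb1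
        · exact Or.inr (hone b hb a ha hb1 ha1')
    _ ≤ 2 ^ 1 := (Set.ncard_insert_le _ _).trans (by simp)

/-- The hypothesis passes to subgroups. -/
theorem OneInv.subgroup (h : OneInv G) (K : Subgroup G) : OneInv K := by
  intro S T hST x y hxS hxT hyS hyT hx2 hy2
  obtain ⟨S', hS'⟩ := (S.isPGroup'.map K.subtype).exists_le_sylow
  obtain ⟨T', hT'⟩ := (T.isPGroup'.map K.subtype).exists_le_sylow
  have key : ∀ (U : Sylow 2 K) (V : Sylow 2 G), (U : Subgroup K).map K.subtype ≤ V →
      (V : Subgroup G).subgroupOf K = (U : Subgroup K) := fun U V h =>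
    U.is_maximal' V.isPGroup'.comap_subtype fun x hx => h (mem_map_of_mem _ hx)
  refine Subtype.ext (h S' T' (fun e => ?_) x y (hS' (mem_map_of_mem _ hxS))
    (hT' (mem_map_of_mem _ hxT)) (hS' (mem_map_of_mem _ hyS)) (hT' (mem_map_of_mem _ hyT))
    (by rwa [Subgroup.orderOf_coe]) (by rwa [Subgroup.orderOf_coe]))
  subst e
  exact hST (Sylow.ext ((key S S' hS').symm.trans (key T S' hT')))

/-- The hypothesis passes to quotients by normal subgroups of odd order. -/
theorem OneInv.map_odd {H : Type*} [Group H] (h : OneInv G) {f : G →* H}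
    (hf : Function.Surjective f) (hodd : Odd (Nat.card f.ker)) : OneInv H := by
  haveI : Finite H := Finite.of_surjective f hf
  intro S T hne x y hxS hxT hyS hyT hx2 hy2
  by_contra hxy
  have hXp : IsPGroup 2 ↥((S : Subgroup H) ⊓ (T : Subgroup H)) := S.isPGroup'.to_le inf_le_left
  obtain ⟨a, ha, b, hb, ha2, hb2, hab, -⟩ := exists_commuting_pair hXp
    fun h' => hxy (h' x ⟨hxS, hxT⟩ y ⟨hyS, hyT⟩ hx2 hy2)
  obtain ⟨D, hD, -, hmap⟩ := exists_lift hf hXp (D₀ := ⊥) IsPGroup.of_bot bot_le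
  have hle : ∀ U : Sylow 2 H, (S : Subgroup H) ⊓ T ≤ U → D ≤ (U : Subgroup H).comap f :=
    fun U hU => map_le_iff_le_comap.mp (hmap.le.trans hU)
  obtain ⟨S₁, hS₁, hSmap⟩ := exists_sylow_lift hf S hD (hle S inf_le_left)
  obtain ⟨T₁, hT₁, hTmap⟩ := exists_sylow_lift hf T hD (hle T inf_le_right)
  have hinj : ∀ d ∈ D, f d = 1 → d = 1 := by
    intro d hd hfd
    have hd' : d ∈ D ⊓ f.ker := ⟨hd, hfd⟩
    rw [PLocal.Cores.inf_eq_bot_of_isPGroup_of_coprime hD (Nat.coprime_two_right.2 hodd),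
      mem_bot] at hd'
    exact hd'
  have hord : ∀ d ∈ D, orderOf (f d) = 2 → orderOf d = 2 := by
    intro d hd h2
    refine orderOf_eq_prime (hinj _ (pow_mem hd 2) ?_) fun e => ?_
    · rw [map_pow, ← h2, pow_orderOf_eq_one]
    · rw [e, map_one, orderOf_one] at h2
      omega
  obtain ⟨a', ha', rfl⟩ : a ∈ D.map f := hmap ▸ ha
  obtain ⟨b', hb', rfl⟩ : b ∈ D.map f := hmap ▸ hb
  refine hne (Sylow.ext ?_)
  rw [← hSmap, ← hTmap, h.eq_of_two (hS₁ ha') (hT₁ ha') (hS₁ hb') (hT₁ hb') (hord a' ha' ha2)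
    (hord b' hb' hb2) fun e => hab (by rw [e])]

/-- A 2-group with one involution is cyclic or quaternion. -/
theorem UniqueInv.isCyclic_or_quaternion {X : Subgroup G} (hX : IsPGroup 2 X)
    (h : UniqueInv X) :
    IsCyclic X ∨ ∃ n : ℕ, Nonempty (↥X ≃* QuaternionGroup (2 ^ (n + 1))) := by
  haveI := Fact.mk Nat.prime_two
  have key : ∀ H K : Subgroup ↥X, Nat.card H = 2 → Nat.card K = 2 → H = K := by
    intro H K hH hK
    have hgen : ∀ L : Subgroup ↥X, Nat.card L = 2 → ∃ l : ↥X, orderOf l = 2 ∧ L = zpowers l := by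
      intro L hL
      haveI : Fact (Nat.card L).Prime := ⟨hL ▸ Nat.prime_two⟩
      obtain ⟨⟨l, hl⟩, h1⟩ := exists_prime_orderOf_dvd_card' (G := L) 2 (hL ▸ dvd_rfl)
      rw [← Subgroup.orderOf_coe] at h1
      exact ⟨l, h1, (Subgroup.eq_of_le_of_card_ge (zpowers_le.2 hl)
        (by rw [Nat.card_zpowers, h1, hL])).symm⟩
    obtain ⟨a, ha, rfl⟩ := hgen H hH
    obtain ⟨b, hb, rfl⟩ := hgen K hK
    rw [Subtype.ext (h a a.2 b b.2 (by rwa [Subgroup.orderOf_coe]) (by rwa [Subgroup.orderOf_coe]))]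
  rcases PGroups.UniqueSubgroup.isCyclic_or_quaternion hX key with hc | ⟨-, n, ⟨e⟩⟩
  · exact Or.inl hc
  · rcases n with _ | n
    · haveI := (QuaternionGroup.quaternionGroup_one_isCyclic : IsCyclic (QuaternionGroup 1))
      rw [pow_zero] at e
      exact Or.inl (isCyclic_of_surjective e.symm.toMonoidHom e.symm.surjective)
    · exact Or.inr ⟨n, ⟨e⟩⟩

/-- With one involution and a central element of order at least four a 2-group is cyclic. -/
theorem UniqueInv.isCyclic_of_central {X : Subgroup G} (hX : IsPGroup 2 X) (h : UniqueInv X)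
    {c : G} (hc : c ∈ X) (hc2 : c * c ≠ 1) (hcen : ∀ x ∈ X, Commute c x) : IsCyclic X := by
  rcases h.isCyclic_or_quaternion hX with hcy | ⟨n, ⟨e⟩⟩
  · exact hcy
  exfalso
  refine hc2 ?_
  have h2 : 2 ≤ 2 ^ (n + 1) := by
    calc 2 = 2 ^ 1 := rfl
      _ ≤ _ := Nat.pow_le_pow_right two_pos (by omega)
  have hh := ZStar.Consequences.quaternion_center h2 (x := e ⟨c, hc⟩) fun y => by
    obtain ⟨⟨x, hx⟩, rfl⟩ := e.surjective y
    rw [← map_mul, ← map_mul]
    exact congrArg e (Subtype.ext (hcen x hx).eq.symm)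
  rw [← map_mul, MulEquiv.map_eq_one_iff] at hh
  exact congrArg Subtype.val hh

variable {G : Type u} [Group G] [Finite G]

/-- Every Sylow subgroup has two commuting involutions. -/
theorem Hyp.exists_pair (hG : Hyp G) (S : Sylow 2 G) :
    ∃ x ∈ (S : Subgroup G), ∃ y ∈ (S : Subgroup G),
      orderOf x = 2 ∧ orderOf y = 2 ∧ x ≠ y ∧ Commute x y := by
  haveI := Fact.mk Nat.prime_two
  refine exists_commuting_pair S.isPGroup' fun h => ?_
  rcases h.isCyclic_or_quaternion S.isPGroup' with hc | ⟨n, hn⟩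
  · obtain ⟨A, B, -, hAB⟩ := hG.noncyclic
    refine hAB ?_
    haveI := hc
    haveI : IsCyclic ↥(A : Subgroup G) :=
      isCyclic_of_surjective (Sylow.equiv S A).toMonoidHom (Sylow.equiv S A).surjective
    exact isCyclic_of_le (inf_le_left : (A : Subgroup G) ⊓ B ≤ A)
  · exact (hG.notQuat S n).false hn.some

/-- The 2-core has one involution. -/
theorem Hyp.uniqueInv_pCore (hG : Hyp G) : UniqueInv (Cfsg.pCore 2 G) := by
  haveI := Fact.mk Nat.prime_two
  obtain ⟨T, hT⟩ := exists_ne_sylow hG.nonsolvable (default : Sylow 2 G)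
  exact (hG.inter.uniqueInv hT).mono
    (le_inf (Agent.Cores.pCore_le_sylow T) (Agent.Cores.pCore_le_sylow default))

end Cfsg.Agent.RankOneInter
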