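import Cfsg.Prelude
import Cfsg.Agent.Lib.CTwoAbelian.Covers

/-!
# The central product of two copies of `SL(2, 5)`
-/

set_option autoImplicit false
set_option linter.unusedSectionVars false
set_option linter.style.haveILetI false

namespace Cfsg.Agent.RankOneInter

open Subgroup
open scoped MatrixGroups

universe u

/-- the group `SL(2, 5)` -/
abbrev SLFive : Type := Matrix.SpecialLinearGroup (Fin 2) (ZMod 5)

/-- the diagonal centre -/
def diagZ : Subgroup (SLFive × SLFive) := zpowers ((-1 : SLFive), (-1 : SLFive))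

theorem sq_one_zmod_five : ∀ r : ZMod 5, r ^ 2 = 1 → r = 1 ∨ r = -1 := by decide

theorem center_SLFive {a : SLFive} (h : ∀ x, x * a = a * x) : a = 1 ∨ a = -1 := by
  haveI : Fact (Nat.Prime 5) := ⟨by norm_num⟩
  obtain ⟨r, hr, hra⟩ := Matrix.SpecialLinearGroup.mem_center_iff.1 (mem_center_iff.2 h)
  rcases sq_one_zmod_five r (by simpa using hr) with rfl | rfl
  · left
    exact Subtype.ext (by rw [← hra]; simp)
  · right
    refine Subtype.ext ?_
    rw [← hra, Matrix.SpecialLinearGroup.coe_neg, Matrix.SpecialLinearGroup.coe_one, map_neg, map_one]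

theorem mem_diagZ {p : SLFive × SLFive} : p ∈ diagZ ↔ p = 1 ∨ p = (-1, -1) := by
  have h2 : ((-1, -1) : SLFive × SLFive) * (-1, -1) = 1 := by simp [Prod.ext_iff]
  constructor
  · intro h
    obtain ⟨k, rfl⟩ := mem_zpowers_iff.1 h
    rcases Int.even_or_odd k with ⟨m, rfl⟩ | ⟨m, rfl⟩
    · left; rw [zpow_add, ← (Commute.refl _).mul_zpow, h2, one_zpow]
    · right; rw [zpow_add, zpow_mul, zpow_one, zpow_two, h2, one_zpow, one_mul]
  · rintro (rfl | rfl)
    exacts [one_mem _, mem_zpowers _]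

instance diagZ_normal : diagZ.Normal := ⟨fun n hn g => by
  rcases mem_diagZ.1 hn with rfl | rfl
  · rw [mul_one, mul_inv_cancel]; exact one_mem _
  · rw [show g * (-1, -1) * g⁻¹ = ((-1, -1) : SLFive × SLFive) from Prod.ext (by simp) (by simp)]
    exact mem_zpowers _⟩

variable {K : Type u} [Group K] {A B : Subgroup K}

/-- The central product. -/
theorem central_prod (eA : ↥A ≃* SLFive) (eB : ↥B ≃* SLFive) (hc : ∀ a ∈ A, ∀ b ∈ B, Commute a b)
    (hne : A ⊓ B ≠ ⊥) : Nonempty (↥(A ⊔ B) ≃* (SLFive × SLFive) ⧸ diagZ) := by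
  have hcA : ∀ x, ∀ hx : x ∈ A, x ∈ B → eA ⟨x, hx⟩ = 1 ∨ eA ⟨x, hx⟩ = -1 := fun x hx hxB =>
    center_SLFive fun y => by
      obtain ⟨a, rfl⟩ := eA.surjective y
      rw [← map_mul, ← map_mul]
      exact congrArg eA (Subtype.ext (hc a a.2 x hxB).eq)
  have hcB : ∀ x, ∀ hx : x ∈ B, x ∈ A → eB ⟨x, hx⟩ = 1 ∨ eB ⟨x, hx⟩ = -1 := fun x hx hxA =>
    center_SLFive fun y => by
      obtain ⟨b, rfl⟩ := eB.surjective y
      rw [← map_mul, ← map_mul]
      exact congrArg eB (Subtype.ext (hc x hxA b b.2).symm.eq)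
  obtain ⟨z, hz, hz1⟩ : ∃ z ∈ A ⊓ B, z ≠ 1 := by
    by_contra hcon
    push Not at hcon
    exact hne ((eq_bot_iff_forall _).2 hcon)
  have hzA : eA ⟨z, hz.1⟩ = -1 := (hcA z hz.1 hz.2).resolve_left fun e =>
    hz1 (congrArg Subtype.val (eA.map_eq_one_iff.1 e))
  have hzB : eB ⟨z, hz.2⟩ = -1 := (hcB z hz.2 hz.1).resolve_left fun e =>
    hz1 (congrArg Subtype.val (eB.map_eq_one_iff.1 e))
  have sA : ((eA.symm (-1) : ↥A) : K) = z := by rw [← hzA, MulEquiv.symm_apply_apply]
  have sB : ((eB.symm (-1) : ↥B) : K) = z := by rw [← hzB, MulEquiv.symm_apply_apply]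
  have hz2 : z * z = 1 := by
    have h := congrArg eA.symm (show (-1 : SLFive) * -1 = 1 by simp)
    rw [map_mul, map_one] at h
    have h' := congrArg Subtype.val h
    rw [coe_mul, sA] at h'
    exact h'
  let φ : SLFive × SLFive →* K :=
    { toFun := fun p => ((eA.symm p.1 : ↥A) : K) * ((eB.symm p.2 : ↥B) : K)
      map_one' := by simp
      map_mul' := fun p q => by
        simp only [Prod.fst_mul, Prod.snd_mul, map_mul, coe_mul]
        exact Commute.mul_mul_mul_comm (hc _ (eA.symm q.1).2 _ (eB.symm p.2).2) _ _ }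
  have hφ : ∀ p : SLFive × SLFive, φ p = ((eA.symm p.1 : ↥A) : K) * ((eB.symm p.2 : ↥B) : K) := fun _ => rfl
  have hr : φ.range = A ⊔ B := by
    refine le_antisymm ?_ (sup_le (fun a ha => ⟨(eA ⟨a, ha⟩, 1), by simp [hφ]⟩)
      fun b hb => ⟨(1, eB ⟨b, hb⟩), by simp [hφ]⟩)
    rintro _ ⟨p, rfl⟩
    exact mul_mem (mem_sup_left (eA.symm p.1).2) (mem_sup_right (eB.symm p.2).2)
  have hk : φ.ker = diagZ := by
    ext p
    rw [MonoidHom.mem_ker, hφ, mem_diagZ]
    constructor
    · intro h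
      have hmemB : ((eA.symm p.1 : ↥A) : K) ∈ B := by
        rw [eq_inv_of_mul_eq_one_left h]; exact inv_mem (eB.symm p.2).2
      rcases hcA _ (eA.symm p.1).2 hmemB with e | e <;> rw [Subtype.coe_eta, MulEquiv.apply_symm_apply] at e
      · left
        rw [e, map_one, coe_one, one_mul] at h
        exact Prod.ext e (eB.symm.map_eq_one_iff.1 (Subtype.ext h))
      · right
        rw [e, sA] at h
        have h2 : ((eB.symm p.2 : ↥B) : K) = z := (mul_left_cancel (h.trans hz2.symm))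
        exact Prod.ext e (eB.symm.injective (Subtype.ext (h2.trans sB.symm)))
    · rintro (rfl | rfl)
      · simp
      · show ((eA.symm (-1) : ↥A) : K) * ((eB.symm (-1) : ↥B) : K) = 1
        rw [sA, sB, hz2]
  exact ⟨(MulEquiv.subgroupCongr hr).symm.trans
    ((QuotientGroup.quotientKerEquivRange φ).symm.trans (QuotientGroup.quotientMulEquivOfEq hk))⟩

/-- The shape in a quotient, read in the group. -/
theorem central_prod_lift {G : Type u} [Group G] (O : Subgroup G) [O.Normal] {A B : Subgroup (G ⧸ O)}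
    [hn : (A ⊔ B).Normal] (eA : ↥A ≃* SLFive) (eB : ↥B ≃* SLFive) (hc : ∀ a ∈ A, ∀ b ∈ B, Commute a b)
    (hne : A ⊓ B ≠ ⊥) :
    ∃ (G₁ : Subgroup G) (_ : G₁.Normal) (_ : (O.subgroupOf G₁).Normal),
      G₁.index = (A ⊔ B).index ∧ O ≤ G₁ ∧
      ∃ (Z : Subgroup (SLFive × SLFive)) (_ : Z.Normal),
        Z = zpowers ((-1 : SLFive), (-1 : SLFive)) ∧
        Nonempty (↥G₁ ⧸ O.subgroupOf G₁ ≃* (SLFive × SLFive) ⧸ Z) := by
  set π := QuotientGroup.mk' O with hπ
  set G₁ := (A ⊔ B).comap π with hG₁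
  have hO : O ≤ G₁ := fun x hx => by
    show π x ∈ A ⊔ B
    rw [show π x = 1 from (QuotientGroup.eq_one_iff x).2 hx]
    exact one_mem _
  refine ⟨G₁, hn.comap π, Normal.subgroupOf ‹_› _, index_comap_of_surjective _ (QuotientGroup.mk'_surjective O),
    hO, diagZ, diagZ_normal, rfl, ?_⟩
  obtain ⟨e⟩ := central_prod eA eB hc hne
  let f : ↥G₁ →* ↥(A ⊔ B) :=
    { toFun := fun x => ⟨π x, x.2⟩
      map_one' := Subtype.ext (map_one π)
      map_mul' := fun x y => Subtype.ext (map_mul π x.1 y.1) }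
  have hf : Function.Surjective f := by
    rintro ⟨y, hy⟩
    obtain ⟨x, rfl⟩ := QuotientGroup.mk'_surjective O y
    exact ⟨⟨x, hy⟩, rfl⟩
  have hk : f.ker = O.subgroupOf G₁ := by
    ext x
    rw [MonoidHom.mem_ker, mem_subgroupOf, ← QuotientGroup.eq_one_iff, ← Subtype.coe_inj]
    rfl
  exact ⟨(QuotientGroup.quotientMulEquivOfEq hk).symm.trans
    ((QuotientGroup.quotientKerEquivOfSurjective f hf).trans e)⟩

end Cfsg.Agent.RankOneInter
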