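import Cfsg.Agent.Lib.RankOneInter.Basic
import Cfsg.Agent.Lib.Components.Fitting
import Cfsg.Agent.GroupStructure3.FrattiniAut
import Cfsg.Agent.InvChar.TwoGroupThreeInvolutions

/-!
# The components

A group with trivial odd core and Sylow intersections with one involution has components, which
centralise the 2-core and have centre inside it; the 2-core and the components together are
self-centralising.
-/

set_option autoImplicit false
set_option linter.style.haveILetI false
set_option linter.unusedSectionVars false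

namespace Cfsg.Agent.RankOneInter

open Subgroup
open scoped commutatorElement
open Cfsg.Agent.Components.Basic
open Cfsg.Agent.Components.Fitting

universe u

theorem card_frattini_quotient_quaternion (n : ℕ) :
    (frattini (QuaternionGroup (2 ^ (n + 1)))).index ≤ 4 := by
  classical
  haveI := Fact.mk Nat.prime_two
  haveI : NeZero (2 ^ (n + 1)) := ⟨by positivity⟩
  haveI : NeZero (2 * 2 ^ (n + 1)) := ⟨by positivity⟩
  have hP : IsPGroup 2 (QuaternionGroup (2 ^ (n + 1))) := IsPGroup.of_card (n := n + 3) (by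
    rw [Nat.card_eq_fintype_card, QuaternionGroup.card]; ring)
  let A : QuaternionGroup (2 ^ (n + 1)) ⧸ frattini (QuaternionGroup (2 ^ (n + 1))) :=
    ((QuaternionGroup.a 1 : QuaternionGroup (2 ^ (n + 1))) :
      QuaternionGroup (2 ^ (n + 1)) ⧸ frattini (QuaternionGroup (2 ^ (n + 1))))
  have hA : A ^ 2 = 1 :=
    (QuotientGroup.eq_one_iff _).2 (GroupStructure3.FrattiniAut.pow_mem_frattini hP _)
  let f : Fin 2 × Fin 2 → QuaternionGroup (2 ^ (n + 1)) ⧸ frattini (QuaternionGroup (2 ^ (n + 1))) :=
    fun p => ((QuaternionGroup.xa 0 : QuaternionGroup (2 ^ (n + 1))) :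
      QuaternionGroup (2 ^ (n + 1)) ⧸ frattini (QuaternionGroup (2 ^ (n + 1)))) ^ (p.1 : ℕ) *
      A ^ (p.2 : ℕ)
  have ha : ∀ i : ZMod (2 * 2 ^ (n + 1)),
      ((QuaternionGroup.a i : QuaternionGroup (2 ^ (n + 1))) :
        QuaternionGroup (2 ^ (n + 1)) ⧸ frattini (QuaternionGroup (2 ^ (n + 1)))) =
        A ^ (i.val % 2) := by
    intro i
    rw [← pow_eq_pow_mod i.val hA, ← QuotientGroup.mk_pow, QuaternionGroup.a_one_pow,
      ZMod.natCast_zmod_val]
  have hf : Function.Surjective f := by
    intro y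
    obtain ⟨x, rfl⟩ := QuotientGroup.mk_surjective y
    cases x with
    | a i =>
      refine ⟨(0, ⟨i.val % 2, Nat.mod_lt _ two_pos⟩), ?_⟩
      show _ ^ 0 * A ^ (i.val % 2) = _
      rw [pow_zero, one_mul, ha]
    | xa i =>
      refine ⟨(1, ⟨i.val % 2, Nat.mod_lt _ two_pos⟩), ?_⟩
      show _ ^ 1 * A ^ (i.val % 2) = _
      rw [pow_one, ← ha, ← QuotientGroup.mk_mul, QuaternionGroup.xa_mul_a, zero_add]
  calc (frattini (QuaternionGroup (2 ^ (n + 1)))).index
      = Nat.card (QuaternionGroup (2 ^ (n + 1)) ⧸ frattini (QuaternionGroup (2 ^ (n + 1)))) :=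
        Subgroup.index_eq_card _
    _ ≤ Nat.card (Fin 2 × Fin 2) := Nat.card_le_card_of_surjective f hf
    _ = 4 := by simp

variable {G : Type u} [Group G] [Finite G]

/-- The automorphism group of a 2-group with one involution is solvable. -/
theorem isSolvable_mulAut_of_uniqueInv {P : Subgroup G} (hP : IsPGroup 2 P) (h : UniqueInv P) :
    Group.IsSolvable (MulAut ↥P) := by
  haveI := Fact.mk Nat.prime_two
  rcases h.isCyclic_or_quaternion hP with hc | ⟨n, ⟨e⟩⟩
  · haveI := hc
    let e := IsCyclic.mulAutMulEquiv P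
    exact Group.isSolvable_of_comm fun a b => e.injective (by
      rw [map_mul, map_mul]; exact mul_comm (e a) (e b))
  suffices hQ : Group.IsSolvable (MulAut (QuaternionGroup (2 ^ (n + 1)))) by
    haveI := hQ
    exact Group.isSolvable_of_isSolvable_injective (f := (MulAut.congr e).toMonoidHom)
      (MulAut.congr e).injective
  haveI : NeZero (2 ^ (n + 1)) := ⟨by positivity⟩
  have hcard : Nat.card (QuaternionGroup (2 ^ (n + 1))) = 2 ^ (n + 3) := by
    rw [Nat.card_eq_fintype_card, QuaternionGroup.card]; ring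
  obtain ⟨r, hr⟩ : ∃ r, (frattini (QuaternionGroup (2 ^ (n + 1)))).index = 2 ^ r := by
    obtain ⟨r, -, hr⟩ := (Nat.dvd_prime_pow Nat.prime_two).1
      (hcard ▸ (frattini (QuaternionGroup (2 ^ (n + 1)))).index_dvd_card)
    exact ⟨r, hr⟩
  have hr2 : r ≤ 2 := by
    have h4 := card_frattini_quotient_quaternion n
    rw [hr] at h4
    by_contra hcon
    have : 2 ^ 3 ≤ 2 ^ r := Nat.pow_le_pow_right two_pos (by omega)
    omega
  have hdvd := GroupStructure3.FrattiniAut.card_mulAut_dvd hcard hr
  refine InvChar.TwoGroupThreeInvolutions.solvable_of_primes Nat.prime_three (by norm_num)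
    fun p hp hpd => ?_
  have h6 := hpd.trans hdvd
  interval_cases r
  · simp only [Finset.range_zero, Finset.prod_empty, mul_one] at h6
    exact Or.inl ((Nat.prime_dvd_prime_iff_eq hp Nat.prime_two).1 (hp.dvd_of_dvd_pow h6))
  · simp only [Finset.prod_range_one, pow_one, pow_zero] at h6
    rcases hp.dvd_mul.1 h6 with h' | h'
    · exact Or.inl ((Nat.prime_dvd_prime_iff_eq hp Nat.prime_two).1 (hp.dvd_of_dvd_pow h'))
    · exact absurd (Nat.le_of_dvd one_pos h') (by have := hp.two_le; omega)
  · simp only [Finset.prod_range_succ, Finset.prod_range_zero, one_mul, pow_one, pow_zero] at h6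
    rcases hp.dvd_mul.1 h6 with h' | h'
    · exact Or.inl ((Nat.prime_dvd_prime_iff_eq hp Nat.prime_two).1 (hp.dvd_of_dvd_pow h'))
    · norm_num at h'
      rcases hp.dvd_mul.1 (show p ∣ 2 * 3 by norm_num; exact h') with h'' | h''
      · exact Or.inl ((Nat.prime_dvd_prime_iff_eq hp Nat.prime_two).1 h'')
      · exact Or.inr ((Nat.prime_dvd_prime_iff_eq hp Nat.prime_three).1 h'')

/-- The Fitting subgroup is the 2-core. -/
theorem Hyp.fitting_eq (hG : Hyp G) : Cfsg.fittingSubgroup G = Cfsg.pCore 2 G := by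
  haveI := Fact.mk Nat.prime_two
  refine le_antisymm ?_ (Components.Fitting.pCore_le_fitting 2)
  rw [fitting_eq_coreJoin]
  refine (coreJoin_le_sup 2).trans ?_
  rw [show Cfsg.pPrimeCore 2 G = ⊥ from hG.core, sup_bot_eq]

/-- There is a component. -/
theorem Hyp.exists_component (hG : Hyp G) : ∃ K : Subgroup G, Cfsg.IsComponent K := by
  by_contra hno
  push Not at hno
  have hgen : Cfsg.generalizedFittingSubgroup G = Cfsg.pCore 2 G := by
    rw [Cfsg.generalizedFittingSubgroup, layer_eq_bot_iff.2 hno, bot_sup_eq, hG.fitting_eq]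
  have hc := centralizer_genFitting_le (G := G)
  rw [hgen] at hc
  refine hG.nonsolvable ?_
  haveI := isSolvable_mulAut_of_uniqueInv (Agent.Cores.pCore_isPGroup (G := G) 2)
    hG.uniqueInv_pCore
  haveI : Group.IsSolvable ↥(Cfsg.pCore 2 G) :=
    ZStar.CyclicIntersections.isSolvable_isPGroup (Agent.Cores.pCore_isPGroup 2)
  refine Group.isSolvable_of_ker_le_range (Cfsg.pCore 2 G).subtype
    (MulAut.conjNormal : G →* MulAut ↥(Cfsg.pCore 2 G)) fun g hg => ?_
  rw [Subgroup.range_subtype]
  exact hc (ZStar.CyclicIntersections.mem_ker_conjNormal.1 hg)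

/-- A component centralises the 2-core. -/
theorem component_commute_pCore {K : Subgroup G} (hK : Cfsg.IsComponent K) :
    ∀ k ∈ K, ∀ p ∈ Cfsg.pCore 2 G, Commute k p := by
  have h : ⁅K, Cfsg.pCore 2 G⁆ = ⊥ :=
    component_commutator_eq_bot_of_isSolvable hK (Normal.isSubnormal inferInstance)
      (ZStar.CyclicIntersections.isSolvable_isPGroup (Agent.Cores.pCore_isPGroup 2))
  intro k hk p hp
  exact (mem_centralizer_iff.1 ((commutator_eq_bot_iff_le_centralizer.1 h) hk) p hp).symm

/-- Distinct components commute. -/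
theorem component_commute {K L : Subgroup G} (hK : Cfsg.IsComponent K) (hL : Cfsg.IsComponent L)
    (hne : K ≠ L) : ∀ k ∈ K, ∀ l ∈ L, Commute k l := fun k hk l hl =>
  (mem_centralizer_iff.1 ((commutator_eq_bot_iff_le_centralizer.1
    (component_commutator_eq_bot_of_ne hK hL hne)) hk) l hl).symm

/-- The centre of a component lies in the 2-core. -/
theorem Hyp.center_le (hG : Hyp G) {K : Subgroup G} (hK : Cfsg.IsComponent K) :
    (center ↥K).map K.subtype ≤ Cfsg.pCore 2 G := by
  rw [← hG.fitting_eq]
  refine le_fitting_of_isSubnormal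
    ((isSubnormal_map_subtype_iff hK.1 _).2 (Normal.isSubnormal inferInstance)) ?_
  haveI : Group.IsNilpotent ↥(center ↥K) := isNilpotent_of_isMulCommutative _
  exact Group.nilpotent_of_mulEquiv (equivMapOfInjective _ K.subtype K.subtype_injective)

theorem Hyp.mem_pCore_of_central (hG : Hyp G) {K : Subgroup G} (hK : Cfsg.IsComponent K) {k : G}
    (hk : k ∈ K) (hc : ∀ k' ∈ K, Commute k k') : k ∈ Cfsg.pCore 2 G :=
  hG.center_le hK ⟨⟨k, hk⟩, mem_center_iff.2 fun k' => Subtype.ext (hc k' k'.2).eq.symm, rfl⟩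

/-- An element centralising the 2-core and all components lies in the 2-core. -/
theorem Hyp.mem_pCore_of_commute (hG : Hyp G) {g : G}
    (hP : ∀ p ∈ Cfsg.pCore 2 G, Commute g p)
    (hK : ∀ K : Subgroup G, Cfsg.IsComponent K → ∀ k ∈ K, Commute g k) :
    g ∈ Cfsg.pCore 2 G := by
  set F := Cfsg.generalizedFittingSubgroup G with hF
  have hgc : g ∈ centralizer (F : Set G) := by
    have hle : F ≤ centralizer ({g} : Set G) := by
      rw [hF, Cfsg.generalizedFittingSubgroup]
      refine sup_le (layer_le fun K hK' k hk => ?_) ?_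
      · exact mem_centralizer_singleton_iff.2 (hK K hK' k hk).eq.symm
      · rw [hG.fitting_eq]
        exact fun p hp => mem_centralizer_singleton_iff.2 (hP p hp).eq.symm
    exact mem_centralizer_iff.2 fun x hx => mem_centralizer_singleton_iff.1 (hle hx)
  haveI : F.Normal := by
    rw [hF, Cfsg.generalizedFittingSubgroup]
    haveI := (layer_characteristic (G := G))
    infer_instance
  haveI : ((center ↥F).map F.subtype).Normal := inferInstance
  haveI : Group.IsNilpotent ↥(center ↥F) := isNilpotent_of_isMulCommutative _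
  have hnil : Group.IsNilpotent ↥((center ↥F).map F.subtype) :=
    Group.nilpotent_of_mulEquiv (equivMapOfInjective _ F.subtype F.subtype_injective)
  rw [← hG.fitting_eq]
  refine le_fitting hnil ⟨⟨g, centralizer_genFitting_le hgc⟩, mem_center_iff.2 fun x => ?_, rfl⟩
  exact Subtype.ext (mem_centralizer_iff.1 hgc x x.2)

/-- The only component is normal. -/
theorem normal_of_unique {K : Subgroup G} (hK : Cfsg.IsComponent K)
    (h : ∀ L : Subgroup G, Cfsg.IsComponent L → L = K) : K.Normal := by
  refine ⟨fun k hk g => ?_⟩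
  rw [← h _ (component_conj hK g)]
  exact ⟨k, hk, rfl⟩

end Cfsg.Agent.RankOneInter
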