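import Cfsg.Agent.Lib.RankOneInter.Quot
import Cfsg.Agent.Lib.Components.FourActionStructure
import Cfsg.Agent.Lib.Involutions.ThompsonTransfer
import Cfsg.Agent.Lib.ZStar.Main
import Cfsg.Agent.S0205

/-!
# A perfect double cover of a simple group: fusion

Every Sylow subgroup has an involution besides the central one whose image is central in the image of
the Sylow subgroup; so fusion in the image of a Sylow subgroup is controlled by its normalizer, and no
element central there is fixed by this normalizer.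
-/

set_option autoImplicit false
set_option linter.style.haveILetI false
set_option linter.unusedSectionVars false

namespace Cfsg.Agent.RankOneInter

open Subgroup
open scoped Pointwise commutatorElement
open Cfsg.Agent.ZStar.CyclicIntersections

universe u

variable {K L : Type u} [Group K] [Group L] [Finite K]

/-- A perfect group with centre `⟨z⟩` of order two, simple image and a second involution. -/
structure Cover (π : K →* L) (z : K) : Prop where
  surj : Function.Surjective π
  ker : ∀ k, π k = 1 ↔ k = 1 ∨ k = z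
  two : orderOf z = 2
  simple : IsSimpleGroup L
  noncomm : ¬ IsMulCommutative L
  perfect : Group.IsPerfect K
  inter : OneInv K
  pair : ∃ e : K, orderOf e = 2 ∧ e ≠ z

/-- An involution other than `z`. -/
def IsExtra (z k : K) : Prop := orderOf k = 2 ∧ k ≠ z

/-- An element of `S` whose image is central in the image of `S`. -/
def Cen (π : K →* L) (S : Sylow 2 K) (k : K) : Prop :=
  k ∈ (S : Subgroup K) ∧ ∀ s ∈ (S : Subgroup K), Commute (π k) (π s)

namespace Cover

variable {π : K →* L} {z : K} (h : Cover π z)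
include h

theorem finite_image : Finite L := Finite.of_surjective π h.surj

theorem z_ne_one : z ≠ 1 := Involutions.Basic.ne_one h.two

theorem z_sq : z * z = 1 := mul_self_of_orderOf h.two

theorem map_z : π z = 1 := (h.ker z).2 (Or.inr rfl)

theorem z_comm (k : K) : Commute k z := by
  have h1 : π (k * z * k⁻¹) = 1 := by
    rw [map_mul, map_mul, map_inv, h.map_z, mul_one, mul_inv_cancel]
  rcases (h.ker _).1 h1 with e | e
  · exact absurd (conj_eq_one_iff.1 e) h.z_ne_one
  · exact mul_inv_eq_iff_eq_mul.1 e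

theorem z_mem (S : Sylow 2 K) : z ∈ (S : Subgroup K) := by
  haveI : (zpowers z).Normal := ⟨fun n hn g => by
    obtain ⟨j, rfl⟩ := mem_zpowers_iff.1 hn
    rw [((h.z_comm g).zpow_right j).eq, mul_inv_cancel_right]
    exact zpow_mem (mem_zpowers z) j⟩
  refine Agent.Cores.pCore_le_sylow S (Agent.Cores.le_pCore (N := zpowers z) ?_ (mem_zpowers z))
  exact IsPGroup.of_card (n := 1) (by rw [Nat.card_zpowers, h.two, pow_one])

theorem eq_or_of_map_eq {a b : K} (e : π a = π b) : a = b ∨ a = b * z := by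
  have h1 : π (b⁻¹ * a) = 1 := by rw [map_mul, map_inv, e, inv_mul_cancel]
  rcases (h.ker _).1 h1 with h2 | h2
  · exact Or.inl (inv_mul_eq_one.1 h2).symm
  · exact Or.inr (inv_mul_eq_iff_eq_mul.1 h2)

theorem mem_of_map_eq (S : Sylow 2 K) {a b : K} (e : π a = π b) (hb : b ∈ (S : Subgroup K)) :
    a ∈ (S : Subgroup K) := by
  rcases h.eq_or_of_map_eq e with rfl | rfl
  exacts [hb, mul_mem hb (h.z_mem S)]

theorem comm_cases {a b : K} (e : Commute (π a) (π b)) : a * b = b * a ∨ a * b = b * a * z :=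
  h.eq_or_of_map_eq (by rw [map_mul, map_mul]; exact e.eq)

theorem sq_cases {k : K} (e : π k * π k = 1) : k * k = 1 ∨ k * k = z :=
  (h.ker _).1 (by rw [map_mul, e])

theorem isExtra_conj {k : K} (hk : IsExtra z k) (g : K) : IsExtra z (g * k * g⁻¹) := by
  refine ⟨by rw [Involutions.Basic.orderOf_conj, hk.1], fun e => hk.2 ?_⟩
  have h1 : k = g⁻¹ * z * g := by rw [← e]; group
  rwa [((h.z_comm g⁻¹).eq), inv_mul_cancel_right] at h1

theorem eq_sylow {a : K} (ha : IsExtra z a) {S T : Sylow 2 K} (hS : a ∈ (S : Subgroup K))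
    (hT : a ∈ (T : Subgroup K)) : S = T :=
  h.inter.eq_of_two hS hT (h.z_mem S) (h.z_mem T) ha.1 h.two ha.2

theorem mem_normalizer_of_extra {a g : K} {S : Sylow 2 K} (ha : IsExtra z a)
    (haS : a ∈ (S : Subgroup K)) (hg : Commute (π g) (π a)) :
    g ∈ normalizer ((S : Subgroup K) : Set K) := by
  refine Sylow.smul_eq_iff_mem_normalizer.1
    (h.eq_sylow (h.isExtra_conj ha g) (conj_mem_smul g haS) (h.mem_of_map_eq S ?_ haS))
  rw [map_mul, map_mul, map_inv, hg.eq, mul_inv_cancel_right]

theorem no_index_two : ∀ H : Subgroup K, H.index ≠ 2 := by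
  intro H hH
  haveI := Subgroup.normal_of_index_eq_two hH
  have hcard : Nat.card (K ⧸ H) = 2 := by rw [← index_eq_card, hH]
  haveI : Fact (Nat.card (K ⧸ H)).Prime := ⟨hcard ▸ Nat.prime_two⟩
  haveI : IsCyclic (K ⧸ H) := isCyclic_of_prime_card (p := 2) hcard
  letI := IsCyclic.commGroup (α := K ⧸ H)
  have hle : commutator K ≤ H := by
    rw [commutator_eq_closure, closure_le]
    rintro _ ⟨a, b, rfl⟩
    refine (QuotientGroup.eq_one_iff (N := H) _).1 ?_
    change QuotientGroup.mk' H ⁅a, b⁆ = 1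
    rw [map_commutatorElement, commutatorElement_eq_one_iff_mul_comm, mul_comm]
  haveI := h.perfect
  rw [Group.IsPerfect.commutator_eq_top, top_le_iff] at hle
  rw [hle, index_top] at hH
  omega

/-- Every Sylow subgroup has an involution other than `z`. -/
theorem exists_extra (S : Sylow 2 K) : ∃ a ∈ (S : Subgroup K), IsExtra z a := by
  haveI := Fact.mk Nat.prime_two
  obtain ⟨e, he2, hez⟩ := h.pair
  obtain ⟨U, hU⟩ := exists_sylow_mem he2
  obtain ⟨g, hg⟩ := MulAction.exists_smul_eq K U S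
  exact ⟨g * e * g⁻¹, hg ▸ conj_mem_smul g hU, h.isExtra_conj ⟨he2, hez⟩ g⟩

/-- Every Sylow subgroup has such an involution with central image. -/
theorem exists_anchor (S : Sylow 2 K) : ∃ a, IsExtra z a ∧ Cen π S a := by
  classical
  haveI := Fact.mk Nat.prime_two
  by_contra hno
  simp only [not_exists, not_and] at hno
  have hfour : ∀ a b : ↥(S : Subgroup K), a ≠ 1 → b ≠ 1 → a ≠ b → a * a = 1 → b * b = 1 →
      (∀ g, g * a = a * g) → (∀ g, g * b * g⁻¹ = b ∨ g * b * g⁻¹ = a * b) → False := by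
    intro a b ha1 hb1 hab ha2 hb2 hac hbc
    have h2 : ∀ c : ↥(S : Subgroup K), c * c = 1 → c ≠ 1 → orderOf (c : K) = 2 := fun c hc hc1 => by
      rw [Subgroup.orderOf_coe]
      exact Involutions.Basic.orderOf_two_iff.2 ⟨hc, hc1⟩
    by_cases haz : (a : K) = z
    · refine hno b ⟨h2 b hb2 hb1, fun e => hab (Subtype.ext (haz.trans e.symm))⟩
        ⟨b.2, fun s hs => ?_⟩
      have key : π (s * b * s⁻¹) = π b := by
        rcases hbc ⟨s, hs⟩ with e | e <;> have e' := congrArg Subtype.val e <;>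
          simp only [Subgroup.coe_mul, InvMemClass.coe_inv] at e'
        · rw [e']
        · rw [e', haz, map_mul, h.map_z, one_mul]
      rw [map_mul, map_mul, map_inv, mul_inv_eq_iff_eq_mul] at key
      exact key.symm
    · exact hno a ⟨h2 a ha2 ha1, haz⟩ ⟨a.2, fun s hs =>
        (show Commute (a : K) s from (congrArg Subtype.val (hac ⟨s, hs⟩)).symm).map π⟩
  rcases Components.FourAction.structure_of_no_four (T := ↥(S : Subgroup K)) S.isPGroup' ⊤
      (fun a b _ _ ha1 hb1 hab ha2 hb2 _ => hfour a b ha1 hb1 hab ha2 hb2) with huniq | ⟨r, s, n, ε, hM⟩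
  · obtain ⟨a, haS, ha⟩ := h.exists_extra S
    exact ha.2 (congrArg Subtype.val (huniq ⟨a, haS⟩ (mem_top _) ⟨z, h.z_mem S⟩ (mem_top _)
      (Subtype.ext (mul_self_of_orderOf ha.1)) (Subtype.ext h.z_sq)
      (fun e => Involutions.Basic.ne_one ha.1 (congrArg Subtype.val e))
      (fun e => h.z_ne_one (congrArg Subtype.val e))))
  · let M : Subgroup K := (zpowers r).map (S : Subgroup K).subtype
    have hrel : M.relIndex (S : Subgroup K) = 2 := by
      rw [relIndex, subgroupOf, comap_map_eq_self_of_injective (subtype_injective _),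
        index_eq_two_iff]
      refine ⟨s, fun b => ?_⟩
      rcases hM.index b (mem_top b) with h1 | h1
      · exact Or.inr ⟨h1, fun h2 => hM.s_out ((mul_mem_cancel_left h1).1 h2)⟩
      · exact Or.inl ⟨h1, fun h2 => hM.s_out ((mul_mem_cancel_left h2).1 h1)⟩
    obtain ⟨e, he2, hez⟩ := h.pair
    obtain ⟨g, hg⟩ := Involutions.ThompsonTransfer.exists_conj_mem h.no_index_two S M
      (map_subtype_le _) hrel e he2
    obtain ⟨g', hg'⟩ := Involutions.ThompsonTransfer.exists_conj_mem h.no_index_two S M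
      (map_subtype_le _) hrel z h.two
    haveI : IsCyclic ↥M := isCyclic_of_surjective _
      ((S : Subgroup K).subtype.subgroupMap_surjective (zpowers r))
    rw [(h.z_comm g').eq, mul_inv_cancel_right] at hg'
    exact (h.isExtra_conj ⟨he2, hez⟩ g).2 (eq_of_cyclic inferInstance hg hg'
      (by rw [Involutions.Basic.orderOf_conj, he2]) h.two)

/-- The elements with image commuting with that of `k`. -/
abbrev cc (π : K →* L) (k : K) : Subgroup K := (centralizer ({π k} : Set L)).comap π

theorem mem_cc {k g : K} : g ∈ cc π k ↔ Commute (π g) (π k) := mem_cent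

omit h in
theorem _root_.Cfsg.Agent.RankOneInter.Cen.le_cc {S : Sylow 2 K} {k : K} (hk : Cen π S k) :
    (S : Subgroup K) ≤ cc π k := fun s hs => mem_cent.2 (hk.2 s hs).symm

/-- A Sylow subgroup containing `k` meets `cc π k` in a Sylow subgroup. -/
theorem le_of_cc {S T : Sylow 2 K} {k : K} (hk : k ∈ (S : Subgroup K))
    (hle : (S : Subgroup K) ⊓ cc π k ≤ (T : Subgroup K)) : S = T := by
  obtain ⟨a, ha, hac⟩ := h.exists_anchor S
  exact h.eq_sylow ha hac.1 (hle ⟨hac.1, mem_cent.2 (hac.2 k hk)⟩)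

/-- Fusion in the image of a Sylow subgroup is controlled by its normalizer. -/
theorem control (S : Sylow 2 K) {k g : K} (hk : k ∈ (S : Subgroup K))
    (hg : g * k * g⁻¹ ∈ (S : Subgroup K)) :
    ∃ n ∈ normalizer ((S : Subgroup K) : Set K), π (n * k * n⁻¹) = π (g * k * g⁻¹) := by
  classical
  haveI := Fact.mk Nat.prime_two
  set M := cc π k
  have mk : ∀ T : Sylow 2 K, k ∈ (T : Subgroup K) →
      ∃ A : Sylow 2 ↥M, (A : Subgroup ↥M) = (T : Subgroup K).subgroupOf M := by
    intro T hkT
    obtain ⟨A, hA⟩ := (T.isPGroup'.comap_subtype (K := M)).exists_le_sylow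
    refine ⟨A, le_antisymm (fun a ha => ?_) hA⟩
    obtain ⟨U, hU⟩ := (A.isPGroup'.map M.subtype).exists_le_sylow
    have : T = U := h.le_of_cc hkT fun x hx =>
      hU ⟨⟨x, hx.2⟩, hA (mem_subgroupOf.2 hx.1), rfl⟩
    rw [mem_subgroupOf, this]
    exact hU (mem_map_of_mem _ ha)
  have hkT : k ∈ ((g⁻¹ • S : Sylow 2 K) : Subgroup K) := by rw [mem_smul, inv_inv]; exact hg
  obtain ⟨A, hA⟩ := mk S hk
  obtain ⟨B, hB⟩ := mk (g⁻¹ • S) hkT
  obtain ⟨c, hc⟩ := MulAction.exists_smul_eq ↥M B A
  have hcT : (c : K) • (g⁻¹ • S : Sylow 2 K) = S := by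
    refine (h.le_of_cc hk fun x hx => ?_).symm
    have hxA : (⟨x, hx.2⟩ : ↥M) ∈ (A : Subgroup ↥M) := by rw [hA, mem_subgroupOf]; exact hx.1
    rw [← hc, mem_smul, hB, mem_subgroupOf] at hxA
    rw [mem_smul]
    exact hxA
  refine ⟨g * (c : K)⁻¹, ?_, ?_⟩
  · have : ((c : K) * g⁻¹)⁻¹ ∈ normalizer ((S : Subgroup K) : Set K) :=
      inv_mem (Sylow.smul_eq_iff_mem_normalizer.1 (by rwa [mul_smul]))
    rwa [mul_inv_rev, inv_inv] at this
  · have hcc : Commute (π ((c : K)⁻¹)) (π k) := mem_cent.1 (inv_mem c.2 : (c : K)⁻¹ ∈ M)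
    simp only [mul_inv_rev, inv_inv, map_mul, map_inv] at hcc ⊢
    rw [show π g * (π c)⁻¹ * π k * (π c * (π g)⁻¹) = π g * ((π c)⁻¹ * π k * π c) * (π g)⁻¹ by group,
      hcc.eq, inv_mul_cancel_right]

/-- Conjugates of elements with central image have central image. -/
theorem cen_of_conj {S T : Sylow 2 K} {k : K} (hk : Cen π S k) {g : K}
    (hg : g * k * g⁻¹ ∈ (T : Subgroup K)) : Cen π T (g * k * g⁻¹) := by
  haveI := Fact.mk Nat.prime_two
  obtain ⟨q, hq⟩ := MulAction.exists_smul_eq K S T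
  have hgk : (q⁻¹ * g) * k * (q⁻¹ * g)⁻¹ ∈ (S : Subgroup K) := by
    rw [← hq, mem_smul] at hg
    simpa [mul_assoc] using hg
  obtain ⟨n, hn, he⟩ := h.control S hk.1 hgk
  refine ⟨hg, fun t ht => ?_⟩
  rw [← hq, mem_smul] at ht
  have h1 := (hk.2 _ (conj_mem_of_mem_normalizer hn ht)).map (MulAut.conj (π (q * n))).toMonoidHom
  have e1 : MulAut.conj (π (q * n)) (π k) = π (g * k * g⁻¹) := by
    rw [MulAut.conj_apply, show π (q * n) * π k * (π (q * n))⁻¹ =
      π q * π (n * k * n⁻¹) * (π q)⁻¹ by simp only [map_mul, map_inv, mul_inv_rev, mul_assoc], he]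
    simp only [map_mul, map_inv, mul_inv_rev, inv_inv]
    group
  have e2 : MulAut.conj (π (q * n)) (π (n⁻¹ * (q⁻¹ * t * q) * n)) = π t := by
    rw [MulAut.conj_apply, ← map_inv, ← map_mul, ← map_mul]
    congr 1
    group
  simp only [MulEquiv.coe_toMonoidHom, e1, e2] at h1
  exact h1

theorem oddCore_image : Cfsg.oddCore L = ⊥ := by
  haveI := h.simple
  haveI := h.finite_image
  rcases (inferInstance : (Cfsg.oddCore L).Normal).eq_bot_or_eq_top with e | e
  · exact e
  · exfalso
    haveI := S0205.result (G := L) (by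
      rw [← Subgroup.card_top (G := L), ← e]; exact InvChar.Core.odd_card_oddCore)
    exact h.noncomm ⟨⟨fun a b => IsSimpleGroup.comm_iff_isSolvable.2 inferInstance a b⟩⟩

/-- No involution with central image is fixed by the normalizer: it would be isolated. -/
theorem not_fixed (S : Sylow 2 K) {k : K} (hk : Cen π S k) (h1 : π k ≠ 1) (h2 : π k * π k = 1)
    (hfix : ∀ n ∈ normalizer ((S : Subgroup K) : Set K), π (n * k * n⁻¹) = π k) : False := by
  haveI := Fact.mk Nat.prime_two
  haveI := h.simple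
  haveI := h.finite_image
  have hord := Involutions.Basic.orderOf_two_iff.2 ⟨h2, h1⟩
  have hiso : Cfsg.IsIsolatedInvolution (π k) := by
    refine ⟨hord, fun y hy => ?_⟩
    obtain ⟨g, rfl⟩ := h.surj y
    by_cases hne : π g * π k * (π g)⁻¹ = π k
    · exact hne
    obtain ⟨U, hkU, hgU⟩ := exists_sylow_pair hord
      (by rw [Involutions.Basic.orderOf_conj, hord]) hy
    obtain ⟨T, -, hT⟩ := exists_sylow_lift h.surj U (D₀ := ⊥) IsPGroup.of_bot bot_le
    rw [← hT] at hkU hgU
    obtain ⟨k', hk', ek⟩ := hkU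
    obtain ⟨k'', hk'', eg⟩ := hgU
    rw [← map_inv, ← map_mul, ← map_mul] at eg
    have hkT : k ∈ (T : Subgroup K) := h.mem_of_map_eq T ek.symm hk'
    have hgT : g * k * g⁻¹ ∈ (T : Subgroup K) := h.mem_of_map_eq T eg.symm hk''
    obtain ⟨q, hq⟩ := MulAction.exists_smul_eq K S T
    have key : ∀ x : K, x * k * x⁻¹ ∈ (T : Subgroup K) → π (x * k * x⁻¹) = π (q * k * q⁻¹) := by
      intro x hx
      have hgk : (q⁻¹ * x) * k * (q⁻¹ * x)⁻¹ ∈ (S : Subgroup K) := by
        rw [← hq, mem_smul] at hx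
        simpa [mul_assoc] using hx
      obtain ⟨n, hn, he⟩ := h.control S hk.1 hgk
      rw [hfix n hn] at he
      simp only [map_mul, map_inv, mul_inv_rev, inv_inv] at he ⊢
      conv_rhs => rw [he]
      group
    have h1' := key 1 (by simpa using hkT)
    rw [one_mul, inv_one, mul_one] at h1'
    rw [← map_inv, ← map_mul, ← map_mul, key g hgT, ← h1']
  have hc := ZStar.Main.mem_center_of_isolated h.oddCore_image hiso
  rcases (inferInstance : (center L).Normal).eq_bot_or_eq_top with e | e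
  · exact h1 (mem_bot.1 (e ▸ hc))
  · exact h.noncomm ⟨⟨fun a b => (mem_center_iff.1 (e ▸ mem_top b) a)⟩⟩

end Cover

end Cfsg.Agent.RankOneInter
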