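import Cfsg.Agent.Lib.RankOneInter.SimpleComp

/-!
# A cyclic 2-core of order at least four is impossible

Preimages of intersections are cyclic, so the image of the component is on the list; its involutions
all lift or none does, and squares of lifts of a four group cannot all generate the 2-core.
-/

set_option autoImplicit false
set_option linter.style.haveILetI false
set_option linter.unusedSectionVars false

namespace Cfsg.Agent.RankOneInter

open Subgroup
open scoped Pointwise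
open Cfsg.Agent.ZStar.CyclicIntersections
open Cfsg.Agent.CyclicSylowInter

universe u

variable {G : Type u} [Group G] [Finite G] {K : Subgroup G}

/-- An element whose image lies in the image of a Sylow subgroup lies in the Sylow subgroup. -/
theorem mem_sylow_of_pr {S : Sylow 2 G} {k : G} (h : pr k ∈ (S : Subgroup G).map pr) :
    k ∈ (S : Subgroup G) := by
  obtain ⟨s, hs, e⟩ := h
  have h1 : s⁻¹ * k ∈ Cfsg.pCore 2 G := by
    rw [← pr_eq_one, map_mul, map_inv, e, inv_mul_cancel]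
  have := mul_mem hs (Agent.Cores.pCore_le_sylow S h1)
  rwa [mul_inv_cancel_left] at this

/-- An element whose square is a square in the 2-core has the image of an involution. -/
theorem exists_lift_of_square (hcen : ∀ k ∈ K, ∀ p ∈ Cfsg.pCore 2 G, Commute k p) {k p : G}
    (hk : k ∈ K) (hkP : k ∉ Cfsg.pCore 2 G) (hp : p ∈ Cfsg.pCore 2 G) (h : k * k = p * p) :
    ∃ x : G, orderOf x = 2 ∧ pr x = pr k := by
  refine ⟨k * p⁻¹, orderOf_eq_prime ?_ fun e => hkP ?_, ?_⟩
  · have hc := hcen k hk p⁻¹ (inv_mem hp)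
    rw [pow_two, hc.symm.mul_mul_mul_comm, h, mul_assoc, mul_inv_cancel_left, mul_inv_cancel]
  · rw [mul_inv_eq_one.1 e]; exact hp
  · rw [map_mul, pr_eq_one.2 (inv_mem hp), mul_one]

namespace One

variable (hK : One G K)
include hK

/-- With a central element of order four the intersections of the image are cyclic. -/
theorem cycInt_image {c : G} (hc : c ∈ Cfsg.pCore 2 G) (hc2 : c * c ≠ 1)
    (hcc : ∀ p ∈ Cfsg.pCore 2 G, Commute c p) : CycInt ↥(K.map pr) := by
  haveI := Fact.mk Nat.prime_two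
  haveI := hK.normal_map
  intro A B hne
  obtain ⟨S, hS⟩ := hK.exists_lift_sylow A
  obtain ⟨T, hT⟩ := hK.exists_lift_sylow B
  have hST : S ≠ T := by
    rintro rfl
    have key : ∀ C : Sylow 2 ↥(K.map pr), (∀ l ∈ (C : Subgroup ↥(K.map pr)),
        (l : G ⧸ Cfsg.pCore 2 G) ∈ (S : Subgroup G).map pr) →
        ((S : Subgroup G).map pr).subgroupOf (K.map pr) = (C : Subgroup ↥(K.map pr)) :=
      fun C hC => C.is_maximal' (S.isPGroup'.map pr).comap_subtype hC
    exact hne (Sylow.ext ((key A hS).symm.trans (key B hT)))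
  let Y : Subgroup G := ((S : Subgroup G) ⊓ T) ⊓ (K ⊔ zpowers c)
  have hcY : c ∈ Y := ⟨⟨Agent.Cores.pCore_le_sylow S hc, Agent.Cores.pCore_le_sylow T hc⟩,
    mem_sup_right (mem_zpowers c)⟩
  haveI : IsCyclic ↥Y := by
    refine UniqueInv.isCyclic_of_central (S.isPGroup'.to_le (inf_le_left.trans inf_le_left))
      ((hK.hyp.inter.uniqueInv hST).mono inf_le_left) hcY hc2 fun y hy => ?_
    have hle : K ⊔ zpowers c ≤ centralizer ({c} : Set G) := by
      refine sup_le (fun k hk => ?_) (zpowers_le.2 ?_)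
      · exact mem_centralizer_singleton_iff.2 (hK.commute_core hk hc).eq
      · exact mem_centralizer_singleton_iff.2 rfl
    exact (mem_centralizer_singleton_iff.1 (hle hy.2) : y * c = c * y).symm
  let X := (A : Subgroup ↥(K.map pr)) ⊓ B
  have hXle : X.map (K.map pr).subtype ≤ Y.map pr := by
    rintro _ ⟨l, hl, rfl⟩
    obtain ⟨k, hk, hkl⟩ := l.2
    exact ⟨k, ⟨⟨mem_sylow_of_pr (hkl ▸ hS l hl.1), mem_sylow_of_pr (hkl ▸ hT l hl.2)⟩,
      mem_sup_left hk⟩, hkl⟩
  haveI : IsCyclic ↥(Y.map pr) :=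
    isCyclic_of_surjective _ (MonoidHom.subgroupMap_surjective pr Y)
  haveI : IsCyclic ↥(X.map (K.map pr).subtype) := isCyclic_of_le hXle
  exact isCyclic_of_surjective _
    (equivMapOfInjective X _ (K.map pr).subtype_injective).symm.surjective

/-- A cyclic 2-core of order at least four is impossible. -/
theorem not_cyclic_four (I : Inputs.{u}) (hcyc : IsCyclic ↥(Cfsg.pCore 2 G)) {c : G}
    (hc : c ∈ Cfsg.pCore 2 G) (hc2 : c * c ≠ 1) : False := by
  classical
  haveI := Fact.mk Nat.prime_two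
  haveI := hK.normal_map
  haveI := hK.simple
  haveI := hcyc
  have hne : Cfsg.pCore 2 G ≠ ⊥ := fun e => hc2 (by
    rw [e, mem_bot] at hc; subst hc; exact one_mul 1)
  have habel : ∀ p ∈ Cfsg.pCore 2 G, ∀ q ∈ Cfsg.pCore 2 G, Commute p q := fun p hp q hq =>
    congrArg Subtype.val
      ((IsCyclic.commGroup (α := ↥(Cfsg.pCore 2 G))).mul_comm ⟨p, hp⟩ ⟨q, hq⟩)
  have hC : CycInt ↥(K.map pr) := hK.cycInt_image hc hc2 fun p hp => habel c hc p hp
  obtain ⟨hclass, -⟩ := I.facts.2 _ (I.five _ hK.noncomm hC)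
  by_cases hA : AllLift K
  · exact hK.not_cyclic_lift I hne hcyc hA
  -- no involution lifts
  have hnl : ∀ k ∈ K, k ∉ Cfsg.pCore 2 G → k * k ∈ Cfsg.pCore 2 G →
      ∀ p ∈ Cfsg.pCore 2 G, k * k ≠ p * p := by
    intro k hk hkP hkk p hp he
    refine hA fun k' hk' hkP' hkk' => ?_
    obtain ⟨x, hx, hxk⟩ := exists_lift_of_square (fun a ha b hb => hK.commute_core ha hb)
      hk hkP hp he
    have h2 : ∀ a : G, ∀ (ha : a ∈ K), a ∉ Cfsg.pCore 2 G → a * a ∈ Cfsg.pCore 2 G →
        orderOf (⟨pr a, mem_map_of_mem _ ha⟩ : ↥(K.map pr)) = 2 := fun a ha h1 h2 => by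
      refine orderOf_eq_prime (Subtype.ext ?_) fun e => h1 (pr_eq_one.1 (congrArg Subtype.val e))
      rw [SubgroupClass.coe_pow, pow_two, OneMemClass.coe_one, ← map_mul, pr_eq_one.2 h2]
    obtain ⟨d, hd⟩ := isConj_iff.1 (hclass _ _ (h2 k hk hkP hkk) (h2 k' hk' hkP' hkk'))
    obtain ⟨g, hg⟩ := QuotientGroup.mk'_surjective _ (d : G ⧸ Cfsg.pCore 2 G)
    refine ⟨g * x * g⁻¹, by rw [Involutions.Basic.orderOf_conj, hx], ?_⟩
    rw [map_mul, map_mul, map_inv, hxk, hg]
    exact congrArg Subtype.val hd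
  -- two commuting involutions of the image
  obtain ⟨a, b, ha, hb, oa, ob, hab, hac, -⟩ := (reduced_of_simple hK.noncomm hC).exists_two_central
    (default : Sylow 2 ↥(K.map pr))
  have hcomm := hac b hb
  obtain ⟨ka, hka, ea⟩ := a.2
  obtain ⟨kb, hkb, eb⟩ := b.2
  have hprod : ∀ (l : ↥(K.map pr)), l ≠ 1 → l * l = 1 → ∀ k : G, pr k = (l : G ⧸ Cfsg.pCore 2 G) →
      k ∉ Cfsg.pCore 2 G ∧ k * k ∈ Cfsg.pCore 2 G := fun l h1 h2 k hk =>
    ⟨fun h => h1 (Subtype.ext (hk.symm.trans (pr_eq_one.2 h))),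
      pr_eq_one.1 (by rw [map_mul, hk]; exact congrArg Subtype.val h2)⟩
  obtain ⟨haP, haa⟩ := hprod a (Involutions.Basic.ne_one oa) (mul_self_of_orderOf oa) ka ea
  obtain ⟨hbP, hbb⟩ := hprod b (Involutions.Basic.ne_one ob) (mul_self_of_orderOf ob) kb eb
  have hab1 : a * b ≠ 1 := fun e => hab (by
    rw [mul_eq_one_iff_eq_inv.1 e, inv_eq_of_mul_eq_one_left (mul_self_of_orderOf ob)])
  have hab2 : a * b * (a * b) = 1 := by
    rw [hcomm.symm.mul_mul_mul_comm, mul_self_of_orderOf oa, mul_self_of_orderOf ob, one_mul]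
  obtain ⟨hpP, hpp⟩ := hprod (a * b) hab1 hab2 (ka * kb) (by
    rw [map_mul, ea, eb]; rfl)
  -- the commutator is an involution of the 2-core, hence a square
  set e := kb * ka * kb⁻¹ * ka⁻¹ with he
  have heP : e ∈ Cfsg.pCore 2 G := by
    rw [← pr_eq_one, he, map_mul, map_mul, map_mul, map_inv, map_inv, ea, eb,
      show ((b : G ⧸ Cfsg.pCore 2 G) * a = a * b) from congrArg Subtype.val hcomm.eq.symm,
      mul_inv_cancel_right, mul_inv_cancel]
  have hee : e * e = 1 := by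
    have h1 : kb * ka * kb⁻¹ = e * ka := by rw [he, inv_mul_cancel_right]
    have h2 : kb * kb * ka * (kb * kb)⁻¹ = e * e * ka := by
      calc kb * kb * ka * (kb * kb)⁻¹ = kb * (kb * ka * kb⁻¹) * kb⁻¹ := by group
        _ = kb * (e * ka) * kb⁻¹ := by rw [h1]
        _ = kb * e * kb⁻¹ * (kb * ka * kb⁻¹) := by group
        _ = e * (e * ka) := by
            rw [(hK.commute_core hkb heP).eq, mul_inv_cancel_right, h1]
        _ = e * e * ka := (mul_assoc _ _ _).symm
    rw [(hK.commute_core hka hbb).symm.eq, mul_inv_cancel_right] at h2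
    exact mul_eq_right.1 h2.symm
  -- parities
  obtain ⟨g, hg⟩ := hcyc.exists_generator
  have hpar : ∀ p : G, ∀ hp : p ∈ Cfsg.pCore 2 G, (∃ q ∈ Cfsg.pCore 2 G, p = q * q) ∨
      ∃ q ∈ Cfsg.pCore 2 G, p = q * q * g := by
    intro p hp
    obtain ⟨i, hi⟩ := hg ⟨p, hp⟩
    have hi' : (g : G) ^ i = p := by
      rw [← SubgroupClass.coe_zpow]; exact congrArg Subtype.val hi
    rcases Int.even_or_odd i with ⟨j, rfl⟩ | ⟨j, rfl⟩
    · exact Or.inl ⟨(g : G) ^ j, zpow_mem g.2 j, by rw [← zpow_add, hi']⟩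
    · refine Or.inr ⟨(g : G) ^ j, zpow_mem g.2 j, ?_⟩
      rw [← zpow_add, ← zpow_add_one, ← two_mul, hi']
  have hesq : ∃ q ∈ Cfsg.pCore 2 G, e = q * q := by
    obtain ⟨i, hi⟩ := hg ⟨e, heP⟩
    have hi' : (g : G) ^ i = e := by
      rw [← SubgroupClass.coe_zpow]; exact congrArg Subtype.val hi
    have hdvd : ((orderOf (g : G) : ℕ) : ℤ) ∣ i + i := by
      rw [orderOf_dvd_iff_zpow_eq_one, zpow_add, hi', hee]
    have h4 : 4 ∣ orderOf (g : G) := by
      obtain ⟨k, hk⟩ := Agent.Cores.pCore_isPGroup (G := G) 2 g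
      have hg1 : (g : G) ^ (2 ^ k) = 1 := congrArg Subtype.val hk
      obtain ⟨m, -, hm⟩ := (Nat.dvd_prime_pow Nat.prime_two).1 (orderOf_dvd_of_pow_eq_one hg1)
      have hm2 : 2 ≤ m := by
        by_contra hlt
        obtain ⟨r, hr⟩ := hg ⟨c, hc⟩
        have hr' : (g : G) ^ r = c := by
          rw [← SubgroupClass.coe_zpow]; exact congrArg Subtype.val hr
        have hgg : (g : G) * g = 1 := by
          rw [← pow_two]
          refine orderOf_dvd_iff_pow_eq_one.1 ?_
          rw [hm]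
          exact (pow_dvd_pow 2 (by omega : m ≤ 1)).trans (by norm_num)
        exact hc2 (by rw [← hr', ← (Commute.refl (g : G)).mul_zpow, hgg, one_zpow])
      rw [hm]
      exact (show (4 : ℕ) = 2 ^ 2 by norm_num) ▸ pow_dvd_pow 2 hm2
    obtain ⟨s, hs⟩ : (2 : ℤ) ∣ i := by
      have h4' : (4 : ℤ) ∣ i + i := (Int.natCast_dvd_natCast.2 h4).trans hdvd
      omega
    exact ⟨(g : G) ^ s, zpow_mem g.2 s, by rw [← zpow_add, ← hi', hs, two_mul]⟩
  obtain ⟨qa, hqa, hqa'⟩ := (hpar _ haa).resolve_left fun ⟨q, hq, h⟩ => hnl ka hka haP haa q hq h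
  obtain ⟨qb, hqb, hqb'⟩ := (hpar _ hbb).resolve_left fun ⟨q, hq, h⟩ => hnl kb hkb hbP hbb q hq h
  obtain ⟨qe, hqe, hqe'⟩ := hesq
  have hab' : ka * kb * (ka * kb) = ka * ka * (kb * kb) * e := by
    have h1 : kb * ka = e * (ka * kb) := by rw [he]; group
    calc ka * kb * (ka * kb) = ka * (kb * ka) * kb := by group
      _ = ka * e * ka * kb * kb := by rw [h1]; group
      _ = e * (ka * ka * (kb * kb)) := by rw [(hK.commute_core hka heP).eq]; group
      _ = ka * ka * (kb * kb) * e := ((habel _ (mul_mem haa hbb) _ heP).eq).symm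
  refine hnl (ka * kb) (mul_mem hka hkb) hpP hpp (qa * qb * g * qe)
    (mul_mem (mul_mem (mul_mem hqa hqb) g.2) hqe) ?_
  rw [hab', hqa', hqb', hqe']
  letI := IsCyclic.commGroup (α := ↥(Cfsg.pCore 2 G))
  have key : ∀ x y z w : ↥(Cfsg.pCore 2 G), x * x * z * (y * y * z) * (w * w) =
      x * y * z * w * (x * y * z * w) := by intros; ac_rfl
  exact congrArg Subtype.val (key ⟨qa, hqa⟩ ⟨qb, hqb⟩ g ⟨qe, hqe⟩)

end One

end Cfsg.Agent.RankOneInter
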