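import Cfsg.Agent.Lib.RankOneInter.CoverSingle
import Cfsg.Agent.Lib.RankOneInter.CyclicFour

/-!
# The double cover: every involution of the image is the image of an involution

Central intersections of the image have rank one, so it is on the list and has one class of
involutions.
-/

set_option autoImplicit false
set_option linter.style.haveILetI false
set_option linter.unusedSectionVars false

namespace Cfsg.Agent.RankOneInter

open Subgroup
open scoped Pointwise
open Cfsg.Agent.ZStar.CyclicIntersections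
open Cfsg.Agent.CyclicSylowInter

universe u

/-- A cyclic group has rank at most one. -/
theorem rank_le_of_cyclic {G : Type*} [Group G] [Finite G] [IsCyclic G] : Cfsg.PRankLE 2 1 G := by
  intro A _ hA
  by_contra hlt
  rw [not_le, pow_one] at hlt
  classical
  haveI := Fintype.ofFinite G
  haveI := Fintype.ofFinite ↥A
  have h := IsCyclic.card_pow_eq_one_le (α := G) (n := 2) two_pos
  have hsub : (Finset.univ : Finset ↥A).map ⟨Subtype.val, Subtype.val_injective⟩ ⊆
      Finset.univ.filter fun a : G => a ^ 2 = 1 := fun a ha => by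
    simp only [Finset.mem_map, Finset.mem_univ, true_and, Function.Embedding.coeFn_mk] at ha
    obtain ⟨⟨a, ha⟩, rfl⟩ := ha
    simpa using hA a ha
  have h2 := Finset.card_le_card hsub
  rw [Finset.card_map, Finset.card_univ, ← Nat.card_eq_fintype_card] at h2
  omega

namespace Cover

variable {K L : Type u} [Group K] [Group L] [Finite K] {π : K →* L} {z : K}

theorem five (h : Cover π z) (I : Inputs.{u}) : Five L := by
  haveI := Fact.mk Nat.prime_two
  haveI := h.simple
  haveI := h.finite_image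
  refine I.central L h.noncomm fun A B hAB hcase => ?_
  rcases hcase with hbot | ⟨w, hw, hw2, U, hwU⟩
  · haveI : IsCyclic ↥((A : Subgroup L) ⊓ B) := by rw [hbot]; infer_instance
    exact rank_le_of_cyclic
  obtain ⟨k, rfl⟩ := h.surj w
  obtain ⟨T, -, hT⟩ := exists_sylow_lift h.surj A (D₀ := ⊥) IsPGroup.of_bot bot_le
  obtain ⟨T', -, hT'⟩ := exists_sylow_lift h.surj B (D₀ := ⊥) IsPGroup.of_bot bot_le
  obtain ⟨U', -, hU'⟩ := exists_sylow_lift h.surj U (D₀ := ⊥) IsPGroup.of_bot bot_le
  have hmem : ∀ {V : Sylow 2 K} {x : K}, π x ∈ (V : Subgroup K).map π → x ∈ (V : Subgroup K) := by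
    rintro V x ⟨t, ht, e⟩; exact h.mem_of_map_eq V e.symm ht
  obtain ⟨u, hu, hue⟩ := hwU
  have hkU : Cen π U' k := by
    refine ⟨hmem (hU'.symm ▸ (hue ▸ u.2)), fun s hs => ?_⟩
    have hs' : π s ∈ (U : Subgroup L) := hU' ▸ mem_map_of_mem π hs
    show π k * π s = π s * π k
    rw [← hue]
    exact (congrArg Subtype.val (mem_center_iff.1 hu ⟨π s, hs'⟩)).symm
  have hkT : k ∈ (T : Subgroup K) := hmem (hT.symm ▸ hw.1)
  have hkT' : k ∈ (T' : Subgroup K) := hmem (hT'.symm ▸ hw.2)
  have hcT : Cen π T k := by simpa using h.cen_of_conj hkU (g := 1) (by simpa using hkT)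
  have hcT' : Cen π T' k := by simpa using h.cen_of_conj hkU (g := 1) (by simpa using hkT')
  have hTT' : T ≠ T' := fun e => hAB (Sylow.ext (by rw [← hT, ← hT', e]))
  have hk1 : π k ≠ 1 := Involutions.Basic.ne_one hw2
  rcases h.sq_cases (mul_self_of_orderOf hw2) with hkk | hkk
  · refine absurd (h.eq_sylow ⟨Involutions.Basic.orderOf_two_iff.2 ⟨hkk, fun e => hk1 ?_⟩,
      fun e => hk1 ?_⟩ hkT hkT') hTT'
    · rw [e, map_one]
    · rw [e, h.map_z]
  have hcomm : ∀ s ∈ (T : Subgroup K), Commute k s := by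
    by_contra hno
    simp only [not_forall] at hno
    obtain ⟨s, hs, hks⟩ := hno
    refine h.not_central I (S := T) (c := k) ⟨hcT, hkk, ⟨s, hs, hks⟩, ?_⟩
    by_contra haway
    simp only [not_exists, not_and, not_not] at haway
    refine hTT' (Sylow.ext ?_)
    refine (T'.is_maximal' T.isPGroup' fun x hx => ?_)
    obtain ⟨i, hi⟩ := T'.isPGroup' ⟨x, hx⟩
    exact mem_of_smul_eq (Sylow.smul_eq_iff_mem_normalizer.2 (haway x (hcT'.le_cc hx)))
      ⟨i, by simpa using congrArg Subtype.val hi⟩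
  haveI : IsCyclic ↥((T : Subgroup K) ⊓ T') :=
    (h.inter.uniqueInv hTT').isCyclic_of_central (T.isPGroup'.to_le inf_le_left) ⟨hkT, hkT'⟩
      (by rw [hkk]; exact h.z_ne_one) fun y hy => hcomm y hy.1
  haveI : IsCyclic ↥(((T : Subgroup K) ⊓ T').map π) :=
    isCyclic_of_surjective _ (MonoidHom.subgroupMap_surjective π _)
  have hle : (A : Subgroup L) ⊓ B ≤ ((T : Subgroup K) ⊓ T').map π := by
    rintro l ⟨hlA, hlB⟩
    obtain ⟨t, ht, e⟩ : l ∈ (T : Subgroup K).map π := hT.symm ▸ hlA
    exact ⟨t, ⟨ht, hmem (e ▸ (hT'.symm ▸ hlB))⟩, e⟩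
  haveI : IsCyclic ↥((A : Subgroup L) ⊓ B) := isCyclic_of_le hle
  exact rank_le_of_cyclic

/-- No element has square `z`. -/
theorem sq_ne (h : Cover π z) (I : Inputs.{u}) (k : K) : k * k ≠ z := by
  intro hk
  haveI := h.finite_image
  obtain ⟨e, he2, hez⟩ := h.pair
  have ho : ∀ x : K, (x * x = 1 ∨ x * x = z) → x ≠ 1 → x ≠ z → orderOf (π x) = 2 := by
    intro x hx h1 h2
    refine Involutions.Basic.orderOf_two_iff.2 ⟨?_, fun e => ?_⟩
    · rw [← map_mul]
      rcases hx with e | e <;> rw [e]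
      exacts [map_one π, h.map_z]
    · rcases (h.ker x).1 e with e' | e'
      exacts [h1 e', h2 e']
  have hk1 : k ≠ 1 := fun e => by rw [e, one_mul] at hk; exact h.z_ne_one hk.symm
  have hkz : k ≠ z := fun e => by rw [e, h.z_sq] at hk; exact h.z_ne_one hk.symm
  obtain ⟨d, hd⟩ := isConj_iff.1 ((I.facts.2 L (h.five I)).1 (π e) (π k)
    (ho e (Or.inl (mul_self_of_orderOf he2)) (Involutions.Basic.ne_one he2) hez)
    (ho k (Or.inr hk) hk1 hkz))
  obtain ⟨g, rfl⟩ := h.surj d
  rw [← map_inv, ← map_mul, ← map_mul] at hd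
  have hge : g * e * g⁻¹ * (g * e * g⁻¹) = 1 := by
    rw [show g * e * g⁻¹ * (g * e * g⁻¹) = g * (e * e) * g⁻¹ by group, mul_self_of_orderOf he2,
      mul_one, mul_inv_cancel]
  rcases h.eq_or_of_map_eq hd.symm with e' | e' <;> rw [e'] at hk
  · exact h.z_ne_one (hk.symm.trans hge)
  · rw [(show Commute z (g * e * g⁻¹) from (h.z_comm _).symm).mul_mul_mul_comm, hge, h.z_sq,
      mul_one] at hk
    exact h.z_ne_one hk.symm

end Cover

variable {G : Type u} [Group G] [Finite G] {K : Subgroup G}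

theorem One.not_rank_two (hK : One G K) (I : Inputs.{u}) {z : G} (hz : orderOf z = 2)
    (hP : Cfsg.pCore 2 G = zpowers z) (hle : Cfsg.pCore 2 G ≤ K) {e : G} (he : e ∈ K)
    (he2 : orderOf e = 2) (hez : e ≠ z) : False := by
  have hzP : z ∈ Cfsg.pCore 2 G := hP ▸ mem_zpowers z
  have hzz : z * z = 1 := mul_self_of_orderOf hz
  have hmemP : ∀ x, x ∈ Cfsg.pCore 2 G ↔ x = 1 ∨ x = z := fun x => by
    rw [hP, mem_zpowers_iff]
    constructor
    · rintro ⟨i, rfl⟩
      rcases Int.even_or_odd' i with ⟨j, rfl | rfl⟩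
      · exact Or.inl (by rw [zpow_mul, zpow_two, hzz, one_zpow])
      · exact Or.inr (by rw [zpow_add_one, zpow_mul, zpow_two, hzz, one_zpow, one_mul])
    · rintro (rfl | rfl)
      exacts [⟨0, zpow_zero z⟩, ⟨1, zpow_one _⟩]
  have h : Cover ((pr : G →* _).subgroupMap K) (⟨z, hle hzP⟩ : ↥K) :=
    { surj := MonoidHom.subgroupMap_surjective _ K
      ker := fun k => by
        constructor
        · intro hk
          rcases (hmemP _).1 (pr_eq_one.1 (congrArg Subtype.val hk)) with e | e
          exacts [Or.inl (Subtype.ext e), Or.inr (Subtype.ext e)]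
        · rintro (rfl | rfl)
          · exact map_one _
          · exact Subtype.ext (pr_eq_one.2 hzP)
      two := by rw [Subgroup.orderOf_mk]; exact hz
      simple := hK.simple
      noncomm := hK.noncomm
      perfect := hK.perfect
      inter := hK.hyp.inter.subgroup K
      pair := ⟨⟨e, he⟩, by rw [Subgroup.orderOf_mk]; exact he2, fun e' => hez (congrArg Subtype.val e')⟩ }
  refine hK.not_cyclic_lift I (fun hb => Involutions.Basic.ne_one hz (by rwa [hb, mem_bot] at hzP))
    (hP ▸ inferInstance) fun k hk hkP hkk => ?_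
  refine ⟨k, Involutions.Basic.orderOf_two_iff.2 ⟨?_, fun e => hkP (e ▸ one_mem _)⟩, rfl⟩
  rcases (hmemP _).1 hkk with e | e
  · exact e
  · exact absurd (Subtype.ext e) (h.sq_ne I ⟨k, hk⟩)

end Cfsg.Agent.RankOneInter
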