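import Cfsg.Agent.Lib.RankOneInter.CoverPair
import Cfsg.Agent.Lib.DClassConf.Middle

/-!
# Involutions of `B` lift: a whole coset would be one class

The images of the other involutions, central in a Sylow subgroup, are a configuration with one point
each; the image of `c` is conjugate to its product with each of them at its point, so the orbit of
its image under the normalizer has even length, but this length is odd.
-/

set_option autoImplicit false
set_option linter.style.haveILetI false
set_option linter.unusedSectionVars false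

namespace Cfsg.Agent.RankOneInter

open Subgroup
open scoped Pointwise
open Cfsg.Agent.ZStar.CyclicIntersections
open Cfsg.Agent.DClassConf (Conf TransAt Multi twoEl_of_isPGroup)
open Cfsg.Agent.SETwoClosed (TwoEl)

universe u

variable {K L : Type u} [Group K] [Group L] [Finite K]

/-- A 2-element fixing a Sylow subgroup lies in it. -/
theorem mem_of_smul_eq {G : Type*} [Group G] [Finite G] {a : Sylow 2 G} {x : G} (hfix : x • a = a)
    (hx : TwoEl x) : x ∈ (a : Subgroup G) := by
  haveI := Fact.mk Nat.prime_two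
  obtain ⟨k, hk⟩ := hx
  obtain ⟨i, -, hi⟩ := (Nat.dvd_prime_pow Nat.prime_two).1 (orderOf_dvd_of_pow_eq_one hk)
  have hp : IsPGroup 2 ↥(zpowers x) := IsPGroup.of_card (n := i) (by rw [Nat.card_zpowers, hi])
  have hn : zpowers x ≤ normalizer ((a : Subgroup G) : Set G) :=
    zpowers_le.2 (Sylow.smul_eq_iff_mem_normalizer.1 hfix)
  have h := IsPGroup.to_sup_of_normal_right' hp a.isPGroup' hn
  exact (a.is_maximal' h le_sup_right).le (mem_sup_left (mem_zpowers x))

theorem Central.false_of_multi {π : K →* L} {z : K} (h : Cover π z) {S : Sylow 2 K} {c : K}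
    (hc : Central π z S c) {Q B : Subgroup K} (hQB : Split S c z Q B) (hB : MultiB S c z B) :
    False := by
  classical
  haveI := Fact.mk Nat.prime_two
  haveI := h.simple
  haveI := h.finite_image
  -- the extra involutions with central image
  have hcenB : ∀ β ∈ B, β * β = 1 → Cen π S β := by
    intro β hβ hββ
    refine ⟨hQB.B_le hβ, fun s hs => ?_⟩
    obtain ⟨q, hq, β', hβ', rfl⟩ := hQB.split s hs
    have h1 : Commute (π β) (π q) := ((hQB.comm q hq β hβ).symm).map π
    have h2 : Commute (π β) (π β') := by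
      rcases hQB.B_cen β hβ (Or.inl hββ) β' hβ' with e | e
      · exact (show Commute β β' from e).map π
      · show π β * π β' = π β' * π β
        rw [← map_mul, e, map_mul, h.map_z, mul_one, map_mul]
    rw [map_mul]; exact h1.mul_right h2
  have hsquare : ∀ β ∈ B, ∀ β' ∈ B, β * β = 1 → β' * β' = 1 → β * β' * (β * β') = 1 := by
    intro β hβ β' hβ' e e'
    rcases hQB.B_cen β hβ (Or.inl e) β' hβ' with hc' | hc'
    · rw [(show Commute β' β from hc'.symm).mul_mul_mul_comm, e, e', one_mul]
    · exfalso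
      refine hB.sq _ (mul_mem hβ hβ') ?_
      calc β * β' * (β * β') = (β' * β * z) * (β * β') := by rw [hc']
        _ = β' * β * (β * β') * z := by
            rw [mul_assoc (β' * β), ← (h.z_comm (β * β')).eq, ← mul_assoc]
        _ = z := by
            rw [show β' * β * (β * β') = β' * (β * β) * β' by group, e, mul_one, e', one_mul]
  have hextraB : ∀ k, IsExtra z k → Cen π S k → ∃ β ∈ B, β * β = 1 ∧ π β = π k := by
    intro k hk hkc
    obtain ⟨q, hq, β, hβ, rfl⟩ := hQB.split k hkc.1
    have he : q * q * (β * β) = 1 := by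
      rw [← (hQB.comm q hq β hβ).symm.mul_mul_mul_comm, mul_self_of_orderOf hk.1]
    have hq2 : q * q = (β * β)⁻¹ := eq_inv_of_mul_eq_one_left he
    rcases hQB.inter (q * q) (mul_mem hq hq) (hq2 ▸ inv_mem (mul_mem hβ hβ)) with e | e
    · refine ⟨β, hβ, ?_, ?_⟩
      · rw [e] at hq2; rw [← inv_inv (β * β), ← hq2, inv_one]
      · rcases hQB.Q_uniq q hq e with rfl | rfl
        · rw [one_mul]
        · rw [map_mul, h.map_z, one_mul]
    · exfalso
      refine hB.sq β hβ ?_
      rw [← inv_inv (β * β), ← hq2, e, inv_eq_of_mul_eq_one_right h.z_sq]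
  have hconjB : ∀ β ∈ B, β * β = 1 → π β ≠ 1 → IsExtra z β := fun β _ e h1 =>
    ⟨Involutions.Basic.orderOf_two_iff.2 ⟨e, fun e' => h1 (by rw [e', map_one])⟩,
      fun e' => h1 (by rw [e', h.map_z])⟩
  -- transport
  have hlift : ∀ a : Sylow 2 L, ∃ T : Sylow 2 K, (T : Subgroup K).map π = a := fun a =>
    (exists_sylow_lift h.surj a (D₀ := ⊥) IsPGroup.of_bot bot_le).imp fun _ hT => hT.2
  let Mem : Sylow 2 L → L → Prop := fun a l =>
    l ∈ (a : Subgroup L) ∧ (∀ s ∈ (a : Subgroup L), Commute l s) ∧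
      (l = 1 ∨ ∃ k, IsExtra z k ∧ π k = l)
  have hconj : ∀ (g : L) (a : Sylow 2 L) l, Mem a l → Mem (g • a) (g * l * g⁻¹) := by
    rintro g a l ⟨h1, h2, h3⟩
    refine ⟨conj_mem_smul g h1, fun s hs => ?_, ?_⟩
    · have h4 := (h2 _ (mem_smul.1 hs)).map (MulAut.conj g).toMonoidHom
      simpa [mul_assoc] using h4
    · rcases h3 with rfl | ⟨k, hk, rfl⟩
      · exact Or.inl (by rw [mul_one, mul_inv_cancel])
      · obtain ⟨g', rfl⟩ := h.surj g
        exact Or.inr ⟨g' * k * g'⁻¹, h.isExtra_conj hk g', by rw [map_mul, map_mul, map_inv]⟩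
  set aS := S.mapSurjective h.surj with haS
  have hmemS : ∀ l, Mem aS l ↔ ∃ β ∈ B, β * β = 1 ∧ π β = l := by
    intro l
    constructor
    · rintro ⟨h1, h2, rfl | ⟨k, hk, rfl⟩⟩
      · exact ⟨1, one_mem B, one_mul 1, map_one π⟩
      · rw [haS, Sylow.coe_mapSurjective] at h1 h2
        obtain ⟨s, hs, e⟩ := h1
        exact hextraB k hk
          ⟨h.mem_of_map_eq S e.symm hs, fun t ht => h2 _ (mem_map_of_mem π ht)⟩
    · rintro ⟨β, hβ, hββ, rfl⟩
      refine ⟨mem_mapSurjective h.surj S (hQB.B_le hβ), fun s hs => ?_, ?_⟩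
      · rw [haS, Sylow.coe_mapSurjective] at hs
        obtain ⟨t, ht, rfl⟩ := hs
        exact (hcenB β hβ hββ).2 t ht
      · by_cases h1 : π β = 1
        · exact Or.inl h1
        · exact Or.inr ⟨β, hconjB β hβ hββ h1, rfl⟩
  have hsq : ∀ a l, Mem a l → l * l = 1 := by
    rintro a l ⟨-, -, rfl | ⟨k, hk, rfl⟩⟩
    · exact one_mul 1
    · rw [← map_mul, mul_self_of_orderOf hk.1, map_one]
  have hmul : ∀ a l l', Mem a l → Mem a l' → Mem a (l * l') := by
    intro a l l' hl hl'
    obtain ⟨g, hg⟩ := MulAction.exists_smul_eq L aS a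
    subst hg
    have key : ∀ x, Mem (g • aS) x → Mem aS (g⁻¹ * x * g) := fun x hx => by
      have h1 := hconj g⁻¹ _ _ hx
      rwa [inv_smul_smul, inv_inv] at h1
    obtain ⟨β, hβ, hββ, e⟩ := (hmemS _).1 (key l hl)
    obtain ⟨β', hβ', hββ', e'⟩ := (hmemS _).1 (key l' hl')
    have h1 := hconj g _ _ ((hmemS _).2 ⟨β * β', mul_mem hβ hβ', hsquare β hβ β' hβ' hββ hββ', rfl⟩)
    rwa [map_mul, e, e', show g * (g⁻¹ * l * g * (g⁻¹ * l' * g)) * g⁻¹ = l * l' by group] at h1
  let W : Sylow 2 L → Subgroup L := fun a =>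
    { carrier := {l | Mem a l}
      one_mem' := ⟨one_mem _, fun s _ => Commute.one_left s, Or.inl rfl⟩
      mul_mem' := fun {l l'} hl hl' => hmul a l l' hl hl'
      inv_mem' := fun {l} hl => by
        show Mem a l⁻¹
        rwa [inv_eq_of_mul_eq_one_right (hsq a l hl)] }
  have hW : ∀ {a l}, l ∈ W a ↔ Mem a l := Iff.rfl
  obtain ⟨β₁, hβ₁, β₂, hβ₂, he₁, he₂, hne, hne'⟩ := hB.two
  have hfour : ∀ a, 4 ≤ Nat.card ↥(W a) := by
    intro a
    obtain ⟨g, rfl⟩ := MulAction.exists_smul_eq L aS a
    have hne1 : ∀ {β}, IsExtra z β → π β ≠ 1 := fun hb e => by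
      rcases (h.ker _).1 e with e' | e'
      exacts [Involutions.Basic.ne_one hb.1 e', hb.2 e']
    have hne12 : π β₁ ≠ π β₂ := fun e => by
      rcases h.eq_or_of_map_eq e.symm with e' | e'
      exacts [hne e', hne' e']
    have hinv : ∀ {β}, IsExtra z β → π β * π β = 1 := fun hb => by
      rw [← map_mul, mul_self_of_orderOf hb.1, map_one]
    let f : Fin 4 → L := ![1, π β₁, π β₂, π β₁ * π β₂]
    have hf : Function.Injective f := by
      have h12 : π β₁ * π β₂ ≠ 1 := fun e => hne12 (by
        rw [mul_eq_one_iff_eq_inv.1 e, inv_eq_of_mul_eq_one_right (hinv he₂)])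
      have h3 : π β₁ * π β₂ ≠ π β₁ := fun e => hne1 he₂ (mul_eq_left.1 e)
      have h4 : π β₁ * π β₂ ≠ π β₂ := fun e => hne1 he₁ (mul_eq_right.1 e)
      intro i j e
      fin_cases i <;> fin_cases j <;> simp [f] at e ⊢
      all_goals first
        | exact absurd e (hne1 he₁) | exact absurd e.symm (hne1 he₁)
        | exact absurd e (hne1 he₂) | exact absurd e.symm (hne1 he₂)
        | exact absurd e hne12 | exact absurd e.symm hne12
        | exact absurd e h12 | exact absurd e.symm h12
        | exact absurd e h3 | exact absurd e.symm h3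
        | exact absurd e h4 | exact absurd e.symm h4
        | exact e | exact absurd e (Ne.symm (hne1 he₁))
    have hfW : ∀ i, f i ∈ W aS := by
      have h1 : π β₁ ∈ W aS := (hmemS _).2 ⟨β₁, hβ₁, mul_self_of_orderOf he₁.1, rfl⟩
      have h2 : π β₂ ∈ W aS := (hmemS _).2 ⟨β₂, hβ₂, mul_self_of_orderOf he₂.1, rfl⟩
      intro i
      fin_cases i
      exacts [one_mem _, h1, h2, mul_mem h1 h2]
    have h4 := Nat.card_le_card_of_injective
      (fun i => (⟨g * f i * g⁻¹, hconj g aS _ (hfW i)⟩ : ↥(W (g • aS))))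
      fun i j e => hf (mul_left_cancel (mul_right_cancel (congrArg Subtype.val e :)))
    simpa using h4
  have hC : Conf W := by
    refine
      { conj := fun g a w hw => hconj g a w hw
        fix := fun a w hw => Sylow.smul_eq_iff_mem_normalizer.2 (le_normalizer hw.1)
        sq := fun a w hw => hsq a w hw
        four := hfour
        uniq := fun a w hw hw1 b hb => ?_
        closed := fun a x y hx hy h1 h2 => twoEl_of_isPGroup a.isPGroup'
          (mul_mem (mem_of_smul_eq hx h1) (mem_of_smul_eq hy h2))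
        central := fun a w hw s hs h2 => hw.2.1 s (mem_of_smul_eq hs h2)
        exists_ne := fun a => ?_ }
    · rcases hw.2.2 with e | ⟨k, hk, rfl⟩
      · exact absurd e hw1
      have hkb : π k ∈ (b : Subgroup L) := mem_of_smul_eq hb ⟨1, by
        rw [pow_one, pow_two]; exact hsq a _ hw⟩
      obtain ⟨T, hT⟩ := hlift a
      obtain ⟨T', hT'⟩ := hlift b
      have hmem : ∀ T : Sylow 2 K, π k ∈ (T : Subgroup K).map π → k ∈ (T : Subgroup K) := by
        rintro T ⟨t, ht, e⟩; exact h.mem_of_map_eq T e.symm ht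
      refine Sylow.ext ?_
      rw [← hT, ← hT', h.eq_sylow hk (hmem T (hT ▸ hw.1)) (hmem T' (hT' ▸ hkb))]
    · have hns : ¬ Group.IsSolvable L := fun hs =>
        h.noncomm ⟨⟨fun x y => IsSimpleGroup.comm_iff_isSolvable.2 hs x y⟩⟩
      exact exists_ne_sylow hns a
  -- the image of `c` has two points and a transitive centraliser at each
  have hcmem : ∀ a : Sylow 2 L, π c • a = a → π c ∈ (a : Subgroup L) := fun a ha =>
    mem_of_smul_eq ha ⟨1, by rw [pow_one, pow_two]; exact hc.map_sq h⟩
  have hM : Multi (Sylow 2 L) (π c) := by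
    refine ⟨Involutions.Basic.orderOf_two_iff.2 ⟨hc.map_sq h, hc.map_ne h⟩, ?_, ?_⟩
    · obtain ⟨m, hm, hmn⟩ := hc.away
      have hfix : π c • aS = aS :=
        Sylow.smul_eq_iff_mem_normalizer.2 (le_normalizer (mem_mapSurjective h.surj S hc.cen.1))
      refine ⟨aS, π m • aS, fun e => hmn ?_, hfix, ?_⟩
      · refine mem_normalizer_iff.2 fun x => ?_
        have hn : ∀ x, x ∈ (S : Subgroup K) ↔ π x ∈ (aS : Subgroup L) := fun x => by
          refine ⟨fun hx => mem_mapSurjective h.surj S hx, fun hx => ?_⟩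
          rw [haS, Sylow.coe_mapSurjective] at hx
          obtain ⟨t, ht, e⟩ := hx
          exact h.mem_of_map_eq S e.symm ht
        rw [hn, hn, map_mul, map_mul, map_inv]
        exact mem_normalizer_iff.1 (Sylow.smul_eq_iff_mem_normalizer.1 e.symm) _
      · rw [smul_smul, show π c * π m = π m * π c from (Cover.mem_cc h |>.1 hm).symm.eq, ← smul_smul,
          hfix]
    · by_contra hall
      simp only [not_exists, not_not] at hall
      have hfix : ∀ (g : L) (a : Sylow 2 L), (g * π c * g⁻¹) • a = a := fun g a => by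
        rw [mul_smul, mul_smul, hall, smul_inv_smul]
      rcases (normalClosure_normal : (normalClosure {π c}).Normal).eq_bot_or_eq_top with e | e
      · refine hc.map_ne h (mem_bot.1 ?_)
        rw [← e]
        exact subset_normalClosure (Set.mem_singleton _)
      · have hle : normalClosure {π c} ≤ (aS : Subgroup L) := by
          rw [normalClosure, closure_le]
          intro x hx
          obtain ⟨y, rfl, hy⟩ := Group.mem_conjugatesOfSet_iff.1 hx
          obtain ⟨g, rfl⟩ := isConj_iff.1 hy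
          exact mem_of_smul_eq (hfix g aS) ⟨1, by
            rw [pow_one, pow_two, show g * π c * g⁻¹ * (g * π c * g⁻¹) = g * (π c * π c) * g⁻¹ by
              group, hc.map_sq h, mul_one, mul_inv_cancel]⟩
        rw [e, top_le_iff] at hle
        haveI : Group.IsSolvable L := by
          have h1 : IsPGroup 2 ↥(⊤ : Subgroup L) := hle ▸ aS.isPGroup'
          exact isSolvable_isPGroup (h1.of_equiv Subgroup.topEquiv)
        exact h.noncomm ⟨⟨fun x y => IsSimpleGroup.comm_iff_isSolvable.2 inferInstance x y⟩⟩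
  have hT : TransAt W (π c) := by
    intro a ha u hu hu1 v hv hv1
    obtain ⟨T, hTa⟩ := hlift a
    have hcT : c ∈ (T : Subgroup K) := by
      obtain ⟨t, ht, e⟩ : π c ∈ (T : Subgroup K).map π := hTa ▸ hcmem a ha
      exact h.mem_of_map_eq T e.symm ht
    have hcenT : Cen π T c := by
      have := h.cen_of_conj hc.cen (g := 1) (by simpa using hcT)
      simpa using this
    obtain ⟨m, hm⟩ := MulAction.exists_smul_eq ↥(Cover.cc π c)
      (S.subtype hc.cen.le_cc) (T.subtype hcenT.le_cc)
    have hmT : (m : K) • S = T := by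
      refine Sylow.ext (le_antisymm ?_ ?_)
      · intro x hx
        rw [mem_smul] at hx
        have hxc : x ∈ Cover.cc π c := by
          have := mul_mem (mul_mem m.2 (hc.cen.le_cc hx)) (inv_mem m.2)
          simpa [mul_assoc] using this
        have h1 : (⟨x, hxc⟩ : ↥(Cover.cc π c)) ∈ ((m • S.subtype hc.cen.le_cc :
            Sylow 2 ↥(Cover.cc π c)) : Subgroup _) := mem_smul.2 (by
          rw [Sylow.coe_subtype, mem_subgroupOf]; exact hx)
        rw [hm, Sylow.coe_subtype, mem_subgroupOf] at h1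
        exact h1
      · intro x hx
        rw [mem_smul]
        have h1 : (⟨x, hcenT.le_cc hx⟩ : ↥(Cover.cc π c)) ∈ (T.subtype hcenT.le_cc : Subgroup _) := by
          rw [Sylow.coe_subtype, mem_subgroupOf]; exact hx
        rw [← hm, mem_smul, Sylow.coe_subtype, mem_subgroupOf] at h1
        exact h1
    have hma : π m • aS = a := by
      refine Sylow.ext ?_
      ext y
      obtain ⟨y, rfl⟩ := h.surj y
      rw [← hTa, mem_smul, haS, Sylow.coe_mapSurjective, ← map_inv, ← map_mul, ← map_mul,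
        ← hmT]
      constructor
      · rintro ⟨t, ht, e⟩
        refine mem_map_of_mem π (mem_smul.2 ?_)
        exact h.mem_of_map_eq S e.symm ht
      · rintro ⟨t, ht, e⟩
        rw [SetLike.mem_coe, mem_smul] at ht
        refine ⟨_, ht, ?_⟩
        simp only [map_mul, map_inv]
        rw [e]
    have hmc : Commute (π m) (π c) := Cover.mem_cc h |>.1 m.2
    have key : ∀ w ∈ W a, w ≠ 1 → ∃ β ∈ B, IsExtra z β ∧ (π m)⁻¹ * w * π m = π β := by
      intro w hw hw1
      have h1 := hconj (π m)⁻¹ a w hw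
      rw [inv_inv, ← hma, inv_smul_smul] at h1
      obtain ⟨β, hβ, hββ, e⟩ := (hmemS _).1 h1
      refine ⟨β, hβ, hconjB β hβ hββ fun e' => hw1 ?_, e.symm⟩
      rw [e'] at e
      rw [show w = π m * ((π m)⁻¹ * w * π m) * (π m)⁻¹ by group, ← e, mul_one, mul_inv_cancel]
    obtain ⟨β, hβ, hbe, eu⟩ := key u hu hu1
    obtain ⟨β', hβ', hbe', ev⟩ := key v hv hv1
    obtain ⟨r, hr, hrc, hconjr⟩ := hB.trans β hβ β' hβ' hbe hbe'
    have hrB : π (r * β * r⁻¹) = π β' := by
      rcases hconjr with e | e <;> rw [e]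
      rw [map_mul, h.map_z, mul_one]
    refine ⟨π m * π r * (π m)⁻¹, ?_, ?_, ?_⟩
    · exact mul_inv_eq_iff_eq_mul.2
        (((hmc.mul_left (hrc.map π)).mul_left hmc.inv_left).eq)
    · rw [← hma, smul_smul, inv_mul_cancel_right, mul_smul]
      congr 1
      refine Sylow.ext ?_
      ext y
      obtain ⟨y, rfl⟩ := h.surj y
      rw [mem_smul, haS, Sylow.coe_mapSurjective, ← map_inv, ← map_mul, ← map_mul]
      constructor
      · rintro ⟨t, ht, e⟩
        refine mem_map_of_mem π ?_
        have h1 := (mem_normalizer_iff.1 hr _).1 (h.mem_of_map_eq S e.symm ht)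
        rwa [show r * (r⁻¹ * y * r) * r⁻¹ = y by group] at h1
      · rintro ⟨t, ht, e⟩
        refine mem_map_of_mem π ((mem_normalizer_iff.1 hr _).2 ?_)
        rw [show r * (r⁻¹ * y * r) * r⁻¹ = y by group]
        exact h.mem_of_map_eq S e.symm ht
    · rw [show π m * π r * (π m)⁻¹ * u * (π m * π r * (π m)⁻¹)⁻¹ =
        π m * (π r * ((π m)⁻¹ * u * π m) * (π r)⁻¹) * (π m)⁻¹ by group, eu, ← map_inv, ← map_mul,
        ← map_mul _ (r * β), hrB, ← ev]
      group
  -- the orbit
  obtain ⟨m1, hm1⟩ : ∃ m1, π m1 = 1 := ⟨1, map_one π⟩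
  set H := normalizer ((S : Subgroup K) : Set K) with hH
  let O : Set L := {y | ∃ n ∈ H, y = π (n * c * n⁻¹)}
  have hinvO : ∀ y ∈ O, y * π β₁ ∈ O := by
    rintro _ ⟨n, hn, rfl⟩
    have hn' : ∀ x, π n⁻¹ * x * π n = (π n)⁻¹ * x * π n := fun x => by rw [map_inv]
    have hw : π (n⁻¹ * β₁ * n) ∈ W aS := by
      have hcn := h.cen_conj (hcenB β₁ hβ₁ (mul_self_of_orderOf he₁.1)) (inv_mem hn)
      rw [inv_inv] at hcn
      have hex := h.isExtra_conj he₁ n⁻¹
      rw [inv_inv] at hex
      obtain ⟨β, hβ, hββ, e⟩ := hextraB _ hex hcn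
      exact (hmemS _).2 ⟨β, hβ, hββ, e⟩
    have hfixc : π c • aS = aS :=
      Sylow.smul_eq_iff_mem_normalizer.2 (le_normalizer (mem_mapSurjective h.surj S hc.cen.1))
    obtain ⟨d, hd⟩ := isConj_iff.1 (hC.isConj_mul_W hM hT hfixc hw)
    obtain ⟨g, rfl⟩ := h.surj d
    rw [← map_inv, ← map_mul, ← map_mul, ← map_mul] at hd
    have hgS : g * c * g⁻¹ ∈ (S : Subgroup K) := h.mem_of_map_eq S hd
      (mul_mem hc.cen.1 (by
        have := (mem_normalizer_iff.1 (inv_mem hn) β₁).1 (hQB.B_le hβ₁)
        rwa [inv_inv] at this))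
    obtain ⟨n', hn', e'⟩ := h.control S hc.cen.1 hgS
    refine ⟨n * n', mul_mem hn hn', ?_⟩
    have e2 : π (n * (n' * c * n'⁻¹) * n⁻¹) = π n * π (n' * c * n'⁻¹) * π n⁻¹ := by
      rw [map_mul, map_mul]
    rw [show n * n' * c * (n * n')⁻¹ = n * (n' * c * n'⁻¹) * n⁻¹ by group, e2, e', hd]
    simp only [map_mul, map_inv]
    group
  have hβ₁ne : π β₁ ≠ 1 := fun e => by
    rcases (h.ker _).1 e with e' | e'
    exacts [Involutions.Basic.ne_one he₁.1 e', he₁.2 e']
  have hβ₁sq : π β₁ * π β₁ = 1 := by rw [← map_mul, mul_self_of_orderOf he₁.1, map_one]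
  have heven : Even (Nat.card O) := by
    let σ : Function.End O := fun y => ⟨y * π β₁, hinvO y y.2⟩
    haveI : Fintype O := Fintype.ofFinite _
    rw [Nat.card_eq_fintype_card]
    have hfix : ∀ y, σ y ≠ y := fun y hy =>
      hβ₁ne (mul_eq_left.1 (congrArg Subtype.val hy :))
    have h2 : σ ^ 2 ^ 1 = 1 := by
      rw [pow_one, pow_two]
      exact funext fun y => Subtype.ext (by
        show (y : L) * π β₁ * π β₁ = y
        rw [mul_assoc, hβ₁sq, mul_one])
    have := Equiv.Perm.card_fixedPoints_modEq (p := 2) h2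
    rw [Nat.even_iff]
    have h0 : Fintype.card (Function.fixedPoints σ) = 0 :=
      Fintype.card_eq_zero_iff.2 ⟨fun y => hfix y.1 y.2⟩
    rw [h0] at this
    exact this
  -- its length is odd
  let D : Subgroup ↥H := (Cover.cc π c).subgroupOf H
  let f : ↥H ⧸ D → O := Quotient.lift (fun n : ↥H => (⟨π ((n : K) * c * (n : K)⁻¹), n, n.2, rfl⟩ : O))
    fun n n' hnn => Subtype.ext (by
      have h1 : (n : K)⁻¹ * n' ∈ Cover.cc π c := mem_subgroupOf.1 (QuotientGroup.leftRel_apply.1 hnn)
      have h2 := Cover.mem_cc h |>.1 h1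
      show π ((n : K) * c * (n : K)⁻¹) = π ((n' : K) * c * (n' : K)⁻¹)
      rw [show (n' : K) = n * ((n : K)⁻¹ * n') by group]
      simp only [map_mul, map_inv, mul_inv_rev, inv_inv] at h2 ⊢
      rw [show π n * ((π n)⁻¹ * π n') * π c * ((π n')⁻¹ * π n * (π n)⁻¹) =
        π n * (((π n)⁻¹ * π n') * π c * ((π n)⁻¹ * π n')⁻¹) * (π n)⁻¹ by group, h2.eq,
        mul_inv_cancel_right])
  have hf : Function.Bijective f := by
    constructor
    · intro x y e
      induction x using QuotientGroup.induction_on with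
      | _ n =>
      induction y using QuotientGroup.induction_on with
      | _ n' =>
      refine QuotientGroup.eq.2 (mem_subgroupOf.2 (Cover.mem_cc h |>.2 ?_))
      have e' : π ((n : K) * c * (n : K)⁻¹) = π ((n' : K) * c * (n' : K)⁻¹) := congrArg Subtype.val e
      simp only [map_mul, map_inv] at e'
      show π ((n : K)⁻¹ * n') * π c = π c * π ((n : K)⁻¹ * n')
      rw [map_mul, map_inv, mul_assoc, show π n' * π c = π n' * π c * (π n')⁻¹ * π n' by group, ← e']
      group
    · rintro ⟨_, n, hn, rfl⟩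
      exact ⟨QuotientGroup.mk ⟨n, hn⟩, rfl⟩
  have hodd : Odd (Nat.card O) := by
    rw [← Nat.card_eq_of_bijective f hf, ← index_eq_card]
    refine Odd.of_dvd_nat ?_ (index_dvd_of_le (show (S : Subgroup K).subgroupOf H ≤ D from
      fun x hx => mem_subgroupOf.2 (hc.cen.le_cc (mem_subgroupOf.1 hx))))
    refine Odd.of_dvd_nat ?_ (relIndex_mul_index (le_normalizer (H := (S : Subgroup K))) ▸
      dvd_mul_right _ _ : (S : Subgroup K).relIndex H ∣ (S : Subgroup K).index)
    rw [Nat.odd_iff, ← Nat.two_dvd_ne_zero]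
    exact S.not_dvd_index
  exact (Nat.not_even_iff_odd.2 hodd) heven

end Cfsg.Agent.RankOneInter
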