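import Cfsg.Agent.Lib.RankOneInter.MidComp

/-!
# A central element with noncentral lift in two Sylow subgroups

Two independent involutions of its centraliser commute up to `z`, since otherwise an element central
in the image of the Sylow subgroup is fixed by the normalizer; hence the central product structure.
-/

set_option autoImplicit false
set_option linter.style.haveILetI false
set_option linter.unusedSectionVars false

namespace Cfsg.Agent.RankOneInter

open Subgroup
open scoped Pointwise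
open Cfsg.Agent.ZStar.CyclicIntersections

universe u

variable {K L : Type u} [Group K] [Group L] [Finite K]

/-- The configuration to be excluded. -/
structure Central (π : K →* L) (z : K) (S : Sylow 2 K) (c : K) : Prop where
  cen : Cen π S c
  sq : c * c = z
  moved : ∃ s ∈ (S : Subgroup K), ¬ Commute c s
  away : ∃ m ∈ Cover.cc π c, m ∉ normalizer ((S : Subgroup K) : Set K)

variable {π : K →* L} {z : K}

theorem Cover.cen_conj (h : Cover π z) {S : Sylow 2 K} {k : K} (hk : Cen π S k) {n : K}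
    (hn : n ∈ normalizer ((S : Subgroup K) : Set K)) : Cen π S (n * k * n⁻¹) :=
  h.cen_of_conj hk ((mem_normalizer_iff.1 hn k).1 hk.1)

namespace Central

variable (h : Cover π z) {S : Sylow 2 K} {c : K} (hc : Central π z S c)
include h hc

theorem map_ne : π c ≠ 1 := fun e => by
  have := hc.sq
  rcases (h.ker c).1 e with rfl | rfl
  · rw [one_mul] at this; exact h.z_ne_one this.symm
  · rw [h.z_sq] at this; exact h.z_ne_one this.symm

theorem map_sq : π c * π c = 1 := by rw [← map_mul, hc.sq, h.map_z]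

theorem conj_cases {m : K} (hm : m ∈ Cover.cc π c) : m * c * m⁻¹ = c ∨ m * c * m⁻¹ = c * z := by
  rcases h.comm_cases (Cover.mem_cc h |>.1 hm) with e | e
  · exact Or.inl (mul_inv_eq_iff_eq_mul.2 e)
  · refine Or.inr (mul_inv_eq_iff_eq_mul.2 ?_)
    rw [e, mul_assoc, mul_assoc, (h.z_comm m).eq]

theorem commute_mul {a b : K} (ha : a ∈ Cover.cc π c) (hb : b ∈ Cover.cc π c) (hna : ¬ Commute a c)
    (hnb : ¬ Commute b c) : Commute (a * b) c := by
  have e : ∀ g ∈ Cover.cc π c, ¬ Commute g c → g * c * g⁻¹ = c * z := fun g hg hn =>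
    (hc.conj_cases h hg).resolve_left fun e => hn (mul_inv_eq_iff_eq_mul.1 e)
  refine mul_inv_eq_iff_eq_mul.1 ?_
  rw [show a * b * c * (a * b)⁻¹ = a * (b * c * b⁻¹) * a⁻¹ by group, e b hb hnb,
    show a * (c * z) * a⁻¹ = (a * c * a⁻¹) * (a * z * a⁻¹) by group, e a ha hna, (h.z_comm a).eq,
    mul_inv_cancel_right, mul_assoc, h.z_sq, mul_one]

theorem exists_extra_commute : ∃ b ∈ (S : Subgroup K), IsExtra z b ∧ Commute b c := by
  classical
  haveI := Fact.mk Nat.prime_two
  by_contra hno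
  simp only [not_exists, not_and] at hno
  set X := (S : Subgroup K) ⊓ centralizer ({c} : Set K) with hX
  have hzX : z ∈ X := mem_inf.2 ⟨h.z_mem S, mem_cent.2 (h.z_comm c).symm⟩
  have huniq : UniqueInv X := by
    have key : ∀ w ∈ X, orderOf w = 2 → w = z := fun w hw hw2 => by
      by_contra hwz
      exact hno w hw.1 ⟨hw2, hwz⟩ (mem_cent.1 hw.2)
    exact fun x hx y hy hx2 hy2 => (key x hx hx2).trans (key y hy hy2).symm
  have hcyc : IsCyclic ↥X := huniq.isCyclic_of_central (S.isPGroup'.to_le inf_le_left)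
    (mem_inf.2 ⟨hc.cen.1, mem_cent.2 (Commute.refl c)⟩) (by rw [hc.sq]; exact h.z_ne_one)
    fun y hy => (mem_cent.1 hy.2).symm
  obtain ⟨s0, hs0, hs0c⟩ := hc.moved
  have hle := hc.cen.le_cc
  have hrel : X.relIndex (S : Subgroup K) = 2 := by
    rw [relIndex, index_eq_two_iff]
    refine ⟨⟨s0, hs0⟩, fun b => ?_⟩
    simp only [mem_subgroupOf, Subgroup.coe_mul, hX, mem_inf, mem_cent, b.2, true_and,
      mul_mem b.2 hs0]
    by_cases hb : Commute (b : K) c
    · refine Or.inr ⟨hb, fun e => hs0c ?_⟩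
      have := (hb.inv_left.mul_left e)
      rw [inv_mul_cancel_left] at this
      exact this.symm
    · exact Or.inl ⟨hc.commute_mul h (hle b.2) (hle hs0) hb fun e => hs0c e.symm, hb⟩
  obtain ⟨e, he2, hez⟩ := h.pair
  obtain ⟨g, hg⟩ := Involutions.ThompsonTransfer.exists_conj_mem h.no_index_two S X inf_le_left hrel
    e he2
  exact (h.isExtra_conj ⟨he2, hez⟩ g).2 (eq_of_cyclic hcyc hg hzX
    (by rw [Involutions.Basic.orderOf_conj, he2]) h.two)

theorem exists_pair : ∃ b ∈ (S : Subgroup K), ∃ b' ∈ (S : Subgroup K), IsExtra z b ∧ IsExtra z b' ∧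
    Commute b c ∧ Commute b' c ∧ (b * b' = b' * b ∨ b * b' = b' * b * z) ∧ b * b' ∉ zpowers c := by
  classical
  haveI := Fact.mk Nat.prime_two
  by_contra hno
  simp only [not_exists, not_and, not_not] at hno
  obtain ⟨b, hbS, hb, hbc⟩ := hc.exists_extra_commute h
  have hcpow : ∀ x ∈ zpowers c, x = 1 ∨ x = z ∨ x = c ∨ x = c * z := by
    intro x hx
    obtain ⟨i, rfl⟩ := mem_zpowers_iff.1 hx
    rcases Int.even_or_odd' i with ⟨j, rfl | rfl⟩
    · rw [zpow_mul, zpow_two, hc.sq]
      rcases Int.even_or_odd' j with ⟨l, rfl | rfl⟩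
      · exact Or.inl (by rw [zpow_mul, zpow_two, h.z_sq, one_zpow])
      · exact Or.inr (Or.inl (by rw [zpow_add_one, zpow_mul, zpow_two, h.z_sq, one_zpow, one_mul]))
    · rw [zpow_add_one, zpow_mul, zpow_two, hc.sq]
      rcases Int.even_or_odd' j with ⟨l, rfl | rfl⟩
      · exact Or.inr (Or.inr (Or.inl (by rw [zpow_mul, zpow_two, h.z_sq, one_zpow, one_mul])))
      · exact Or.inr (Or.inr (Or.inr (by
          rw [zpow_add_one, zpow_mul, zpow_two, h.z_sq, one_zpow, one_mul, (h.z_comm c).eq])))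
  have hnear : ∀ b' ∈ (S : Subgroup K), IsExtra z b' → Commute b' c →
      (b * b' = b' * b ∨ b * b' = b' * b * z) → b' = b ∨ b' = b * z := by
    intro b' hb'S hb' hb'c hcm
    have hbi : b⁻¹ = b := inv_eq_of_mul_eq_one_left (mul_self_of_orderOf hb.1)
    have hmul : ∀ x, b * b' = x → b' = b * x := fun x e => by
      rw [← e, ← mul_assoc, mul_self_of_orderOf hb.1, one_mul]
    rcases hcpow _ (hno b hbS b' hb'S hb hb' hbc hb'c hcm) with e | e | e | e
    · exact Or.inl (by rw [hmul 1 e, mul_one])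
    · exact Or.inr (hmul z e)
    all_goals
      exfalso
      have h1 := mul_self_of_orderOf hb'.1
      rw [hmul _ e] at h1
    · rw [hbc.symm.mul_mul_mul_comm, mul_self_of_orderOf hb.1, one_mul, hc.sq] at h1
      exact h.z_ne_one h1
    · rw [(hbc.mul_right (h.z_comm b)).symm.mul_mul_mul_comm, mul_self_of_orderOf hb.1, one_mul,
        (show Commute z c from (h.z_comm c).symm).mul_mul_mul_comm, hc.sq, h.z_sq, mul_one] at h1
      exact h.z_ne_one h1
  have hall : ∀ b' ∈ (S : Subgroup K), IsExtra z b' → Commute b' c → b' = b ∨ b' = b * z := by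
    intro b' hb'S hb' hb'c
    by_cases hcm : b * b' = b' * b ∨ b * b' = b' * b * z
    · exact hnear b' hb'S hb' hb'c hcm
    exfalso
    obtain ⟨k, hk⟩ := IsPGroup.iff_orderOf.1 S.isPGroup' ⟨b * b', mul_mem hbS hb'S⟩
    rw [Subgroup.orderOf_mk] at hk
    have hbi : b⁻¹ = b := inv_eq_of_mul_eq_one_left (mul_self_of_orderOf hb.1)
    have hb'i : b'⁻¹ = b' := inv_eq_of_mul_eq_one_left (mul_self_of_orderOf hb'.1)
    set u := b * b' with hu
    have hbu : b * u * b⁻¹ = u⁻¹ := by
      rw [hu, mul_inv_rev, hbi, hb'i, ← mul_assoc, mul_self_of_orderOf hb.1, one_mul]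
    have huc : Commute u c := hbc.mul_left hb'c
    have huS : u ∈ (S : Subgroup K) := mul_mem hbS hb'S
    match k, hk with
    | 0, hk =>
      refine hcm (Or.inl ?_)
      have e : u = 1 := orderOf_eq_one_iff.1 (by simpa using hk)
      rw [show u = b * b' from rfl, mul_eq_one_iff_eq_inv.1 (show b * b' = 1 from e), hb'i]
    | 1, hk =>
      refine hcm (Or.inl ?_)
      have e : u * u = 1 := mul_self_of_orderOf (by simpa using hk)
      calc b * b' = (b * b')⁻¹ := (inv_eq_of_mul_eq_one_right e).symm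
        _ = b' * b := by rw [mul_inv_rev, hbi, hb'i]
    | (n + 2), hk =>
      set r := u ^ (2 ^ n) with hr
      set w := r * r with hw
      have hw2 : orderOf w = 2 := by
        rw [hw, hr, ← pow_add, show 2 ^ n + 2 ^ n = 2 ^ (n + 1) by ring,
          orderOf_pow' _ (by positivity), hk,
          Nat.gcd_eq_right (pow_dvd_pow 2 (by omega)), Nat.pow_div (by omega) two_pos,
          show n + 2 - (n + 1) = 1 by omega, pow_one]
      have hwc : Commute w c := ((huc.pow_left _).mul_left (huc.pow_left _))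
      have hbr : b * r * b⁻¹ = r⁻¹ := by rw [hr, ← conj_pow, hbu, inv_pow]
      have hbw : Commute b w := by
        refine mul_inv_eq_iff_eq_mul.1 ?_
        rw [hw, show b * (r * r) * b⁻¹ = (b * r * b⁻¹) * (b * r * b⁻¹) by group, hbr,
          ← mul_inv_rev]
        exact inv_eq_of_mul_eq_one_right (mul_self_of_orderOf hw2)
      have hwz : w = z := by
        by_contra hwz
        have hwu : Commute w u := ((Commute.refl u).pow_left _).mul_left ((Commute.refl u).pow_left _)
        have hbu' : Commute b u := by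
          rcases hnear w (mul_mem (pow_mem huS _) (pow_mem huS _)) ⟨hw2, hwz⟩ hwc (Or.inl hbw.eq)
            with e | e
          · rwa [e] at hwu
          · rw [e] at hwu
            have h2 := hwu.mul_left (h.z_comm u).symm
            rwa [mul_assoc, h.z_sq, mul_one] at h2
        refine hcm (Or.inl ?_)
        have h2 := ((Commute.refl b).inv_right.mul_right hbu')
        rw [hu, inv_mul_cancel_left] at h2
        exact h2
      have hbr' : b * r = r * b * z := by
        have h1 : r⁻¹ = r * z := inv_eq_of_mul_eq_one_right (by rw [← mul_assoc, ← hw, hwz, h.z_sq])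
        rw [h1, mul_inv_eq_iff_eq_mul] at hbr
        rw [hbr, mul_assoc, mul_assoc, (h.z_comm b).eq]
      have hrc : Commute r c := huc.pow_left _
      have hnc : ¬ Commute b r := fun e => by
        rw [e.eq] at hbr'
        exact h.z_ne_one (mul_eq_left.1 hbr'.symm)
      have he2 : orderOf (r * c) = 2 := by
        refine orderOf_eq_prime ?_ fun e => ?_
        · rw [pow_two, hrc.symm.mul_mul_mul_comm, ← hw, hwz, hc.sq, h.z_sq]
        · rw [mul_eq_one_iff_eq_inv.1 e] at hnc
          exact hnc hbc.inv_right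
      have hez : r * c ≠ z := fun e => hnc (by
        rw [eq_mul_inv_of_mul_eq e]; exact (h.z_comm b).mul_right hbc.inv_right)
      have hcomm : b * (r * c) = r * c * b * z := by
        rw [← mul_assoc, hbr', mul_assoc (r * b) z c, ← (h.z_comm c).eq, ← mul_assoc,
          mul_assoc r b c, hbc.eq, ← mul_assoc]
      have hne : b * (r * c) ≠ r * c * b := fun e => by
        rw [hcomm] at e
        exact h.z_ne_one (mul_eq_left.1 e)
      rcases hnear (r * c) (mul_mem (pow_mem huS _) hc.cen.1) ⟨he2, hez⟩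
        (hrc.mul_left (Commute.refl c)) (Or.inr hcomm) with e | e <;> rw [e] at hne
      · exact hne rfl
      · exact hne ((Commute.refl b).mul_right (h.z_comm b)).eq
  -- elements central in the image
  obtain ⟨s0, hs0, hs0c⟩ := hc.moved
  have hle := hc.cen.le_cc
  have hbcen : Cen π S b := by
    refine ⟨hbS, fun s hs => ?_⟩
    have hconj : s * b * s⁻¹ = b ∨ s * b * s⁻¹ = b * z := by
      refine hall _ (mul_mem (mul_mem hs hbS) (inv_mem hs)) (h.isExtra_conj hb s) ?_
      have h1 := hbc.map (MulAut.conj s).toMonoidHom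
      simp only [MulEquiv.coe_toMonoidHom, MulAut.conj_apply] at h1
      rcases hc.conj_cases h (hle hs) with e | e <;> rw [e] at h1
      · exact h1
      · have h2 := h1.mul_right (h.z_comm (s * b * s⁻¹))
        rwa [mul_assoc c z z, h.z_sq, mul_one] at h2
    have h1 : π (s * b * s⁻¹) = π b := by
      rcases hconj with e | e <;> rw [e]
      rw [map_mul, h.map_z, mul_one]
    rw [map_mul, map_mul, map_inv, mul_inv_eq_iff_eq_mul] at h1
    exact h1.symm
  have hbne : π b ≠ 1 := fun e => by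
    rcases (h.ker b).1 e with e' | e'
    exacts [Involutions.Basic.ne_one hb.1 e', hb.2 e']
  have hb2 : π b * π b = 1 := by rw [← map_mul, mul_self_of_orderOf hb.1, map_one]
  have hY : ∀ y, Cen π S y → (y * y = 1 ∨ y * y = z) → Commute y c →
      π y = 1 ∨ π y = π b ∨ π y = π c ∨ π y = π b * π c := by
    intro y hy hsq hyc
    rcases hsq with e | e
    · by_cases hy1 : y = 1
      · exact Or.inl (by rw [hy1, map_one])
      by_cases hyz : y = z
      · exact Or.inl (by rw [hyz, h.map_z])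
      rcases hall y hy.1 ⟨Involutions.Basic.orderOf_two_iff.2 ⟨e, hy1⟩, hyz⟩ hyc with e' | e'
      · exact Or.inr (Or.inl (by rw [e']))
      · exact Or.inr (Or.inl (by rw [e', map_mul, h.map_z, mul_one]))
    · have e2 : y * c * (y * c) = 1 := by rw [hyc.symm.mul_mul_mul_comm, e, hc.sq, h.z_sq]
      have hcc : π c⁻¹ = π c := by rw [map_inv]; exact inv_eq_of_mul_eq_one_right (hc.map_sq h)
      have hy' : y = y * c * c⁻¹ := by rw [mul_inv_cancel_right]
      by_cases h1 : y * c = 1
      · exact Or.inr (Or.inr (Or.inl (by rw [hy', h1, one_mul, hcc])))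
      by_cases h2 : y * c = z
      · exact Or.inr (Or.inr (Or.inl (by rw [hy', h2, map_mul, h.map_z, one_mul, hcc])))
      rcases hall (y * c) (mul_mem hy.1 hc.cen.1) ⟨Involutions.Basic.orderOf_two_iff.2 ⟨e2, h1⟩, h2⟩
        (hyc.mul_left (Commute.refl c)) with e' | e'
      · exact Or.inr (Or.inr (Or.inr (by rw [hy', e', map_mul, hcc])))
      · exact Or.inr (Or.inr (Or.inr (by rw [hy', e', map_mul, map_mul, h.map_z, mul_one, hcc])))
  by_cases hA : ∀ y, Cen π S y → (y * y = 1 ∨ y * y = z) → Commute y c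
  · refine h.not_fixed S hbcen hbne hb2 fun n hn => ?_
    have hcn := h.cen_conj hbcen hn
    have hex := h.isExtra_conj hb n
    rcases hall _ hcn.1 hex (hA _ hcn (Or.inl (mul_self_of_orderOf hex.1))) with e | e <;> rw [e]
    rw [map_mul, h.map_z, mul_one]
  simp only [not_forall] at hA
  obtain ⟨u, hu, husq, huc⟩ := hA
  -- the radical element
  set r := if Commute b u then b else b * c with hr
  have hrcen : Cen π S r := by
    rw [hr]; split_ifs
    · exact hbcen
    · exact ⟨mul_mem hbS hc.cen.1, fun s hs => by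
        rw [map_mul]; exact (hbcen.2 s hs).mul_left (hc.cen.2 s hs)⟩
  have hbu : b * u = u * b ∨ b * u = u * b * z := h.comm_cases (hbcen.2 u hu.1)
  have hcu : c * u = u * c * z := (h.comm_cases (hc.cen.2 u hu.1)).resolve_left fun e =>
    huc (Eq.symm e)
  have hru : Commute r u := by
    rw [hr]; split_ifs with e
    · exact e
    · show b * c * u = u * (b * c)
      rw [mul_assoc, hcu, ← mul_assoc, ← mul_assoc, hbu.resolve_left e, mul_assoc (u * b) z c,
        ← (h.z_comm c).eq, ← mul_assoc, mul_assoc (u * b * c) z z, h.z_sq, mul_one, mul_assoc]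
  have hrsq : r * r = 1 ∨ r * r = z := by
    rw [hr]; split_ifs
    · exact Or.inl (mul_self_of_orderOf hb.1)
    · exact Or.inr (by rw [hbc.symm.mul_mul_mul_comm, mul_self_of_orderOf hb.1, one_mul, hc.sq])
  have hrne : π r ≠ 1 := by
    rw [hr]; split_ifs
    · exact hbne
    · intro e
      have h1 : b = b * c * c⁻¹ := (mul_inv_cancel_right b c).symm
      have h2 : π b = π c := by
        rw [h1, map_mul, e, one_mul, map_inv]
        exact inv_eq_of_mul_eq_one_right (hc.map_sq h)
      rcases h.eq_or_of_map_eq h2 with e' | e' <;>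
      · have := mul_self_of_orderOf hb.1
        rw [e'] at this
        first
          | exact h.z_ne_one (hc.sq.symm.trans this)
          | (rw [(show Commute z c from (h.z_comm c).symm).mul_mul_mul_comm, hc.sq, h.z_sq, mul_one] at this
             exact h.z_ne_one this)
  have hrY : ∀ y, Cen π S y → (y * y = 1 ∨ y * y = z) → Commute y c → Commute r y := by
    intro y hy hsq hyc
    have hbb : Commute r b := by
      rw [hr]; split_ifs
      exacts [Commute.refl b, (Commute.refl b).mul_left hbc.symm]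
    have hrc : Commute r c := by
      rw [hr]; split_ifs
      exacts [hbc, hbc.mul_left (Commute.refl c)]
    have key : ∀ x, Commute r x → π y = π x → Commute r y := fun x hx e => by
      rcases h.eq_or_of_map_eq e with rfl | rfl
      exacts [hx, hx.mul_right (h.z_comm r)]
    rcases hY y hy hsq hyc with e | e | e | e
    · exact key 1 (Commute.one_right r) (e.trans (map_one π).symm)
    · exact key b hbb e
    · exact key c hrc e
    · exact key (b * c) (hbb.mul_right hrc) (by rw [e, map_mul])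
  have hrall : ∀ y, Cen π S y → (y * y = 1 ∨ y * y = z) → Commute r y := by
    intro y hy hsq
    by_cases hyc : Commute y c
    · exact hrY y hy hsq hyc
    have hyu : Cen π S (y * u) := ⟨mul_mem hy.1 hu.1, fun s hs => by
      rw [map_mul]; exact (hy.2 s hs).mul_left (hu.2 s hs)⟩
    have hinv : ∀ x, (x * x = 1 ∨ x * x = z) → π x * π x = 1 := fun x hx => by
      rw [← map_mul]; rcases hx with e | e <;> rw [e]
      exacts [map_one π, h.map_z]
    have hyu2 : y * u * (y * u) = 1 ∨ y * u * (y * u) = z := h.sq_cases (by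
      rw [map_mul, (hy.2 u hu.1).symm.mul_mul_mul_comm, hinv y hsq, hinv u husq, one_mul])
    have h1 := hrY _ hyu hyu2 (hc.commute_mul h (hle hy.1) (hle hu.1) hyc huc)
    have h2 := h1.mul_right hru.inv_right
    rwa [mul_inv_cancel_right] at h2
  have hr2 : π r * π r = 1 := by
    rw [← map_mul]; rcases hrsq with e | e <;> rw [e]
    exacts [map_one π, h.map_z]
  refine h.not_fixed S hrcen hrne hr2 fun n hn => ?_
  set k := n * r * n⁻¹ with hk
  have hkcen : Cen π S k := h.cen_conj hrcen hn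
  have hksq : k * k = 1 ∨ k * k = z := by
    rw [hk, show n * r * n⁻¹ * (n * r * n⁻¹) = n * (r * r) * n⁻¹ by group]
    rcases hrsq with e | e <;> rw [e]
    · exact Or.inl (by rw [mul_one, mul_inv_cancel])
    · exact Or.inr (by rw [(h.z_comm n).eq, mul_inv_cancel_right])
  have hkall : ∀ y, Cen π S y → (y * y = 1 ∨ y * y = z) → Commute k y := by
    intro y hy hsq
    have h0 := hrall _ (h.cen_conj hy (inv_mem hn)) (by
      rw [show n⁻¹ * y * n⁻¹⁻¹ * (n⁻¹ * y * n⁻¹⁻¹) = n⁻¹ * (y * y) * n by group]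
      rcases hsq with e | e <;> rw [e]
      · exact Or.inl (by rw [mul_one, inv_mul_cancel])
      · exact Or.inr (by rw [(h.z_comm n⁻¹).eq, inv_mul_cancel_right]))
    have h1 := h0.map (MulAut.conj n).toMonoidHom
    simpa [hk, mul_assoc] using h1
  have hku := hkall u hu husq
  have hbc' : ∀ x, π k = π x → Commute x u := fun x e => by
    rcases h.eq_or_of_map_eq e.symm with e' | e'
    · exact e'.symm ▸ hku
    · exact e'.symm ▸ hku.mul_left (h.z_comm u).symm
  rcases hY k hkcen hksq (hkall c hc.cen (Or.inr hc.sq)) with e | e | e | e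
  · refine absurd ?_ hrne
    rw [hk, map_mul, map_mul, map_inv, mul_inv_eq_one, mul_eq_left] at e
    exact e
  · rw [e, hr, if_pos (hbc' b e)]
  · exact absurd (hbc' c e).symm huc
  · have hbu' : ¬ Commute b u := fun hbu' => by
      have h1 := hbu'.inv_left.mul_left (hbc' (b * c) (by rw [e, map_mul]))
      rw [inv_mul_cancel_left] at h1
      exact huc h1.symm
    rw [e, hr, if_neg hbu', map_mul]

theorem mid (hsub : (S : Subgroup K) ≤ Cover.cc π c) :
    Mid (M := ↥(Cover.cc π c)) (S.subtype hsub) ⟨c, hsub hc.cen.1⟩ ⟨z, hsub (h.z_mem S)⟩ := by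
  have hmemS : ∀ {x : ↥(Cover.cc π c)},
      x ∈ (S.subtype hsub : Subgroup ↥(Cover.cc π c)) ↔ (x : K) ∈ (S : Subgroup K) := fun {x} => by
    rw [Sylow.coe_subtype, mem_subgroupOf]
  refine ⟨h.inter.subgroup _, by rw [Subgroup.orderOf_mk]; exact h.two,
    fun m => Subtype.ext (h.z_comm m).eq, Subtype.ext hc.sq, hmemS.2 hc.cen.1, fun m => ?_, ?_, ?_, ?_⟩
  · rcases hc.conj_cases h m.2 with e | e
    exacts [Or.inl (Subtype.ext e), Or.inr (Subtype.ext e)]
  · obtain ⟨s, hs, hsc⟩ := hc.moved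
    exact ⟨⟨s, hsub hs⟩, hmemS.2 hs, fun e => hsc (congrArg Subtype.val e.eq)⟩
  · obtain ⟨m, hm, hmn⟩ := hc.away
    refine ⟨⟨m, hm⟩, fun hn => hmn (mem_normalizer_iff.2 fun x => ⟨fun hx => ?_, fun hx => ?_⟩)⟩
    · exact hmemS.1 ((mem_normalizer_iff.1 hn ⟨x, hsub hx⟩).1 (hmemS.2 hx))
    · have hx' : x ∈ Cover.cc π c := by
        have := mul_mem (mul_mem (inv_mem hm) (hsub hx)) hm
        rwa [show m⁻¹ * (m * x * m⁻¹) * m = x by group] at this
      exact hmemS.1 ((mem_normalizer_iff.1 hn ⟨x, hx'⟩).2 (hmemS.2 hx))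
  · obtain ⟨b, hb, b', hb', he, he', hbc, hb'c, hcm, hind⟩ := hc.exists_pair h
    refine ⟨⟨b, hsub hb⟩, hmemS.2 hb, ⟨b', hsub hb'⟩, hmemS.2 hb',
      ⟨by rw [Subgroup.orderOf_mk]; exact he.1, fun e => he.2 (congrArg Subtype.val e)⟩,
      ⟨by rw [Subgroup.orderOf_mk]; exact he'.1, fun e => he'.2 (congrArg Subtype.val e)⟩,
      Subtype.ext hbc.eq, Subtype.ext hb'c.eq, ?_, fun e => hind ?_⟩
    · rcases hcm with e | e
      exacts [Or.inl (Subtype.ext e), Or.inr (Subtype.ext e)]
    · obtain ⟨i, hi⟩ := mem_zpowers_iff.1 e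
      exact mem_zpowers_iff.2 ⟨i, by simpa using congrArg Subtype.val hi⟩

/-- The Sylow subgroup is a central product. -/
theorem exists_split (I : Inputs.{u}) : ∃ Q B : Subgroup K, Split S c z Q B ∧
    (∀ m ∈ Cover.cc π c, ∀ q ∈ Q, m * q * m⁻¹ ∈ Q) ∧
    (MultiB S c z B ∨
      (SingleB z B ∧ Nat.card {T : Sylow 2 K // c ∈ (T : Subgroup K)} ≤ 5)) := by
  haveI := Fact.mk Nat.prime_two
  have hsub : (S : Subgroup K) ≤ Cover.cc π c := hc.cen.le_cc
  obtain ⟨Q, B, hQB, hQn, hd⟩ := (hc.mid h hsub).exists_split I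
  set ι := (Cover.cc π c).subtype with hι
  have hmemS : ∀ {x : ↥(Cover.cc π c)},
      x ∈ (S.subtype hsub : Subgroup ↥(Cover.cc π c)) ↔ (x : K) ∈ (S : Subgroup K) := fun {x} => by
    rw [Sylow.coe_subtype, mem_subgroupOf]
  refine ⟨Q.map ι, B.map ι, ⟨?_, ?_, ⟨_, hQB.c_Q, rfl⟩, ⟨_, hQB.z_Q, rfl⟩, ?_, ?_, ?_, ?_, ?_, ?_, ?_⟩,
    ?_, ?_⟩
  · rintro _ ⟨x, hx, rfl⟩; exact hmemS.1 (hQB.Q_le hx)
  · rintro _ ⟨x, hx, rfl⟩; exact hmemS.1 (hQB.B_le hx)
  · intro s hs
    obtain ⟨q, hq, β, hβ, e⟩ := hQB.split ⟨s, hsub hs⟩ (hmemS.2 hs)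
    exact ⟨q, ⟨q, hq, rfl⟩, β, ⟨β, hβ, rfl⟩, congrArg Subtype.val e⟩
  · rintro _ ⟨q, hq, rfl⟩ _ ⟨β, hβ, rfl⟩; exact (hQB.comm q hq β hβ).map ι
  · rintro _ ⟨q, hq, rfl⟩ ⟨β, hβ, e⟩
    have : β = q := Subtype.ext e
    subst this
    rcases hQB.inter β hq hβ with rfl | rfl
    exacts [Or.inl rfl, Or.inr rfl]
  · rintro _ ⟨q, hq, rfl⟩ e
    rcases hQB.Q_uniq q hq (Subtype.ext e) with rfl | rfl
    exacts [Or.inl rfl, Or.inr rfl]
  · obtain ⟨q, hq, hqc⟩ := hQB.Q_out
    exact ⟨q, ⟨q, hq, rfl⟩, fun e => hqc (Subtype.ext e.eq)⟩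
  · rcases hQB.Q_kind with hk | hk
    · left
      rintro _ ⟨q, hq, rfl⟩
      refine ⟨(hk q hq).1.imp (congrArg Subtype.val) (congrArg Subtype.val), ?_⟩
      rintro _ ⟨q', hq', rfl⟩
      exact ((hk q hq).2 q' hq').imp (congrArg Subtype.val) (congrArg Subtype.val)
    · right
      rintro _ ⟨q, hq, rfl⟩ hcen
      exact (hk q hq fun q' hq' => (hcen q' ⟨q', hq', rfl⟩).imp (fun e => Subtype.ext e)
        fun e => Subtype.ext e).map ι
  · rintro _ ⟨β, hβ, rfl⟩ hsq _ ⟨β', hβ', rfl⟩
    exact (hQB.B_cen β hβ (hsq.imp (fun e => Subtype.ext e) fun e => Subtype.ext e) β' hβ').imp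
      (congrArg Subtype.val) (congrArg Subtype.val)
  · rintro m hm _ ⟨q, hq, rfl⟩
    exact ⟨_, hQn ⟨m, hm⟩ q hq, rfl⟩
  · rcases hd with hd | ⟨hd, hcard⟩
    · left
      refine ⟨?_, ?_, ?_⟩
      · rintro _ ⟨β, hβ, rfl⟩ e; exact hd.sq β hβ (Subtype.ext e)
      · obtain ⟨β, hβ, β', hβ', he, he', hne, hne'⟩ := hd.two
        exact ⟨β, ⟨β, hβ, rfl⟩, β', ⟨β', hβ', rfl⟩,
          ⟨by rw [Subgroup.orderOf_coe]; exact he.1, fun e => he.2 (Subtype.ext e)⟩,
          ⟨by rw [Subgroup.orderOf_coe]; exact he'.1, fun e => he'.2 (Subtype.ext e)⟩,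
          fun e => hne (Subtype.ext e), fun e => hne' (Subtype.ext e)⟩
      · rintro _ ⟨β, hβ, rfl⟩ _ ⟨β', hβ', rfl⟩ he he'
        obtain ⟨r, hr, hrc, hconj⟩ := hd.trans β hβ β' hβ'
          ⟨by rw [← Subgroup.orderOf_coe]; exact he.1, fun e => he.2 (congrArg Subtype.val e)⟩
          ⟨by rw [← Subgroup.orderOf_coe]; exact he'.1, fun e => he'.2 (congrArg Subtype.val e)⟩
        refine ⟨r, mem_normalizer_iff.2 fun x => ⟨fun hx => ?_, fun hx => ?_⟩, hrc.map ι,
          hconj.imp (congrArg Subtype.val) (congrArg Subtype.val)⟩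
        · exact hmemS.1 ((mem_normalizer_iff.1 hr ⟨x, hsub hx⟩).1 (hmemS.2 hx))
        · have hx' : x ∈ Cover.cc π c := by
            have := mul_mem (mul_mem (inv_mem r.2) (hsub hx)) r.2
            rwa [show (r : K)⁻¹ * ((r : K) * x * (r : K)⁻¹) * r = x by group] at this
          exact hmemS.1 ((mem_normalizer_iff.1 hr ⟨x, hx'⟩).2 (hmemS.2 hx))
    · refine Or.inr ⟨⟨?_, ?_, ?_⟩, ?_⟩
      · rw [Subgroup.card_map_of_injective (subtype_injective _)]; exact hd.card
      · rintro _ ⟨β, hβ, rfl⟩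
        rcases hd.sq β hβ with rfl | rfl | e
        exacts [Or.inl rfl, Or.inr (Or.inl rfl), Or.inr (Or.inr (congrArg Subtype.val e))]
      · rintro _ ⟨β, hβ, rfl⟩ hcm
        rcases hd.cen β hβ (fun β' hβ' => Subtype.ext (hcm β' ⟨β', hβ', rfl⟩).eq) with rfl | rfl
        exacts [Or.inl rfl, Or.inr rfl]
      · have hT : ∀ T : {T : Sylow 2 K // c ∈ (T : Subgroup K)}, (T.1 : Subgroup K) ≤ Cover.cc π c := by
          intro T
          have hct : Cen π T.1 (1 * c * 1⁻¹) := h.cen_of_conj hc.cen (by simpa using T.2)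
          rw [one_mul, inv_one, mul_one] at hct
          exact hct.le_cc
        refine (Nat.card_le_card_of_injective (fun T => T.1.subtype (hT T)) fun T T' e => ?_).trans
          hcard
        have e' := congrArg (fun U : Sylow 2 ↥(Cover.cc π c) => (U : Subgroup _).map ι) e
        simp only [Sylow.coe_subtype, hι, subgroupOf_map_subtype, inf_eq_left.2 (hT T),
          inf_eq_left.2 (hT T')] at e'
        exact Subtype.ext (Sylow.ext e')

end Central

end Cfsg.Agent.RankOneInter
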