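import Cfsg.Agent.Lib.RankOneInter.CoverMulti

/-!
# `B` quaternion of order eight: too few conjugates

If `Q` is larger, the image of `c` is fixed by the normalizer; otherwise the image of the Sylow
subgroup is the sum of two blocks, two blocks of opposite kind always lie in a common Sylow subgroup,
and there are at most five conjugates of a block.
-/

set_option autoImplicit false
set_option linter.style.haveILetI false
set_option linter.unusedSectionVars false

namespace Cfsg.Agent.RankOneInter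

open Subgroup
open scoped Pointwise
open Cfsg.Agent.ZStar.CyclicIntersections

universe u

variable {K L : Type u} [Group K] [Group L] [Finite K]

theorem four_lt_card {X : Subgroup K} {a b : K} (ha : a ∈ X) (hb : b ∈ X) (hab : ¬ Commute a b) :
    5 ≤ Nat.card ↥X := by
  classical
  haveI := Fintype.ofFinite K
  have ha1 : a ≠ 1 := fun e => hab (e ▸ Commute.one_left b)
  have hb1 : b ≠ 1 := fun e => hab (e ▸ Commute.one_right a)
  have hne : a ≠ b := fun e => hab (e ▸ Commute.refl a)
  have h1 : a * b ≠ 1 := fun e => hab (by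
    rw [mul_eq_one_iff_eq_inv.1 e]; exact (Commute.refl b).inv_left)
  have h2 : b * a ≠ 1 := fun e => hab (by
    rw [mul_eq_one_iff_eq_inv.1 e]; exact (Commute.refl a).inv_right)
  have h3 : ({1, a, b, a * b, b * a} : Finset K).card = 5 := by
    rw [Finset.card_insert_of_notMem, Finset.card_insert_of_notMem, Finset.card_insert_of_notMem,
      Finset.card_pair (fun e : a * b = b * a => hab e)]
    · simp only [Finset.mem_insert, Finset.mem_singleton, not_or]
      exact ⟨fun e => ha1 (mul_eq_right.1 e.symm), fun e => ha1 (mul_eq_left.1 e.symm)⟩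
    · simp only [Finset.mem_insert, Finset.mem_singleton, not_or]
      exact ⟨hne, fun e => hb1 (mul_eq_left.1 e.symm), fun e => hb1 (mul_eq_right.1 e.symm)⟩
    · simp only [Finset.mem_insert, Finset.mem_singleton, not_or]
      exact ⟨ha1.symm, hb1.symm, h1.symm, h2.symm⟩
  calc 5 = ({1, a, b, a * b, b * a} : Finset K).card := h3.symm
    _ ≤ Nat.card ↥X := by
      rw [← SetLike.coe_sort_coe, Nat.card_coe_set_eq, ← Set.ncard_coe_finset]
      refine Set.ncard_le_ncard fun x hx => ?_
      simp only [Finset.coe_insert, Finset.coe_singleton, Set.mem_insert_iff,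
        Set.mem_singleton_iff] at hx
      rcases hx with rfl | rfl | rfl | rfl | rfl
      exacts [one_mem _, ha, hb, mul_mem ha hb, mul_mem hb ha]

theorem eight_le_card {X : Subgroup K} (hX : IsPGroup 2 X) {a b : K} (ha : a ∈ X) (hb : b ∈ X)
    (hab : ¬ Commute a b) : 8 ≤ Nat.card ↥X := by
  haveI := Fact.mk Nat.prime_two
  have h5 := four_lt_card ha hb hab
  obtain ⟨k, hk⟩ := IsPGroup.iff_card.1 hX
  rw [hk] at h5 ⊢
  have h3 : 3 ≤ k := by
    by_contra hlt
    have : 2 ^ k ≤ 2 ^ 2 := Nat.pow_le_pow_right two_pos (by omega)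
    omega
  exact le_trans (by norm_num) (Nat.pow_le_pow_right two_pos h3)

/-- A block: a quaternion group of order eight. -/
structure Blk (z : K) (P : Subgroup K) : Prop where
  z_mem : z ∈ P
  card : Nat.card ↥P = 8
  sq : ∀ p ∈ P, p = 1 ∨ p = z ∨ p * p = z
  comm : ∀ p ∈ P, ∀ p' ∈ P, p * p' = p' * p ∨ p * p' = p' * p * z
  other : ∀ p ∈ P, p ≠ 1 → p ≠ z → ∃ p' ∈ P, ¬ Commute p p'

/-- The Sylow subgroup is the central product of two blocks. -/
structure TwoBlocks (π : K →* L) (z : K) (S : Sylow 2 K) (P R : Subgroup K) : Prop where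
  P_le : P ≤ (S : Subgroup K)
  R_le : R ≤ (S : Subgroup K)
  split : ∀ s ∈ (S : Subgroup K), ∃ p ∈ P, ∃ r ∈ R, s = p * r
  comm : ∀ p ∈ P, ∀ r ∈ R, Commute p r
  inter : ∀ x ∈ P, x ∈ R → x = 1 ∨ x = z
  blkP : Blk z P
  blkR : Blk z R

namespace TwoBlocks

variable {π : K →* L} {z : K} (h : Cover π z) {S : Sylow 2 K} {P R : Subgroup K}
  (hT : TwoBlocks π z S P R)
include h hT

omit h in
theorem symm : TwoBlocks π z S R P :=
  ⟨hT.R_le, hT.P_le, fun s hs => by
    obtain ⟨p, hp, r, hr, rfl⟩ := hT.split s hs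
    exact ⟨r, hr, p, hp, (hT.comm p hp r hr).eq⟩,
    fun r hr p hp => (hT.comm p hp r hr).symm, fun x hx hx' => hT.inter x hx' hx, hT.blkR, hT.blkP⟩

theorem cen {k : K} (hk : k ∈ (S : Subgroup K)) : Cen π S k := by
  have hcomm : ∀ {X : Subgroup K}, Blk z X → ∀ a ∈ X, ∀ b ∈ X, Commute (π a) (π b) := by
    intro X hX a ha b hb
    rcases hX.comm a ha b hb with e | e
    · exact (show Commute a b from e).map π
    · show π a * π b = π b * π a
      rw [← map_mul, e, map_mul, h.map_z, mul_one, map_mul]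
  refine ⟨hk, fun s hs => ?_⟩
  obtain ⟨p, hp, r, hr, rfl⟩ := hT.split k hk
  obtain ⟨p', hp', r', hr', rfl⟩ := hT.split s hs
  simp only [map_mul]
  exact ((hcomm hT.blkP p hp p' hp').mul_right ((hT.comm p hp r' hr').map π)).mul_left
    (((hT.comm p' hp' r hr).map π).symm.mul_right (hcomm hT.blkR r hr r' hr'))

theorem sq_cases {k : K} (hk : k ∈ (S : Subgroup K)) : k * k = 1 ∨ k * k = z := by
  obtain ⟨p, hp, r, hr, rfl⟩ := hT.split k hk
  rw [(hT.comm p hp r hr).symm.mul_mul_mul_comm]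
  have hX : ∀ {X : Subgroup K}, Blk z X → ∀ a ∈ X, a * a = 1 ∨ a * a = z := fun hX a ha => by
    rcases hX.sq a ha with rfl | rfl | e
    exacts [Or.inl (one_mul 1), Or.inl h.z_sq, Or.inr e]
  rcases hX hT.blkP p hp with e | e <;> rcases hX hT.blkR r hr with e' | e' <;> rw [e, e'] <;>
    simp [h.z_sq]

theorem side {k : K} (hk : k ∈ (S : Subgroup K)) (hk2 : k * k = z) : k ∈ P ∨ k ∈ R := by
  obtain ⟨p, hp, r, hr, rfl⟩ := hT.split k hk
  rcases hT.blkP.sq p hp with rfl | rfl | e
  · exact Or.inr (by rwa [one_mul])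
  · exact Or.inr (mul_mem hT.blkR.z_mem hr)
  rcases hT.blkR.sq r hr with rfl | rfl | e'
  · exact Or.inl (by rwa [mul_one])
  · exact Or.inl (mul_mem hp hT.blkP.z_mem)
  rw [(hT.comm p hp r hr).symm.mul_mul_mul_comm, e, e', h.z_sq] at hk2
  exact absurd hk2.symm h.z_ne_one

theorem le_block {X : Subgroup K} (hXS : X ≤ (S : Subgroup K))
    (hX : ∀ x ∈ X, x = 1 ∨ x = z ∨ x * x = z) : X ≤ P ∨ X ≤ R := by
  by_contra hno
  rw [not_or] at hno
  obtain ⟨a, ha, haP⟩ := SetLike.not_le_iff_exists.1 hno.1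
  obtain ⟨b, hb, hbR⟩ := SetLike.not_le_iff_exists.1 hno.2
  have hside : ∀ x ∈ X, x ∈ P ∨ x ∈ R := fun x hx => by
    rcases hX x hx with rfl | rfl | e
    exacts [Or.inl (one_mem _), Or.inl hT.blkP.z_mem, hT.side h (hXS hx) e]
  have haR := (hside a ha).resolve_left haP
  have hbP := (hside b hb).resolve_right hbR
  rcases hside _ (mul_mem ha hb) with e | e
  · exact haP ((mul_mem_cancel_right hbP).1 e)
  · exact hbR ((mul_mem_cancel_left haR).1 e)

/-- The normalizer of the Sylow subgroup fixes each block. -/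
theorem stable {n : K} (hn : n ∈ normalizer ((S : Subgroup K) : Set K)) :
    n ∈ normalizer (R : Set K) := by
  classical
  haveI := Fact.mk Nat.prime_two
  -- the two possible images
  have key : ∀ {X : Subgroup K}, Blk z X → X ≤ (S : Subgroup K) → ∀ m,
      m ∈ normalizer ((S : Subgroup K) : Set K) →
      X.map (MulAut.conj m).toMonoidHom = P ∨ X.map (MulAut.conj m).toMonoidHom = R := by
    intro X hX hXS m hm
    have hcard : Nat.card ↥(X.map (MulAut.conj m).toMonoidHom) = 8 := by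
      rw [Subgroup.card_map_of_injective (MulAut.conj m).injective, hX.card]
    refine (hT.le_block h (X := X.map (MulAut.conj m).toMonoidHom) ?_ ?_).imp
      (fun e => Subgroup.eq_of_le_of_card_ge e (by rw [hcard, hT.blkP.card]))
      (fun e => Subgroup.eq_of_le_of_card_ge e (by rw [hcard, hT.blkR.card]))
    · rintro _ ⟨x, hx, rfl⟩
      exact (mem_normalizer_iff.1 hm x).1 (hXS hx)
    · rintro _ ⟨x, hx, rfl⟩
      simp only [MulEquiv.coe_toMonoidHom, MulAut.conj_apply]
      rcases hX.sq x hx with rfl | rfl | e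
      · exact Or.inl (by rw [mul_one, mul_inv_cancel])
      · exact Or.inr (Or.inl (by rw [(h.z_comm m).eq, mul_inv_cancel_right]))
      · exact Or.inr (Or.inr (by
          rw [show m * x * m⁻¹ * (m * x * m⁻¹) = m * (x * x) * m⁻¹ by group, e, (h.z_comm m).eq,
            mul_inv_cancel_right]))
  have hPR : P ≠ R := by
    rintro rfl
    have h8 := hT.blkP.card
    obtain ⟨x, hx, hx1, hxz⟩ : ∃ x ∈ P, x ≠ 1 ∧ x ≠ z := by
      by_contra hno
      simp only [not_exists, not_and, not_not] at hno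
      have h2 : Nat.card ↥P ≤ 2 := by
        rw [← SetLike.coe_sort_coe, Nat.card_coe_set_eq]
        refine (Set.ncard_le_ncard (t := {1, z}) fun x hx => ?_).trans
          ((Set.ncard_insert_le _ _).trans (by simp))
        by_cases hx1 : x = 1
        exacts [Or.inl hx1, Or.inr (hno x hx hx1)]
      omega
    rcases hT.inter x hx hx with e | e
    exacts [hx1 e, hxz e]
  have hnorm : ∀ {m}, m ∈ normalizer ((S : Subgroup K) : Set K) →
      (m ∈ normalizer (R : Set K) ↔ R.map (MulAut.conj m).toMonoidHom = R) := fun {m} _ => by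
    rw [← Coprime.conj_smul_eq_self_iff]; rfl
  have hSR : ∀ s ∈ (S : Subgroup K), s ∈ normalizer (R : Set K) := by
    intro s hs
    obtain ⟨p, hp, r, hr, rfl⟩ := hT.split s hs
    refine mul_mem (mem_normalizer_iff.2 fun x => ?_) (le_normalizer hr)
    constructor <;> intro hx
    · rwa [(hT.comm p hp x hx).eq, mul_inv_cancel_right]
    · have e := (hT.comm p hp _ hx).eq
      have : p * x * p⁻¹ = x := mul_left_cancel (e.trans (by group))
      rwa [this] at hx
  -- the fixing elements contain the squares and an element of 2-power order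
  by_contra hnR
  have hswap : ∀ {m}, m ∈ normalizer ((S : Subgroup K) : Set K) → m ∉ normalizer (R : Set K) →
      R.map (MulAut.conj m).toMonoidHom = P ∧ P.map (MulAut.conj m).toMonoidHom = R := by
    intro m hm hmR
    have h1 := (key hT.blkR hT.R_le m hm).resolve_right fun e => hmR ((hnorm hm).2 e)
    refine ⟨h1, (key hT.blkP hT.P_le m hm).resolve_left fun e => hPR ?_⟩
    exact (Subgroup.map_injective (MulAut.conj m).injective (h1.trans e.symm)).symm
  obtain ⟨hnR1, hnP⟩ := hswap hn hnR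
  have hn2 : n * n ∈ normalizer (R : Set K) := (hnorm (mul_mem hn hn)).2 (by
    rw [map_mul, show (MulAut.conj n * MulAut.conj n).toMonoidHom =
      (MulAut.conj n).toMonoidHom.comp (MulAut.conj n).toMonoidHom from rfl, ← Subgroup.map_map,
      hnR1, hnP])
  obtain ⟨a, m, hm, hord⟩ := Nat.exists_eq_two_pow_mul_odd (orderOf_pos n).ne'
  obtain ⟨j, rfl⟩ := hm
  have hnm : n ^ (2 * j + 1) ∈ (S : Subgroup K) := by
    refine mem_of_smul_eq (a := S)
      (Sylow.smul_eq_iff_mem_normalizer.2 (pow_mem hn _)) ⟨a, ?_⟩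
    rw [← pow_mul, mul_comm, ← hord, pow_orderOf_eq_one]
  refine hnR ?_
  have e : n = n ^ (2 * j + 1) * ((n * n) ^ j)⁻¹ := by
    rw [pow_succ', pow_mul, pow_two, mul_inv_cancel_right]
  rw [e]
  exact mul_mem (hSR _ hnm) (inv_mem (pow_mem hn2 j))

theorem cross {p r g : K} (hp : p ∈ P) (hr : r ∈ R) (hr1 : r ≠ 1) (hrz : r ≠ z)
    (hpr : π (g * r * g⁻¹) = π p) : False := by
  have hgS : g * r * g⁻¹ ∈ (S : Subgroup K) := h.mem_of_map_eq S hpr (hT.P_le hp)
  obtain ⟨n, hn, e⟩ := h.control S (hT.R_le hr) hgS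
  have hnr : n * r * n⁻¹ ∈ R := (mem_normalizer_iff.1 (hT.stable h hn) r).1 hr
  have hnP : n * r * n⁻¹ ∈ P := by
    rcases h.eq_or_of_map_eq (e.trans hpr) with e' | e' <;> rw [e']
    exacts [hp, mul_mem hp hT.blkP.z_mem]
  rcases hT.inter _ hnP hnr with e' | e'
  · exact hr1 (conj_eq_one_iff.1 e')
  · refine hrz ?_
    have h1 : r = n⁻¹ * z * n := by rw [← e']; group
    rwa [(h.z_comm n⁻¹).eq, inv_mul_cancel_right] at h1

/-- An element of `R` conjugate into `R` by `g` forces `g` to normalise `R`. -/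
theorem normalises (I : Inputs.{u}) {r g : K} (hr : r ∈ R) (hr1 : r ≠ 1) (hrz : r ≠ z)
    (hgr : g * r * g⁻¹ ∈ R) : g ∈ normalizer (R : Set K) := by
  classical
  haveI := Fact.mk Nat.prime_two
  obtain ⟨n, hn, e⟩ := h.control S (hT.R_le hr) (hT.R_le hgr)
  have hm : n⁻¹ * g ∈ Cover.cc π r := by
    rw [Cover.mem_cc h]
    simp only [map_mul, map_inv] at e ⊢
    show (π n)⁻¹ * π g * π r = π r * ((π n)⁻¹ * π g)
    rw [mul_assoc, show π g * π r = (π g * π r * (π g)⁻¹) * π g by group, ← e]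
    group
  suffices hsuff : n⁻¹ * g ∈ normalizer (R : Set K) by
    have := mul_mem (hT.stable h hn) hsuff
    rwa [mul_inv_cancel_left] at this
  by_cases haway : ∀ m ∈ Cover.cc π r, m ∈ normalizer ((S : Subgroup K) : Set K)
  · exact hT.stable h (haway _ hm)
  simp only [not_forall] at haway
  obtain ⟨m0, hm0, hm0n⟩ := haway
  obtain ⟨r', hr', hrr'⟩ := hT.blkR.other r hr hr1 hrz
  have hr2 : r * r = z := ((hT.blkR.sq r hr).resolve_left hr1).resolve_left hrz
  have hC : Central π z S r :=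
    ⟨hT.cen h (hT.R_le hr), hr2, ⟨r', hT.R_le hr', hrr'⟩, m0, hm0, hm0n⟩
  obtain ⟨Q', B', hQB, hQn, -⟩ := hC.exists_split h I
  have hQ'side : ∀ x ∈ Q', x = 1 ∨ x = z ∨ x * x = z := fun x hx => by
    rcases hT.sq_cases h (hQB.Q_le hx) with e | e
    · rcases hQB.Q_uniq x hx e with rfl | rfl
      exacts [Or.inl rfl, Or.inr (Or.inl rfl)]
    · exact Or.inr (Or.inr e)
  obtain ⟨q, hq, hqr⟩ := hQB.Q_out
  have hQ'R : Q' = R := by
    rcases hT.le_block h hQB.Q_le hQ'side with hle | hle
    · exact absurd (hT.inter r (hle hQB.c_Q) hr) (not_or.2 ⟨hr1, hrz⟩)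
    · refine Subgroup.eq_of_le_of_card_ge hle ?_
      rw [hT.blkR.card]
      exact eight_le_card (S.isPGroup'.to_le hQB.Q_le) hQB.c_Q hq hqr
  refine mem_normalizer_iff.2 fun x => ⟨fun hx => ?_, fun hx => ?_⟩
  · rw [← hQ'R] at hx ⊢; exact hQn _ hm x hx
  · rw [← hQ'R] at hx ⊢
    have h1 := hQn _ (inv_mem hm) _ hx
    rwa [show (n⁻¹ * g)⁻¹ * (n⁻¹ * g * x * (n⁻¹ * g)⁻¹) * (n⁻¹ * g)⁻¹⁻¹ = x by group] at h1

theorem exists_mem {X : Subgroup K} (hX : Blk z X) : ∃ r ∈ X, r ≠ 1 ∧ r ≠ z := by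
  by_contra hno
  simp only [not_exists, not_and, not_not] at hno
  have h2 : Nat.card ↥X ≤ 2 := by
    rw [← SetLike.coe_sort_coe, Nat.card_coe_set_eq]
    refine (Set.ncard_le_ncard (t := {1, z}) fun x hx => ?_).trans
      ((Set.ncard_insert_le _ _).trans (by simp))
    by_cases hx1 : x = 1
    exacts [Or.inl hx1, Or.inr (hno x hx hx1)]
  have := hX.card
  omega

/-- Every conjugate of `R` lies in a Sylow subgroup through each point of `P`. -/
theorem meet (I : Inputs.{u}) {c : K} (hc : c ∈ P) (hc1 : c ≠ 1) (hcz : c ≠ z) (g : K) :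
    ∃ T : K, c ∈ ((T • S : Sylow 2 K) : Subgroup K) ∧ T⁻¹ * g ∈ normalizer (R : Set K) := by
  classical
  haveI := Fact.mk Nat.prime_two
  haveI := h.finite_image
  obtain ⟨r, hr, hr1, hrz⟩ := hT.exists_mem h hT.blkR
  set b := g * r * g⁻¹ with hb
  have hne : ∀ {x : K}, x ≠ 1 → x ≠ z → π x ≠ 1 := fun h1 h2 e => by
    rcases (h.ker _).1 e with e' | e'
    exacts [h1 e', h2 e']
  have hsq1 : ∀ {x : K}, x ∈ (S : Subgroup K) → π x * π x = 1 := fun hx => by
    rw [← map_mul]
    rcases hT.sq_cases h hx with e | e <;> rw [e]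
    exacts [map_one π, h.map_z]
  have hoc : orderOf (π c) = 2 :=
    Involutions.Basic.orderOf_two_iff.2 ⟨hsq1 (hT.P_le hc), hne hc1 hcz⟩
  have hor : orderOf (π r) = 2 :=
    Involutions.Basic.orderOf_two_iff.2 ⟨hsq1 (hT.R_le hr), hne hr1 hrz⟩
  have hob : orderOf (π b) = 2 := by
    rw [hb, map_mul, map_mul, map_inv, Involutions.Basic.orderOf_conj, hor]
  -- an element of `R` conjugate to `r` gives the conjugate of `R`
  have hmove : ∀ T : K, b ∈ ((T • S : Sylow 2 K) : Subgroup K) → T⁻¹ * g ∈ normalizer (R : Set K) := by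
    intro T hbT
    rw [mem_smul] at hbT
    have hr2 : r * r = z := ((hT.blkR.sq r hr).resolve_left hr1).resolve_left hrz
    have h2 : T⁻¹ * b * T * (T⁻¹ * b * T) = z := by
      rw [show T⁻¹ * b * T * (T⁻¹ * b * T) = T⁻¹ * g * (r * r) * (T⁻¹ * g)⁻¹ by rw [hb]; group,
        hr2, (h.z_comm _).eq, mul_inv_cancel_right]
    have e : T⁻¹ * g * r * (T⁻¹ * g)⁻¹ = T⁻¹ * b * T := by rw [hb]; group
    rcases hT.side h hbT h2 with hP' | hR'
    · exact (hT.cross h hP' hr hr1 hrz (by rw [e])).elim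
    · exact hT.normalises h I hr hr1 hrz (by rw [e]; exact hR')
  suffices hex : ∃ T : K, c ∈ ((T • S : Sylow 2 K) : Subgroup K) ∧
      b ∈ ((T • S : Sylow 2 K) : Subgroup K) by
    obtain ⟨T, h1, h2⟩ := hex
    exact ⟨T, h1, hmove T h2⟩
  have hlift : ∀ {u v : K}, orderOf (π u) = 2 → orderOf (π v) = 2 → Commute (π u) (π v) →
      ∃ T : K, u ∈ ((T • S : Sylow 2 K) : Subgroup K) ∧ v ∈ ((T • S : Sylow 2 K) : Subgroup K) := by
    intro u v hu hv huv
    obtain ⟨A, huA, hvA⟩ := exists_sylow_pair hu hv huv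
    obtain ⟨T', -, hT'⟩ := exists_sylow_lift h.surj A (D₀ := ⊥) IsPGroup.of_bot bot_le
    obtain ⟨T, hT2⟩ := MulAction.exists_smul_eq K S T'
    rw [← hT', ← hT2] at huA hvA
    obtain ⟨u', hu', eu⟩ := huA
    obtain ⟨v', hv', ev⟩ := hvA
    exact ⟨T, h.mem_of_map_eq _ eu.symm hu', h.mem_of_map_eq _ ev.symm hv'⟩
  have hnconj : ¬ IsConj (π c) (π b) := by
    intro hcj
    obtain ⟨d, hd⟩ := isConj_iff.1 hcj
    obtain ⟨d, rfl⟩ := h.surj d
    have e : π (g⁻¹ * d * c * (g⁻¹ * d)⁻¹) = π r := by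
      rw [show g⁻¹ * d * c * (g⁻¹ * d)⁻¹ = g⁻¹ * (d * c * d⁻¹) * g by group]
      simp only [map_mul, map_inv] at hd ⊢
      rw [hd, hb]
      simp only [map_mul, map_inv]
      group
    exact hT.symm.cross h hr hc hc1 hcz e
  obtain ⟨hw2, hwc, hwb⟩ := Involutions.Basic.middle_involution hoc hob
    (Involutions.Basic.even_orderOf_mul_of_not_isConj hoc hob hnconj)
  obtain ⟨k, hk⟩ := h.surj ((π c * π b) ^ (orderOf (π c * π b) / 2))
  rw [← hk] at hw2 hwc hwb
  obtain ⟨T0, hkT0, hcT0⟩ := hlift hw2 hoc hwc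
  obtain ⟨T1, hkT1, hbT1⟩ := hlift hw2 hob hwb
  have hk1 : k ≠ 1 := fun e => by rw [e, map_one, orderOf_one] at hw2; omega
  have hkz : k ≠ z := fun e => by rw [e, h.map_z, orderOf_one] at hw2; omega
  rcases h.sq_cases (mul_self_of_orderOf hw2) with hkk | hkk
  · refine ⟨T0, hcT0, ?_⟩
    have hex : IsExtra z k := ⟨Involutions.Basic.orderOf_two_iff.2 ⟨hkk, hk1⟩, hkz⟩
    rw [h.eq_sylow hex hkT0 hkT1]
    exact hbT1
  -- a middle of order four
  rw [mem_smul] at hkT0 hkT1 hcT0
  have hsq : ∀ T : K, T⁻¹ * k * T * (T⁻¹ * k * T) = z := fun T => by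
    rw [show T⁻¹ * k * T * (T⁻¹ * k * T) = T⁻¹ * (k * k) * T by group, hkk, (h.z_comm T⁻¹).eq,
      inv_mul_cancel_right]
  have hnx : ∀ T : K, T⁻¹ * k * T ≠ 1 ∧ T⁻¹ * k * T ≠ z := fun T => by
    constructor <;> intro e <;> have := hsq T <;> rw [e] at this
    · rw [one_mul] at this; exact h.z_ne_one this.symm
    · rw [h.z_sq] at this; exact h.z_ne_one this.symm
  have hcP : T0⁻¹ * c * T0 ∈ P := by
    have hc2 : c * c = z := ((hT.blkP.sq c hc).resolve_left hc1).resolve_left hcz
    have e : T0⁻¹ * c * T0⁻¹⁻¹ = T0⁻¹ * c * T0 := by rw [inv_inv]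
    refine (hT.side h hcT0 ?_).resolve_right fun hR' => ?_
    · rw [show T0⁻¹ * c * T0 * (T0⁻¹ * c * T0) = T0⁻¹ * (c * c) * T0 by group, hc2,
        (h.z_comm T0⁻¹).eq, inv_mul_cancel_right]
    · exact hT.symm.cross h hR' hc hc1 hcz (g := T0⁻¹) (by rw [e])
  rcases hT.side h hkT0 (hsq T0) with hk0 | hk0
  · refine ⟨T1, ?_, hbT1⟩
    have e : T1⁻¹ * T0 * (T0⁻¹ * k * T0) * (T1⁻¹ * T0)⁻¹ = T1⁻¹ * k * T1 := by group
    rcases hT.side h hkT1 (hsq T1) with hk1' | hk1'
    · have hn := hT.symm.normalises h I hk0 (hnx T0).1 (hnx T0).2 (g := T1⁻¹ * T0)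
        (by rw [e]; exact hk1')
      have h1 := (mem_normalizer_iff.1 hn _).1 hcP
      rw [show T1⁻¹ * T0 * (T0⁻¹ * c * T0) * (T1⁻¹ * T0)⁻¹ = T1⁻¹ * c * T1 by group] at h1
      exact mem_smul.2 (hT.P_le h1)
    · exact (hT.symm.cross h hk1' hk0 (hnx T0).1 (hnx T0).2 (g := T1⁻¹ * T0) (by rw [e])).elim
  · refine ⟨T0, mem_smul.2 hcT0, ?_⟩
    have e : T1⁻¹ * T0 * (T0⁻¹ * k * T0) * (T1⁻¹ * T0)⁻¹ = T1⁻¹ * k * T1 := by group
    rcases hT.side h hkT1 (hsq T1) with hk1' | hk1'
    · exact (hT.cross h hk1' hk0 (hnx T0).1 (hnx T0).2 (g := T1⁻¹ * T0) (by rw [e])).elim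
    · have hn := hT.normalises h I hk0 (hnx T0).1 (hnx T0).2 (g := T1⁻¹ * T0)
        (by rw [e]; exact hk1')
      have hbR : T1⁻¹ * g * r * (T1⁻¹ * g)⁻¹ ∈ R :=
        (mem_normalizer_iff.1 (hmove T1 hbT1) r).1 hr
      have h1 := (mem_normalizer_iff.1 (inv_mem hn) _).1 hbR
      rw [show (T1⁻¹ * T0)⁻¹ * (T1⁻¹ * g * r * (T1⁻¹ * g)⁻¹) * (T1⁻¹ * T0)⁻¹⁻¹ =
        T0⁻¹ * b * T0 by rw [hb]; group] at h1
      exact mem_smul.2 (hT.R_le h1)

theorem false_of_five (I : Inputs.{u}) {c : K} (hc : c ∈ P) (hc1 : c ≠ 1) (hcz : c ≠ z)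
    (h5 : Nat.card {T : Sylow 2 K // c ∈ (T : Subgroup K)} ≤ 5) : False := by
  classical
  haveI := Fact.mk Nat.prime_two
  haveI := h.simple
  haveI := h.finite_image
  set N := normalizer (R : Set K) with hN
  -- at most five conjugates
  have hidx : Nat.card (K ⧸ N) ≤ 5 := by
    have hex : ∀ T : {T : Sylow 2 K // c ∈ (T : Subgroup K)}, ∃ t : K, t • S = T.1 := fun T =>
      MulAction.exists_smul_eq K S T.1
    choose t ht using hex
    refine (Nat.card_le_card_of_surjective (fun T => ((t T : K) : K ⧸ N)) fun q => ?_).trans h5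
    induction q using QuotientGroup.induction_on with
    | _ g =>
    obtain ⟨T, hcT, hTg⟩ := hT.meet h I hc hc1 hcz g
    refine ⟨⟨T • S, hcT⟩, QuotientGroup.eq.2 ?_⟩
    have hn : (t ⟨T • S, hcT⟩)⁻¹ * T ∈ N := by
      refine hT.stable h (Sylow.smul_eq_iff_mem_normalizer.1 ?_)
      rw [mul_smul, inv_smul_eq_iff]
      exact (ht ⟨T • S, hcT⟩).symm
    have h1 := mul_mem hn hTg
    rwa [mul_assoc, mul_inv_cancel_left] at h1
  let φ : K →* Equiv.Perm (K ⧸ N) := MulAction.toPermHom K (K ⧸ N)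
  haveI : ((φ.ker).map π).Normal := (inferInstance : φ.ker.Normal).map _ h.surj
  rcases (inferInstance : ((φ.ker).map π).Normal).eq_bot_or_eq_top with e | e
  · -- the order divides 240
    have hker : Nat.card ↥φ.ker ≤ 2 := by
      rw [← SetLike.coe_sort_coe, Nat.card_coe_set_eq]
      refine (Set.ncard_le_ncard (t := {1, z}) fun x hx => ?_).trans
        ((Set.ncard_insert_le _ _).trans (by simp))
      have : π x ∈ φ.ker.map π := mem_map_of_mem π hx
      rw [e, mem_bot] at this
      simpa using (h.ker x).1 this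
    have hdvd : Nat.card K ∣ 240 := by
      rw [← Subgroup.card_mul_index φ.ker, index_ker]
      refine (Nat.mul_dvd_mul (?_ : _ ∣ 2) (?_ : _ ∣ 120)).trans (by norm_num)
      · have hpos : 0 < Nat.card ↥φ.ker := Nat.card_pos
        interval_cases (Nat.card ↥φ.ker) <;> norm_num
      · refine (Subgroup.card_subgroup_dvd_card φ.range).trans ?_
        rw [Nat.card_perm]
        exact Nat.factorial_dvd_factorial hidx
    have hS32 : 32 ∣ Nat.card ↥(S : Subgroup K) := by
      obtain ⟨k, hk⟩ := IsPGroup.iff_card.1 S.isPGroup'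
      have h64 : 32 ≤ Nat.card ↥(S : Subgroup K) := by
        let μ : ↥P × ↥R → ↥(S : Subgroup K) := fun x =>
          ⟨x.1 * x.2, mul_mem (hT.P_le x.1.2) (hT.R_le x.2.2)⟩
        haveI := Fintype.ofFinite K
        haveI := Fintype.ofFinite ↥P
        haveI := Fintype.ofFinite ↥R
        haveI := Fintype.ofFinite ↥(S : Subgroup K)
        have h1 := Finset.card_le_mul_card_image (f := μ) (Finset.univ : Finset (↥P × ↥R)) 2
          (fun s _ => by
            by_contra hlt
            rw [not_le, Finset.two_lt_card_iff] at hlt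
            obtain ⟨⟨p, r⟩, ⟨p', r'⟩, ⟨p'', r''⟩, hx, hy, hw, n1, n2, n3⟩ := hlt
            simp only [Finset.mem_filter, Finset.mem_univ, true_and, μ] at hx hy hw
            have key : ∀ (p p' : ↥P) (r r' : ↥R), (p : K) * r = p' * r' → (p, r) = (p', r') ∨
                (p' : K) = p * z := by
              intro p p' r r' e
              have e' : (p : K)⁻¹ * p' = r * (r' : K)⁻¹ := by
                rw [eq_mul_inv_iff_mul_eq, mul_assoc, ← e, inv_mul_cancel_left]
              rcases hT.inter _ (mul_mem (inv_mem p.2) p'.2) (e' ▸ mul_mem r.2 (inv_mem r'.2)) with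
                e2 | e2
              · have hp : p = p' := Subtype.ext (inv_mul_eq_one.1 e2)
                subst hp
                exact Or.inl (Prod.ext rfl (Subtype.ext (mul_left_cancel e)))
              · exact Or.inr (inv_mul_eq_iff_eq_mul.1 e2)
            have h12 := (key p p' r r' (congrArg Subtype.val (hx.trans hy.symm) :)).resolve_left n1
            have h13 := (key p p'' r r'' (congrArg Subtype.val (hx.trans hw.symm) :)).resolve_left n2
            rcases key p' p'' r' r'' (congrArg Subtype.val (hy.trans hw.symm) :) with e | e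
            · exact n3 e
            · rw [h12, h13, mul_assoc] at e
              exact h.z_ne_one (mul_eq_left.1 (mul_left_cancel e).symm))
        rw [Finset.card_univ, Fintype.card_prod, ← Nat.card_eq_fintype_card,
          ← Nat.card_eq_fintype_card, hT.blkP.card, hT.blkR.card] at h1
        have h2 := Finset.card_le_univ (Finset.univ.image μ)
        rw [← Nat.card_eq_fintype_card] at h2
        omega
      rw [hk] at h64 ⊢
      have h5k : 5 ≤ k := by
        by_contra hlt
        have : 2 ^ k ≤ 2 ^ 4 := Nat.pow_le_pow_right two_pos (by omega)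
        omega
      exact (show (32 : ℕ) = 2 ^ 5 by norm_num) ▸ pow_dvd_pow 2 h5k
    exact absurd ((hS32.trans (Subgroup.card_subgroup_dvd_card _)).trans hdvd) (by norm_num)
  · -- the block is normal
    have hsub : φ.ker ≤ N := fun x hx => by
      have h1 : φ x ((1 : K) : K ⧸ N) = ((1 : K) : K ⧸ N) := by rw [MonoidHom.mem_ker.1 hx]; rfl
      have h2 : ((x * 1 : K) : K ⧸ N) = ((1 : K) : K ⧸ N) := h1
      have h3 := QuotientGroup.eq.1 h2
      rw [mul_one, mul_one] at h3
      exact inv_mem_iff.1 h3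
    haveI hRn : R.Normal := by
      refine ⟨fun x hx a => ?_⟩
      obtain ⟨a', ha', ea⟩ : π a ∈ φ.ker.map π := e ▸ mem_top _
      have hx' := (mem_normalizer_iff.1 (hsub ha') x).1 hx
      rcases h.eq_or_of_map_eq ea.symm with e' | e' <;> rw [e']
      · exact hx'
      · rwa [show a' * z * x * (a' * z)⁻¹ = a' * (z * x * z⁻¹) * a'⁻¹ by group,
          show z * x * z⁻¹ = x by rw [← (h.z_comm x).eq, mul_inv_cancel_right]]
    obtain ⟨r, hr, hr1, hrz⟩ := hT.exists_mem h hT.blkR
    haveI := hRn.map π h.surj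
    rcases (inferInstance : (R.map π).Normal).eq_bot_or_eq_top with e' | e'
    · have h1 : π r ∈ R.map π := mem_map_of_mem π hr
      rw [e', mem_bot] at h1
      rcases (h.ker r).1 h1 with h2 | h2
      exacts [hr1 h2, hrz h2]
    · haveI : Group.IsSolvable L := by
        have h1 : IsPGroup 2 ↥(⊤ : Subgroup L) := e' ▸ (S.isPGroup'.to_le hT.R_le).map π
        exact isSolvable_isPGroup (h1.of_equiv Subgroup.topEquiv)
      exact h.noncomm ⟨⟨fun x y => IsSimpleGroup.comm_iff_isSolvable.2 inferInstance x y⟩⟩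

end TwoBlocks

namespace Central

variable {π : K →* L} {z : K} (h : Cover π z) {S : Sylow 2 K} {c : K} (hc : Central π z S c)
include h hc

theorem false_of_single (I : Inputs.{u}) {Q B : Subgroup K} (hQB : Split S c z Q B)
    (hB : SingleB z B) (h5 : Nat.card {T : Sylow 2 K // c ∈ (T : Subgroup K)} ≤ 5) : False := by
  classical
  haveI := Fact.mk Nat.prime_two
  have hzB : z ∈ B := by
    by_contra hzB
    have h1 : ∀ β ∈ B, β = 1 := fun β hβ => by
      rcases hB.sq β hβ with e | rfl | e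
      · exact e
      · exact absurd hβ hzB
      · exact absurd (e ▸ mul_mem hβ hβ) hzB
    have : Nat.card ↥B ≤ 1 := by
      haveI : Subsingleton ↥B :=
        ⟨fun a b => Subtype.ext ((h1 a a.2).trans (h1 b b.2).symm)⟩
      exact Finite.card_le_one_iff_subsingleton.2 this
    have := hB.card
    omega
  have hsqB : ∀ β ∈ B, β * β = 1 ∨ β * β = z := fun β hβ => by
    rcases hB.sq β hβ with rfl | rfl | e
    exacts [Or.inl (one_mul 1), Or.inl h.z_sq, Or.inr e]
  rcases hQB.Q_kind with hk | hk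
  · -- two blocks
    have hQcen : ∀ q ∈ Q, Commute q c → q = 1 ∨ q = z ∨ q = c ∨ q = c * z := by
      intro q hq hqc
      rcases (hk q hq).1 with e | e
      · rcases hQB.Q_uniq q hq e with rfl | rfl
        exacts [Or.inl rfl, Or.inr (Or.inl rfl)]
      · rcases hQB.Q_uniq (q * c) (mul_mem hq hQB.c_Q) (by
          rw [hqc.symm.mul_mul_mul_comm, e, hc.sq, h.z_sq]) with e' | e'
        · refine Or.inr (Or.inr (Or.inr ?_))
          rw [mul_eq_one_iff_eq_inv.1 e', inv_eq_of_mul_eq_one_right]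
          rw [← mul_assoc, hc.sq, h.z_sq]
        · refine Or.inr (Or.inr (Or.inl (mul_right_cancel (b := c) ?_)))
          rw [e', hc.sq]
    obtain ⟨q0, hq0, hq0c⟩ := hQB.Q_out
    have hle := hc.cen.le_cc
    have hQ8 : Nat.card ↥Q = 8 := by
      refine le_antisymm ?_ (eight_le_card (S.isPGroup'.to_le hQB.Q_le) hQB.c_Q hq0 hq0c)
      let F : Finset K := ({1, z, c, c * z} : Finset K)
      have hF : F.card ≤ 4 := (Finset.card_insert_le _ _).trans (Nat.succ_le_succ
        ((Finset.card_insert_le _ _).trans (Nat.succ_le_succ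
          ((Finset.card_insert_le _ _).trans (by rw [Finset.card_singleton])))))
      have hcover : (Q : Set K) ⊆ ↑(F ∪ F.image (q0 * ·)) := by
        intro q hq
        rw [Finset.coe_union, Finset.coe_image]
        by_cases hqc : Commute q c
        · left
          simpa [F] using hQcen q hq hqc
        · right
          refine ⟨q0⁻¹ * q, ?_, mul_inv_cancel_left q0 q⟩
          simpa [F] using hQcen _ (mul_mem (inv_mem hq0) hq) (hc.commute_mul h
            (inv_mem (hle (hQB.Q_le hq0))) (hle (hQB.Q_le hq))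
            (fun e => hq0c (by simpa using e.inv_left.symm)) hqc)
      rw [← SetLike.coe_sort_coe, Nat.card_coe_set_eq]
      refine (Set.ncard_le_ncard hcover).trans ?_
      rw [Set.ncard_coe_finset]
      exact (Finset.card_union_le _ _).trans
        (by have := (Finset.card_image_le (s := F) (f := (q0 * ·))); omega)
    have hT : TwoBlocks π z S Q B := by
      refine ⟨hQB.Q_le, hQB.B_le, hQB.split, hQB.comm, hQB.inter,
        ⟨hQB.z_Q, hQ8, fun q hq => ?_, fun q hq => (hk q hq).2, fun q hq h1 h2 => ?_⟩,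
        ⟨hzB, hB.card, hB.sq, fun β hβ => hQB.B_cen β hβ (hsqB β hβ), fun β hβ h1 h2 => ?_⟩⟩
      · rcases (hk q hq).1 with e | e
        · exact (hQB.Q_uniq q hq e).imp id Or.inl
        · exact Or.inr (Or.inr e)
      · by_cases hqc : Commute q c
        · rcases hQcen q hq hqc with e | e | e | e
          · exact absurd e h1
          · exact absurd e h2
          · exact ⟨q0, hq0, e ▸ hq0c⟩
          · refine ⟨q0, hq0, fun e' => hq0c ?_⟩
            rw [e] at e'
            have h3 := e'.mul_left (h.z_comm q0).symm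
            rwa [mul_assoc, h.z_sq, mul_one] at h3
        · exact ⟨c, hQB.c_Q, hqc⟩
      · by_contra hno
        simp only [not_exists, not_and, not_not] at hno
        rcases hB.cen β hβ hno with e | e
        exacts [h1 e, h2 e]
    refine hT.false_of_five h I hQB.c_Q ?_ ?_ h5
    · intro e; have := hc.sq; rw [e, one_mul] at this; exact h.z_ne_one this.symm
    · intro e; have := hc.sq; rw [e, h.z_sq] at this; exact h.z_ne_one this.symm
  -- the image of `c` is fixed
  refine h.not_fixed S hc.cen (hc.map_ne h) (hc.map_sq h) fun n hn => ?_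
  have hcommB : ∀ β ∈ B, Cen π S β := by
    intro β hβ
    refine ⟨hQB.B_le hβ, fun s hs => ?_⟩
    obtain ⟨q, hq, β', hβ', rfl⟩ := hQB.split s hs
    rw [map_mul]
    refine (((hQB.comm q hq β hβ).symm).map π).mul_right ?_
    rcases hQB.B_cen β hβ (hsqB β hβ) β' hβ' with e | e
    · exact (show Commute β β' from e).map π
    · show π β * π β' = π β' * π β
      rw [← map_mul, e, map_mul, h.map_z, mul_one, map_mul]
  have hccomm : ∀ y, Cen π S y → Commute c y := by
    intro y hy
    obtain ⟨q, hq, β, hβ, rfl⟩ := hQB.split y hy.1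
    refine (hk q hq fun q' hq' => ?_).mul_right (hQB.comm c hQB.c_Q β hβ)
    refine h.comm_cases ?_
    have h1 := hy.2 q' (hQB.Q_le hq')
    rw [map_mul] at h1
    have h2 := h1.mul_left ((hQB.comm q' hq' β hβ).symm.map π).inv_left
    rwa [mul_inv_cancel_right] at h2
  set k := n * c * n⁻¹ with hk'
  have hkcen : Cen π S k := h.cen_conj hc.cen hn
  have hk2 : k * k = z := by
    rw [hk', show n * c * n⁻¹ * (n * c * n⁻¹) = n * (c * c) * n⁻¹ by group, hc.sq, (h.z_comm n).eq,
      mul_inv_cancel_right]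
  have hkall : ∀ β ∈ B, Commute k β := fun β hβ => by
    have h1 := (hccomm _ (h.cen_conj (hcommB β hβ) (inv_mem hn))).map (MulAut.conj n).toMonoidHom
    simpa [hk', mul_assoc] using h1
  have hkc : Commute c k := hccomm k hkcen
  obtain ⟨q, hq, β, hβ, e⟩ := hQB.split k hkcen.1
  have hβ1 : β = 1 ∨ β = z := hB.cen β hβ fun β' hβ' => by
    have h1 := hkall β' hβ'
    rw [e] at h1
    have h2 := ((hQB.comm q hq β' hβ').inv_left).mul_left h1
    rwa [inv_mul_cancel_left] at h2
  have hkQ : k ∈ Q := by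
    rw [e]
    rcases hβ1 with rfl | rfl
    exacts [by rwa [mul_one], mul_mem hq hQB.z_Q]
  rcases hQB.Q_uniq (k * c) (mul_mem hkQ hQB.c_Q) (by
    rw [hkc.mul_mul_mul_comm, hk2, hc.sq, h.z_sq]) with e' | e'
  · rw [mul_eq_one_iff_eq_inv.1 e', map_inv]
    exact inv_eq_of_mul_eq_one_right (hc.map_sq h)
  · rw [eq_mul_inv_of_mul_eq e', map_mul, h.map_z, one_mul, map_inv]
    exact inv_eq_of_mul_eq_one_right (hc.map_sq h)

end Central

/-- No element of square `z`, central in the image of a Sylow subgroup and in two of them, moves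
inside the Sylow subgroup. -/
theorem Cover.not_central {π : K →* L} {z : K} (h : Cover π z) (I : Inputs.{u}) {S : Sylow 2 K}
    {c : K} (hc : Central π z S c) : False := by
  obtain ⟨Q, B, hQB, -, hd | ⟨hd, h5⟩⟩ := hc.exists_split h I
  exacts [hc.false_of_multi h hQB hd, hc.false_of_single h I hQB hd h5]

end Cfsg.Agent.RankOneInter
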