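import Cfsg.Agent.Lib.CyclicSylowInter.Defs

/-!
# Sylow 2-intersections with one involution: definitions

The standing hypotheses and the inputs: the simple groups with central intersections of rank at most
one, and the theorem on cyclic intersections.
-/

set_option autoImplicit false

namespace Cfsg.Agent.RankOneInter

open Subgroup
open Cfsg.Agent.CyclicSylowInter

universe u

/-- Two distinct Sylow 2-subgroups have at most one common involution. -/
def OneInv (G : Type*) [Group G] : Prop :=
  ∀ S T : Sylow 2 G, S ≠ T → ∀ x y : G, x ∈ (S : Subgroup G) → x ∈ (T : Subgroup G) →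
    y ∈ (S : Subgroup G) → y ∈ (T : Subgroup G) → orderOf x = 2 → orderOf y = 2 → x = y

/-- Input: the simple groups whose central Sylow intersections have rank at most one. -/
def CentralRankOne : Prop :=
  ∀ (G : Type u) [Group G] [Finite G] [IsSimpleGroup G], ¬ IsMulCommutative G →
    (∀ S T : Sylow 2 G, S ≠ T →
      ((S : Subgroup G) ⊓ (T : Subgroup G) = ⊥ ∨
        ∃ z ∈ (S : Subgroup G) ⊓ (T : Subgroup G), orderOf z = 2 ∧
          ∃ U : Sylow 2 G, z ∈ (Subgroup.center ↥(U : Subgroup G)).map (U : Subgroup G).subtype) →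
      Cfsg.PRankLE 2 1 ↥((S : Subgroup G) ⊓ (T : Subgroup G))) → Five G

/-- The inputs. -/
structure Inputs : Prop where
  central : CentralRankOne.{u}
  facts : KindFacts.{u}
  ti : TITheorem.{u}
  goal : ∀ (G : Type u) [Group G] [Finite G], ¬ Group.IsSolvable G →
    Cfsg.Agent.ZStar.CyclicIntersections.CycInt G → ∀ (R : Subgroup G) [R.Normal],
      Group.IsSolvable ↥R → (∀ N : Subgroup G, N.Normal → Group.IsSolvable ↥N → N ≤ R) → Goal G R
  five : ∀ (L : Type u) [Group L] [Finite L] [IsSimpleGroup L], ¬ IsMulCommutative L →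
    Cfsg.Agent.ZStar.CyclicIntersections.CycInt L → Five L

/-- The standing hypotheses after dividing by the odd core. -/
structure Hyp (G : Type u) [Group G] [Finite G] : Prop where
  nonsolvable : ¬ Group.IsSolvable G
  core : Cfsg.oddCore G = ⊥
  inter : OneInv G
  noncyclic : ∃ S T : Sylow 2 G, S ≠ T ∧
    ¬ IsCyclic ↥((S : Subgroup G) ⊓ (T : Subgroup G))
  notQuat : ∀ S : Sylow 2 G, ∀ n : ℕ,
    IsEmpty (↥(S : Subgroup G) ≃* QuaternionGroup (2 ^ (n + 1)))

end Cfsg.Agent.RankOneInter
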