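import Cfsg.Agent.Lib.RankOneInter.Quot
import Cfsg.Agent.Lib.Components.Hyperplane
import Cfsg.Agent.Lib.Cores.Basic

/-!
# A quaternion 2-core: the first alternative
-/

set_option autoImplicit false
set_option linter.style.haveILetI false
set_option linter.unusedSectionVars false

namespace Cfsg.Agent.RankOneInter

open Subgroup
open scoped Pointwise
open Cfsg.Agent.ZStar.CyclicIntersections
open Cfsg.Agent.CyclicSylowInter

universe u

variable {G : Type u} [Group G] [Finite G] {K : Subgroup G}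

theorem One.kindTI (hK : One G K) (I : Inputs.{u}) (hP : Cfsg.pCore 2 G ≠ ⊥) (hA : AllLift K) :
    KindTI ↥(K.map pr) := by
  haveI := hK.simple
  have hti := hK.tiSylow hP hA
  refine I.ti _ hK.noncomm ?_ hti
  intro A B hne
  have : (A : Subgroup ↥(K.map pr)) ⊓ B = ⊥ := by
    by_contra h
    obtain ⟨w, hw, hw2, -⟩ := exists_central_involution (Y := (A : Subgroup ↥(K.map pr)) ⊓ B)
      (A.isPGroup'.to_le inf_le_left) h
    exact hne (hti A B w hw2 hw.1 hw.2)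
  rw [this]; infer_instance

theorem quaternion_four (n : ℕ) : ∃ p q : QuaternionGroup (2 ^ (n + 1)),
    p * p = QuaternionGroup.a ((2 ^ (n + 1) : ℕ) : ZMod (2 * 2 ^ (n + 1))) ∧ q * q = p * p ∧
      p * q * (p * q) = p * p ∧ p * p * (p * p) = 1 ∧ p * p ≠ 1 := by
  haveI : NeZero (2 ^ (n + 1)) := ⟨by positivity⟩
  set m := 2 ^ (n + 1) with hm
  have hm2 : m = 2 ^ n + 2 ^ n := by rw [hm, pow_succ]; ring
  have h0 : (m : ZMod (2 * m)) + (m : ZMod (2 * m)) = 0 := by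
    rw [← Nat.cast_add, ZMod.natCast_eq_zero_iff]; exact ⟨1, by omega⟩
  refine ⟨QuaternionGroup.xa 0, QuaternionGroup.a ((2 ^ n : ℕ) : ZMod (2 * m)), ?_, ?_, ?_, ?_, ?_⟩
  · rw [QuaternionGroup.xa_mul_xa, add_sub_cancel_right]
  · rw [QuaternionGroup.a_mul_a, QuaternionGroup.xa_mul_xa, add_sub_cancel_right, ← Nat.cast_add, ← hm2]
  · rw [QuaternionGroup.xa_mul_a, QuaternionGroup.xa_mul_xa, QuaternionGroup.xa_mul_xa, add_sub_cancel_right,
      add_sub_cancel_right]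
  · rw [QuaternionGroup.xa_mul_xa, add_sub_cancel_right, QuaternionGroup.a_mul_a, h0]
    exact QuaternionGroup.one_def.symm
  · rw [QuaternionGroup.xa_mul_xa, add_sub_cancel_right, QuaternionGroup.one_def]
    intro h
    have h' := QuaternionGroup.a.inj h
    rw [ZMod.natCast_eq_zero_iff] at h'
    have h1 := Nat.le_of_dvd (by positivity) h'
    have h2 : 0 < m := Nat.pos_of_ne_zero (NeZero.ne m)
    omega

/-- An elementary subgroup of order eight: three commuting involutions of a Sylow subgroup. -/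
theorem One.exists_eight (hK : One G K) (I : Inputs.{u}) {n : ℕ}
    (e : ↥(Cfsg.pCore 2 G) ≃* QuaternionGroup (2 ^ (n + 1))) :
    ∃ (S : Sylow 2 G) (u v w : G), u ∈ (S : Subgroup G) ∧ v ∈ (S : Subgroup G) ∧ w ∈ (S : Subgroup G) ∧
      u * u = 1 ∧ v * v = 1 ∧ w * w = 1 ∧ Commute u v ∧ Commute u w ∧ Commute v w ∧
      [1, u, v, w, v * w].Nodup := by
  classical
  haveI : Fact (Nat.Prime 2) := ⟨Nat.prime_two⟩
  haveI : NeZero (2 ^ (n + 1)) := ⟨by positivity⟩
  have h2le : 2 ≤ 2 ^ (n + 1) := by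
    calc 2 = 2 ^ 1 := rfl
      _ ≤ _ := Nat.pow_le_pow_right two_pos (by omega)
  obtain ⟨p₀, q₀, hp₀, hq₀, hpq₀, hp4, hp1⟩ := quaternion_four n
  have hPne : Cfsg.pCore 2 G ≠ ⊥ := by
    intro h
    have h1 : e.symm (p₀ * p₀) = 1 := Subtype.ext ((mem_bot).1 (h ▸ (e.symm (p₀ * p₀)).2))
    exact hp1 (e.symm.map_eq_one_iff.1 h1)
  set p : G := ((e.symm p₀ : ↥(Cfsg.pCore 2 G)) : G) with hp
  set q : G := ((e.symm q₀ : ↥(Cfsg.pCore 2 G)) : G) with hq
  set z : G := ((e.symm (p₀ * p₀) : ↥(Cfsg.pCore 2 G)) : G) with hz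
  have hpP : p ∈ Cfsg.pCore 2 G := (e.symm p₀).2
  have hqP : q ∈ Cfsg.pCore 2 G := (e.symm q₀).2
  have hzP : z ∈ Cfsg.pCore 2 G := (e.symm (p₀ * p₀)).2
  have hpp : p * p = z := by rw [hp, hz, ← coe_mul, ← map_mul]
  have hqq : q * q = z := by rw [hq, hz, ← coe_mul, ← map_mul, hq₀]
  have hpqz : p * q * (p * q) = z := by
    rw [hp, hq, hz, ← coe_mul, ← coe_mul, ← map_mul, ← map_mul, hpq₀]
  have hzz : z * z = 1 := by rw [hz, ← coe_mul, ← map_mul, hp4, map_one]; rfl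
  have hz1 : z ≠ 1 := fun h => hp1 (e.symm.map_eq_one_iff.1 (Subtype.ext h))
  -- central elements of the 2-core
  have hcen : ∀ c ∈ Cfsg.pCore 2 G, (∀ d ∈ Cfsg.pCore 2 G, Commute c d) → c = 1 ∨ c = z := by
    intro c hc hcc
    by_cases h1 : c = 1
    · exact Or.inl h1
    right
    have hsq := ZStar.Consequences.quaternion_center h2le (x := e ⟨c, hc⟩) fun y => by
      obtain ⟨⟨d, hd⟩, rfl⟩ := e.surjective y
      rw [← map_mul, ← map_mul]
      exact congrArg e (Subtype.ext (hcc d hd).eq.symm)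
    have hu := ZStar.Consequences.quaternion_involution (n := 2 ^ (n + 1)) hsq fun h =>
      h1 (congrArg Subtype.val (e.map_eq_one_iff.1 h))
    rw [hz, hp₀, ← hu, MulEquiv.symm_apply_apply]
  have hKc : ∀ k ∈ K, k ∈ Cfsg.pCore 2 G → k = 1 ∨ k = z := fun k hk hkP =>
    hcen k hkP fun d hd => hK.commute_core hk hd
  have hzK : ∀ k ∈ K, Commute z k := fun k hk => (hK.commute_core hk hzP).symm
  -- the image
  have hA := hK.allLift_of_quaternion e
  have hkind := hK.kindTI I hPne hA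
  obtain ⟨-, hone, hdata⟩ := I.facts.1 _ hkind
  obtain ⟨T⟩ := (inferInstance : Nonempty (Sylow 2 ↥(K.map pr)))
  obtain ⟨m, i, D⟩ := hdata T
  obtain ⟨S, hS⟩ := hK.exists_lift_sylow T
  have h3 : 1 < {x : ↥(K.map pr) | x ∈ (T : Subgroup ↥(K.map pr)) ∧ orderOf x = 2}.ncard := by
    rw [D.ncard_inv]
    have := Nat.pow_le_pow_right two_pos D.two_le
    omega
  obtain ⟨a, ⟨haT, ha2⟩, b, ⟨hbT, hb2⟩, hab⟩ := (Set.one_lt_ncard (Set.toFinite _)).1 h3
  have hcab : Commute a b := D.inv_central a haT ha2 b hbT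
  have hab2 : orderOf (a * b) = 2 := by
    refine orderOf_eq_prime ?_ fun h => hab ?_
    · rw [hcab.mul_pow, pow_two, pow_two, Involutions.Basic.inv_sq_one ha2, Involutions.Basic.inv_sq_one hb2, one_mul]
    · rw [eq_inv_of_mul_eq_one_left h]
      exact Involutions.Basic.inv_eq hb2
  obtain ⟨ka, hka, hkae⟩ := a.2
  obtain ⟨kb, hkb, hkbe⟩ := b.2
  have hmemS : ∀ (k : G) (l : ↥(K.map pr)), l ∈ (T : Subgroup ↥(K.map pr)) → pr k = (l : G ⧸ Cfsg.pCore 2 G) →
      k ∈ (S : Subgroup G) := by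
    intro k l hl hkl
    obtain ⟨s, hs, hse⟩ := hS l hl
    have h1 : s⁻¹ * k ∈ Cfsg.pCore 2 G := by rw [← pr_eq_one, map_mul, map_inv, hkl, hse, inv_mul_cancel]
    have := mul_mem hs (Agent.Cores.pCore_le_sylow S h1)
    rwa [mul_inv_cancel_left] at this
  have haS := hmemS ka a haT hkae
  have hbS := hmemS kb b hbT hkbe
  -- squares
  have hsqK : ∀ k ∈ K, pr k * pr k = 1 → k * k = 1 ∨ k * k = z := fun k hk h =>
    hKc _ (mul_mem hk hk) (pr_eq_one.1 (by rw [map_mul]; exact h))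
  have hl2 : ∀ l : ↥(K.map pr), orderOf l = 2 → (l : G ⧸ Cfsg.pCore 2 G) * l = 1 := fun l hl =>
    congrArg Subtype.val (Involutions.Basic.inv_sq_one hl)
  have hsame : ∀ k ∈ K, ∀ k' ∈ K, ∀ l l' : ↥(K.map pr), orderOf l = 2 → orderOf l' = 2 →
      pr k = (l : G ⧸ Cfsg.pCore 2 G) → pr k' = (l' : G ⧸ Cfsg.pCore 2 G) → k * k = k' * k' := by
    intro k hk k' hk' l l' hl hl' hkl hkl'
    obtain ⟨g, hg⟩ := isConj_iff.1 (hone l l' hl hl')
    obtain ⟨g₀, hg₀, hge⟩ := g.2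
    have h1 : (g₀ * k * g₀⁻¹)⁻¹ * k' ∈ Cfsg.pCore 2 G := by
      rw [← pr_eq_one, map_mul, map_inv, map_mul, map_mul, map_inv, hkl, hkl', hge, ← hg]
      simp [mul_assoc]
    set c := (g₀ * k * g₀⁻¹)⁻¹ * k' with hc
    have hcK : c ∈ K := mul_mem (inv_mem (mul_mem (mul_mem hg₀ hk) (inv_mem hg₀))) hk'
    have hk'e : k' = g₀ * k * g₀⁻¹ * c := by rw [hc, mul_inv_cancel_left]
    have hcc : c * c = 1 := by rcases hKc c hcK h1 with h | h <;> rw [h] <;> simp [hzz]
    have hcomm : Commute (g₀ * k * g₀⁻¹) c := by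
      rcases hKc c hcK h1 with h | h <;> rw [h]
      · exact Commute.one_right _
      · exact (hzK _ (mul_mem (mul_mem hg₀ hk) (inv_mem hg₀))).symm
    have hkk : Commute g₀ (k * k) := by
      rcases hsqK k hk (by rw [hkl]; exact hl2 l hl) with h | h <;> rw [h]
      · exact Commute.one_right _
      · exact (hzK _ hg₀).symm
    rw [hk'e, hcomm.symm.mul_mul_mul_comm, hcc, mul_one,
      show g₀ * k * g₀⁻¹ * (g₀ * k * g₀⁻¹) = g₀ * (k * k) * g₀⁻¹ by group, hkk.eq, mul_inv_cancel_right]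
  have hpr : pr (ka * kb) = ((a * b : ↥(K.map pr)) : G ⧸ Cfsg.pCore 2 G) := by
    rw [map_mul, hkae, hkbe, coe_mul]
  have hbb : kb * kb = ka * ka := hsame kb hkb ka hka b a hb2 ha2 hkbe hkae
  have habb : ka * kb * (ka * kb) = ka * ka :=
    hsame _ (mul_mem hka hkb) ka hka (a * b) a hab2 ha2 hpr hkae
  -- distinctness in the image
  have hne : ∀ v w : G, pr v = (a : G ⧸ Cfsg.pCore 2 G) → pr w = (b : G ⧸ Cfsg.pCore 2 G) →
      [1, z, v, w, v * w].Nodup := by
    intro v w hv hw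
    have hz' : pr z = ((1 : ↥(K.map pr)) : G ⧸ Cfsg.pCore 2 G) := pr_eq_one.2 hzP
    have h0 : pr (1 : G) = ((1 : ↥(K.map pr)) : G ⧸ Cfsg.pCore 2 G) := map_one pr
    have hvw : pr (v * w) = ((a * b : ↥(K.map pr)) : G ⧸ Cfsg.pCore 2 G) := by rw [map_mul, hv, hw, coe_mul]
    have ha1 := Involutions.Basic.ne_one ha2
    have hb1 := Involutions.Basic.ne_one hb2
    have hab1 := Involutions.Basic.ne_one hab2
    have key : ∀ {x y : G} {l l' : ↥(K.map pr)}, pr x = (l : G ⧸ Cfsg.pCore 2 G) →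
        pr y = (l' : G ⧸ Cfsg.pCore 2 G) → l ≠ l' → x ≠ y := fun hx hy hne hxy =>
      hne (Subtype.ext (by rw [← hx, ← hy, hxy]))
    simp only [List.nodup_cons, List.mem_cons, List.not_mem_nil, or_false, not_or, List.nodup_nil, and_true,
      not_false_eq_true]
    exact ⟨⟨hz1.symm, key h0 hv ha1.symm, key h0 hw hb1.symm, key h0 hvw hab1.symm⟩,
      ⟨key hz' hv ha1.symm, key hz' hw hb1.symm, key hz' hvw hab1.symm⟩,
      ⟨key hv hw hab, key hv hvw fun h => hb1 (mul_eq_left.1 h.symm)⟩,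
      key hw hvw fun h => ha1 (mul_eq_right.1 h.symm)⟩
  have hzS : z ∈ (S : Subgroup G) := Agent.Cores.pCore_le_sylow S hzP
  rcases hsqK ka hka (by rw [hkae]; exact hl2 a ha2) with h | h
  · refine ⟨S, z, ka, kb, hzS, haS, hbS, hzz, h, hbb.trans h, hzK _ hka, hzK _ hkb, ?_, hne ka kb hkae hkbe⟩
    have hinv : (ka * kb)⁻¹ = ka * kb := inv_eq_of_mul_eq_one_right (habb.trans h)
    rw [_root_.mul_inv_rev, inv_eq_of_mul_eq_one_right h, inv_eq_of_mul_eq_one_right (hbb.trans h)] at hinv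
    exact hinv.symm
  · have cpk : Commute p ka := (hK.commute_core hka hpP).symm
    have cqk : Commute q kb := (hK.commute_core hkb hqP).symm
    have hv : ka * p * (ka * p) = 1 := by rw [cpk.mul_mul_mul_comm, h, hpp, hzz]
    have hw : kb * q * (kb * q) = 1 := by rw [cqk.mul_mul_mul_comm, hbb.trans h, hqq, hzz]
    have hvw : ka * p * (kb * q) * (ka * p * (kb * q)) = 1 := by
      have h1 : ka * p * (kb * q) = ka * kb * (p * q) :=
        ((hK.commute_core hkb hpP).symm).mul_mul_mul_comm ka q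
      rw [h1, (hK.commute_core (mul_mem hka hkb) (mul_mem hpP hqP)).symm.mul_mul_mul_comm, habb.trans h,
        hpqz, hzz]
    refine ⟨S, z, ka * p, kb * q, hzS, mul_mem haS (Agent.Cores.pCore_le_sylow S hpP),
      mul_mem hbS (Agent.Cores.pCore_le_sylow S hqP), hzz, hv, hw, (hzK _ hka).mul_right ?_,
      (hzK _ hkb).mul_right ?_, ?_, hne _ _ ?_ ?_⟩
    · rw [← hpp]; exact (Commute.refl p).mul_left (Commute.refl p)
    · rw [← hqq]; exact (Commute.refl q).mul_left (Commute.refl q)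
    · have hinv := inv_eq_of_mul_eq_one_right hvw
      rw [_root_.mul_inv_rev, inv_eq_of_mul_eq_one_right hv, inv_eq_of_mul_eq_one_right hw] at hinv
      exact hinv.symm
    · rw [map_mul, pr_eq_one.2 hpP, mul_one, hkae]
    · rw [map_mul, pr_eq_one.2 hqP, mul_one, hkbe]

/-- With three commuting involutions the odd core centralises every Sylow subgroup. -/
theorem commute_oddCore_of_eight {G : Type u} [Group G] [Finite G]
    (hI : ∀ S T : Sylow 2 G, S ≠ T → Cfsg.PRankLE 2 1 ↥((S : Subgroup G) ⊓ (T : Subgroup G)))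
    (S : Sylow 2 G) {u v w : G} (hu : u ∈ (S : Subgroup G)) (hv : v ∈ (S : Subgroup G))
    (hw : w ∈ (S : Subgroup G)) (hu2 : u * u = 1) (hv2 : v * v = 1) (hw2 : w * w = 1)
    (huv : Commute u v) (huw : Commute u w) (hvw : Commute v w) (hnd : [1, u, v, w, v * w].Nodup) :
    ∀ o ∈ Cfsg.oddCore G, ∀ s ∈ (S : Subgroup G), Commute o s := by
  classical
  haveI : Fact (Nat.Prime 2) := ⟨Nat.prime_two⟩
  set A := closure ({u, v, w} : Set G) with hA
  have hAS : A ≤ (S : Subgroup G) := (closure_le _).2 (by rintro x (rfl | rfl | rfl) <;> assumption)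
  have hAm : IsMulCommutative ↥A := Subgroup.isMulCommutative_closure (by
    rintro x (rfl | rfl | rfl) y (rfl | rfl | rfl)
    exacts [rfl, huv.eq, huw.eq, huv.eq.symm, rfl, hvw.eq, huw.eq.symm, hvw.eq.symm, rfl])
  have hc : ∀ x ∈ A, ∀ y ∈ A, Commute x y := fun x hx y hy =>
    congrArg Subtype.val (hAm.is_comm.comm ⟨x, hx⟩ ⟨y, hy⟩)
  have hsq : ∀ x ∈ A, x * x = 1 := by
    intro x hx
    induction hx using closure_induction with
    | mem y hy => rcases hy with rfl | rfl | rfl <;> assumption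
    | one => exact one_mul 1
    | mul a b ha hb ea eb => rw [(hc b hb a ha).mul_mul_mul_comm, ea, eb, one_mul]
    | inv a _ ea => rw [← _root_.mul_inv_rev, ea, inv_one]
  have hE : Cfsg.IsElementaryAbelian 2 A := ⟨hAm, fun x hx => by rw [pow_two]; exact hsq x hx⟩
  have huA : u ∈ A := subset_closure (Or.inl rfl)
  have hvA : v ∈ A := subset_closure (Or.inr (Or.inl rfl))
  have hwA : w ∈ A := subset_closure (Or.inr (Or.inr rfl))
  have h5 : 5 ≤ Nat.card ↥A := by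
    have h : ([1, u, v, w, v * w].toFinset : Set G) ⊆ A := by
      intro x hx
      simp only [List.coe_toFinset, List.mem_cons, List.not_mem_nil, or_false, Set.mem_setOf_eq] at hx
      rcases hx with rfl | rfl | rfl | rfl | rfl
      exacts [one_mem _, huA, hvA, hwA, mul_mem hvA hwA]
    have h' := Set.ncard_le_ncard h (Set.toFinite _)
    rw [Set.ncard_coe_finset, List.toFinset_card_of_nodup hnd, ← Nat.card_coe_set_eq] at h'
    exact h'
  set O := Cfsg.oddCore G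
  have hodd : Odd (Nat.card ↥O) := Agent.Cores.oddCore_odd
  have hSO : ∀ x ∈ (S : Subgroup G), x ∈ O → x = 1 := by
    intro x hx hxO
    obtain ⟨k, hk⟩ := S.isPGroup' ⟨x, hx⟩
    refine orderOf_eq_one_iff.1 ?_
    exact Nat.eq_one_of_dvd_coprimes ((Nat.coprime_two_left.2 hodd).pow_left k)
      (orderOf_dvd_of_pow_eq_one (congrArg Subtype.val hk)) (O.orderOf_dvd_natCard hxO)
  have hle : O ≤ centralizer ((S : Subgroup G) : Set G) := by
    have hgen := Components.Hyperplane.eq_iSup_hyperplane hE (K := O) (by omega)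
      (fun h => Nat.not_even_iff_odd.2 hodd (even_iff_two_dvd.2 h))
      (le_top.trans (normalizer_eq_top_iff.2 inferInstance).ge)
    rw [hgen]
    refine iSup_le fun ⟨D, hDA, hDidx⟩ => ?_
    rintro c ⟨hcO, hcD⟩
    -- two distinct involutions of `D`
    have hDcard : 3 ≤ Nat.card ↥D := by
      have hmul := (D.subgroupOf A).card_mul_index
      rw [Nat.card_congr (subgroupOfEquivOfLe hDA).toEquiv] at hmul
      have : (D.subgroupOf A).index = 2 := hDidx
      rw [this] at hmul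
      omega
    have hDn : 2 < (D : Set G).ncard := by rw [← Nat.card_coe_set_eq]; exact hDcard
    obtain ⟨x, hx, hx1⟩ := Set.exists_ne_of_one_lt_ncard (lt_trans (by norm_num) hDn) 1
    obtain ⟨y, hy, hy1⟩ : ∃ y ∈ D, y ∉ ({1, x} : Set G) := by
      by_contra hcon
      push Not at hcon
      have := (Set.ncard_le_ncard (t := ({1, x} : Set G)) hcon (Set.toFinite _)).trans
        ((Set.ncard_insert_le _ _).trans (by rw [Set.ncard_singleton]))
      omega
    simp only [Set.mem_insert_iff, Set.mem_singleton_iff, not_or] at hy1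
    have hxo : orderOf x = 2 := orderOf_eq_prime (by rw [pow_two]; exact hsq x (hDA hx)) hx1
    have hyo : orderOf y = 2 := orderOf_eq_prime (by rw [pow_two]; exact hsq y (hDA hy)) hy1.1
    have hnorm : c ∈ normalizer ((S : Subgroup G) : Set G) :=
      (oneInv_of_rank hI).mem_normalizer_of_commute (hAS (hDA hx)) (hAS (hDA hy)) hxo hyo (Ne.symm hy1.2)
        (mem_centralizer_iff.1 hcD x hx).symm (mem_centralizer_iff.1 hcD y hy).symm
    refine mem_centralizer_iff.2 fun s hs => ?_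
    have h1 : c * s * c⁻¹ * s⁻¹ = 1 := hSO _ (mul_mem ((mem_normalizer_iff.1 hnorm s).1 hs) (inv_mem hs)) (by
      rw [mul_assoc, mul_assoc]
      refine mul_mem hcO ?_
      rw [← mul_assoc]
      exact (inferInstance : O.Normal).conj_mem _ (inv_mem hcO) s)
    exact (mul_inv_eq_iff_eq_mul.1 (mul_inv_eq_one.1 h1)).symm
  exact fun o ho s hs => (mem_centralizer_iff.1 (hle ho) s hs).symm

/-- The first alternative for a quaternion 2-core. -/
theorem quaternion_alternative {G : Type u} [Group G] [Finite G]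
    (hI : ∀ S T : Sylow 2 G, S ≠ T → Cfsg.PRankLE 2 1 ↥((S : Subgroup G) ⊓ (T : Subgroup G)))
    (I : Inputs.{u}) {K : Subgroup (G ⧸ Cfsg.oddCore G)} (hK : One (G ⧸ Cfsg.oddCore G) K) {n : ℕ}
    (e : ↥(Cfsg.pCore 2 (G ⧸ Cfsg.oddCore G)) ≃* QuaternionGroup (2 ^ (n + 1))) :
    ∃ (G₁ : Subgroup G) (_ : G₁.Normal) (_ : ((Cfsg.pCore 2 G ⊔ Cfsg.oddCore G).subgroupOf G₁).Normal),
      Odd G₁.index ∧ Cfsg.pCore 2 G ⊔ Cfsg.oddCore G ≤ G₁ ∧
      (∃ n : ℕ, Nonempty (↥(Cfsg.pCore 2 G) ≃* QuaternionGroup (2 ^ (n + 1)))) ∧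
      ((∃ (n : ℕ) (F : Type) (_ : Field F) (_ : Fintype F), 2 ≤ n ∧ Fintype.card F = 2 ^ n ∧
          Nonempty (↥G₁ ⧸ (Cfsg.pCore 2 G ⊔ Cfsg.oddCore G).subgroupOf G₁ ≃* Matrix.ProjectiveSpecialLinearGroup (Fin 2) F)) ∨
       (∃ (m : ℕ) (F : Type) (_ : Field F) (_ : Fintype F), 1 ≤ m ∧ Fintype.card F = 2 ^ (2 * m + 1) ∧
          Nonempty (↥G₁ ⧸ (Cfsg.pCore 2 G ⊔ Cfsg.oddCore G).subgroupOf G₁ ≃* ↥(Cfsg.Lie.Sz F (2 ^ (m + 1))))) ∨
       (∃ (n : ℕ) (F : Type) (_ : Field F) (_ : Fintype F), 2 ≤ n ∧ Fintype.card F = 4 ^ n ∧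
          Nonempty (↥G₁ ⧸ (Cfsg.pCore 2 G ⊔ Cfsg.oddCore G).subgroupOf G₁ ≃* Cfsg.PSU 3 F (2 ^ n)))) := by
  classical
  haveI : Fact (Nat.Prime 2) := ⟨Nat.prime_two⟩
  set O := Cfsg.oddCore G with hO
  set P := Cfsg.pCore 2 (G ⧸ O) with hP
  set π := QuotientGroup.mk' O with hπdef
  have hπ : Function.Surjective π := QuotientGroup.mk'_surjective _
  haveI := hK.normal
  have hA := hK.allLift_of_quaternion e
  have hPne : P ≠ ⊥ := by
    intro h
    obtain ⟨p₀, -, -, -, -, -, hp1⟩ := quaternion_four n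
    exact hp1 (e.symm.map_eq_one_iff.1 (Subtype.ext ((mem_bot).1 (h ▸ (e.symm (p₀ * p₀)).2))))
  have hkind := hK.kindTI I hPne hA
  -- three involutions upstairs
  obtain ⟨S', u', v', w', hu', hv', hw', hu2', hv2', hw2', huv', huw', hvw', hnd'⟩ := hK.exists_eight I e
  obtain ⟨S, -, hS⟩ := exists_sylow_lift hπ S' (D₀ := ⊥) IsPGroup.of_bot bot_le
  have hodd : Odd (Nat.card ↥O) := Agent.Cores.oddCore_odd
  have hSO : ∀ x ∈ (S : Subgroup G), π x = 1 → x = 1 := by
    intro x hx hxO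
    obtain ⟨k, hk⟩ := S.isPGroup' ⟨x, hx⟩
    refine orderOf_eq_one_iff.1 ?_
    exact Nat.eq_one_of_dvd_coprimes ((Nat.coprime_two_left.2 hodd).pow_left k)
      (orderOf_dvd_of_pow_eq_one (congrArg Subtype.val hk))
      (O.orderOf_dvd_natCard ((QuotientGroup.eq_one_iff x).1 hxO))
  have hinj : ∀ x ∈ (S : Subgroup G), ∀ y ∈ (S : Subgroup G), π x = π y → x = y := fun x hx y hy h =>
    inv_mul_eq_one.1 (hSO _ (mul_mem (inv_mem hx) hy) (by rw [map_mul, map_inv, h, inv_mul_cancel]))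
  obtain ⟨u, hu, rfl⟩ : u' ∈ (S : Subgroup G).map π := hS ▸ hu'
  obtain ⟨v, hv, rfl⟩ : v' ∈ (S : Subgroup G).map π := hS ▸ hv'
  obtain ⟨w, hw, rfl⟩ : w' ∈ (S : Subgroup G).map π := hS ▸ hw'
  have hcom : ∀ x ∈ (S : Subgroup G), ∀ y ∈ (S : Subgroup G), Commute (π x) (π y) → Commute x y :=
    fun x hx y hy h => hinj _ (mul_mem hx hy) _ (mul_mem hy hx) (by rw [map_mul, map_mul]; exact h)
  have hnd : [1, u, v, w, v * w].Nodup := by
    refine List.Nodup.of_map π ?_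
    simpa using hnd'
  have hcS : ∀ o ∈ O, ∀ s ∈ (S : Subgroup G), Commute o s := commute_oddCore_of_eight hI S hu hv hw
    (hSO _ (mul_mem hu hu) (by rw [map_mul]; exact hu2')) (hSO _ (mul_mem hv hv) (by rw [map_mul]; exact hv2'))
    (hSO _ (mul_mem hw hw) (by rw [map_mul]; exact hw2'))
    (hcom u hu v hv huv') (hcom u hu w hw huw') (hcom v hv w hw hvw') hnd
  -- the 2-core upstairs
  set T := (P.comap π) ⊓ (S : Subgroup G) with hT
  have hPmap : ∀ x ∈ P, ∃ t ∈ T, π t = x := by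
    intro x hx
    obtain ⟨t, ht, rfl⟩ : x ∈ (S : Subgroup G).map π := hS ▸ Agent.Cores.pCore_le_sylow S' hx
    exact ⟨t, ⟨hx, ht⟩, rfl⟩
  haveI hTn : T.Normal := by
    refine ⟨fun t ht g => ?_⟩
    have h1 : π (g * t * g⁻¹) ∈ P := by
      rw [map_mul, map_mul, map_inv]
      exact (inferInstance : P.Normal).conj_mem _ ht.1 _
    obtain ⟨t₂, ht₂, ht₂e⟩ := hPmap _ h1
    set o := t₂⁻¹ * (g * t * g⁻¹) with ho
    have hoO : o ∈ O := (QuotientGroup.eq_one_iff _).1 (by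
      show π o = 1
      rw [ho, map_mul, map_inv, ht₂e, inv_mul_cancel])
    have hcomm : Commute o t₂ := hcS o hoO t₂ ht₂.2
    have hc2 : Commute t₂⁻¹ (g * t * g⁻¹) := by
      have : g * t * g⁻¹ = t₂ * o := by rw [ho, mul_inv_cancel_left]
      rw [this]
      exact ((Commute.refl t₂).mul_right hcomm.symm).inv_left
    obtain ⟨i, hi⟩ := S.isPGroup' ⟨t₂, ht₂.2⟩
    obtain ⟨j, hj⟩ := S.isPGroup' ⟨t, ht.2⟩
    have hi' : t₂ ^ 2 ^ i = 1 := congrArg Subtype.val hi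
    have hj' : t ^ 2 ^ j = 1 := congrArg Subtype.val hj
    have hopow : o ^ 2 ^ (i + j) = 1 := by
      rw [ho, hc2.mul_pow, inv_pow, conj_pow, pow_add, pow_mul t₂, hi', one_pow, inv_one, one_mul,
        mul_comm (2 ^ i), pow_mul t, hj', one_pow, mul_one, mul_inv_cancel]
    have ho1 : o = 1 := orderOf_eq_one_iff.1 (Nat.eq_one_of_dvd_coprimes
      ((Nat.coprime_two_left.2 hodd).pow_left (i + j)) (orderOf_dvd_of_pow_eq_one hopow)
      (O.orderOf_dvd_natCard hoO))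
    rw [ho, inv_mul_eq_one] at ho1
    exact ho1 ▸ ht₂
  have hTcore : Cfsg.pCore 2 G = T :=
    le_antisymm (le_inf (map_le_iff_le_comap.1 (Agent.Cores.map_pCore_le hπ 2)) (Agent.Cores.pCore_le_sylow S))
      (Agent.Cores.le_pCore (S.isPGroup'.to_le inf_le_right))
  have eT : Nonempty (↥(Cfsg.pCore 2 G) ≃* ↥P) := by
    let f : ↥(Cfsg.pCore 2 G) →* ↥P :=
      { toFun := fun x => ⟨π x, ((hTcore ▸ x.2 : (x : G) ∈ T)).1⟩
        map_one' := Subtype.ext (map_one π)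
        map_mul' := fun x y => Subtype.ext (map_mul π x.1 y.1) }
    refine ⟨MulEquiv.ofBijective f ⟨fun x y h => Subtype.ext (hinj _ (hTcore ▸ x.2 : (x : G) ∈ T).2
      _ (hTcore ▸ y.2 : (y : G) ∈ T).2 (congrArg Subtype.val h)), fun x => ?_⟩⟩
    obtain ⟨t, ht, hte⟩ := hPmap x x.2
    exact ⟨⟨t, hTcore.symm ▸ ht⟩, Subtype.ext hte⟩
  obtain ⟨eT⟩ := eT
  -- the subgroup
  set R := Cfsg.pCore 2 G ⊔ O with hR
  have hRcomap : R = P.comap π := by
    refine le_antisymm (sup_le (hTcore.le.trans inf_le_left) fun o ho => ?_) fun x hx => ?_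
    · show π o ∈ P
      rw [show π o = 1 from (QuotientGroup.eq_one_iff o).2 ho]
      exact one_mem _
    · obtain ⟨t, ht, hte⟩ := hPmap _ hx
      have h1 : t⁻¹ * x ∈ O := (QuotientGroup.eq_one_iff _).1 (by
        show π (t⁻¹ * x) = 1
        rw [map_mul, map_inv, hte, inv_mul_cancel])
      rw [← mul_inv_cancel_left t x]
      exact mul_mem_sup (hTcore.symm ▸ ht) h1
  set M := K ⊔ P with hM
  set G₁ := M.comap π with hG₁
  haveI hn : G₁.Normal := (inferInstance : M.Normal).comap π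
  have hRle : R ≤ G₁ := by rw [hRcomap]; exact comap_mono le_sup_right
  haveI hRn : (R.subgroupOf G₁).Normal := by
    haveI : R.Normal := hRcomap ▸ (inferInstance : P.Normal).comap π
    exact Normal.subgroupOf ‹_› _
  have hidx : Odd G₁.index := by
    rw [index_comap_of_surjective _ hπ, ← Nat.not_even_iff_odd, even_iff_two_dvd]
    exact fun h => S'.not_dvd_index (h.trans (index_dvd_of_le (hK.sylow_le_of_lift I hPne hA S')))
  have hmapM : M.map pr = K.map pr := by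
    rw [hM, Subgroup.map_sup, (Subgroup.map_eq_bot_iff (f := (pr : (G ⧸ O) →* _)) P).2
      (le_of_eq (QuotientGroup.ker_mk' P).symm), sup_bot_eq]
  let f : ↥G₁ →* ↥(K.map pr) :=
    { toFun := fun x => ⟨pr (π x), hmapM ▸ mem_map_of_mem pr (show π x ∈ M from x.2)⟩
      map_one' := Subtype.ext (by simp)
      map_mul' := fun x y => Subtype.ext (by simp) }
  have hfs : Function.Surjective f := by
    rintro ⟨_, k, hk, rfl⟩
    obtain ⟨g, rfl⟩ := hπ k
    exact ⟨⟨g, (mem_sup_left hk : π g ∈ M)⟩, Subtype.ext rfl⟩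
  have hfk : f.ker = R.subgroupOf G₁ := by
    ext x
    rw [MonoidHom.mem_ker, mem_subgroupOf, hRcomap, mem_comap, ← pr_eq_one, ← Subtype.coe_inj]
    rfl
  let E : ↥G₁ ⧸ R.subgroupOf G₁ ≃* ↥(K.map pr) :=
    (QuotientGroup.quotientMulEquivOfEq hfk.symm).trans (QuotientGroup.quotientKerEquivOfSurjective f hfs)
  refine ⟨G₁, hn, hRn, hidx, hRle, ⟨n, ⟨eT.trans e⟩⟩, ?_⟩
  rcases hkind with ⟨m, F, i1, i2, hm, hF, ⟨g⟩⟩ | ⟨m, F, i1, i2, hm, hF, ⟨g⟩⟩ | ⟨m, F, i1, i2, hm, hF, ⟨g⟩⟩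
  · exact Or.inl ⟨m, F, i1, i2, hm, hF, ⟨E.trans g⟩⟩
  · exact Or.inr (Or.inl ⟨m, F, i1, i2, hm, hF, ⟨E.trans g⟩⟩)
  · exact Or.inr (Or.inr ⟨m, F, i1, i2, hm, hF, ⟨E.trans g⟩⟩)

end Cfsg.Agent.RankOneInter
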