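import Cfsg.Agent.Lib.RankOneInter.CyclicFour
import Cfsg.Agent.Lib.Cores.Nilpotent
import Cfsg.Agent.Lib.Involutions.ThompsonTransfer
import Cfsg.Agent.Lib.SEAbelian.ReduceTools
import Cfsg.Agent.Lib.ZStar.Main

/-!
# A component with one involution is impossible

The component then has quaternion Sylow subgroups, and every Sylow subgroup of the group has an
involution outside the component; the image of such an involution forces a central involution of the
image of the component.
-/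

set_option autoImplicit false
set_option linter.style.haveILetI false
set_option linter.unusedSectionVars false

namespace Cfsg.Agent.RankOneInter

open Subgroup
open scoped Pointwise
open Cfsg.Agent.ZStar.CyclicIntersections

universe u

/-- The image of a quaternion group modulo its involution: a cyclic subgroup of index two, and either
exponent two or one central involution. -/
theorem quaternion_image {H : Type*} [Group H] (n : ℕ) (f : QuaternionGroup (2 ^ (n + 1)) →* H)
    (hf : ∀ y, f y = 1 ↔ y = 1 ∨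
      y = QuaternionGroup.a ((2 ^ (n + 1) : ℕ) : ZMod (2 * 2 ^ (n + 1)))) :
    (∃ R : Subgroup H, R ≤ f.range ∧ R.relIndex f.range = 2 ∧
      ∀ u ∈ R, ∀ w ∈ R, orderOf u = 2 → orderOf w = 2 → u = w) ∧
    ((∀ d ∈ f.range, d * d = 1) ∨ ∀ u ∈ f.range, ∀ w ∈ f.range, orderOf u = 2 → orderOf w = 2 →
      (∀ d ∈ f.range, Commute u d) → (∀ d ∈ f.range, Commute w d) → u = w) := by
  obtain ⟨m, hm⟩ : ∃ m, m = 2 ^ (n + 1) := ⟨_, rfl⟩
  revert f
  rw [← hm]
  intro f hf
  haveI : NeZero m := ⟨by rw [hm]; positivity⟩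
  haveI : NeZero (2 * m) := ⟨by rw [hm]; positivity⟩
  have hmm : ((2 ^ n : ℕ) : ZMod (2 * m)) + ((2 ^ n : ℕ) : ZMod (2 * m)) = (m : ZMod (2 * m)) := by
    rw [← Nat.cast_add, hm, pow_succ, mul_two]
  have hxa : ∀ i, f (QuaternionGroup.xa i) ≠ 1 := by
    intro i h
    rcases (hf _).1 h with e | e
    · rw [QuaternionGroup.one_def] at e; exact nomatch e
    · exact absurd e (by simp)
  have hker : ∀ i, i + i = 0 → f (QuaternionGroup.a i) = 1 := by
    intro i hi
    by_cases h1 : (QuaternionGroup.a i : QuaternionGroup m) = 1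
    · rw [h1, map_one]
    · exact (hf _).2 (Or.inr (ZStar.Consequences.quaternion_involution
        (by rw [QuaternionGroup.a_mul_a, hi]; exact QuaternionGroup.one_def.symm) h1))
  have hinv : ∀ i, orderOf (f (QuaternionGroup.a i)) = 2 →
      f (QuaternionGroup.a i) = f (QuaternionGroup.a ((2 ^ n : ℕ) : ZMod (2 * m))) := by
    intro i hi
    obtain ⟨h2, h1⟩ := Involutions.Basic.orderOf_two_iff.1 hi
    rw [← map_mul, hf, QuaternionGroup.a_mul_a, QuaternionGroup.one_def] at h2
    rcases h2 with e | e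
    · exact absurd (hker i (QuaternionGroup.a.inj e)) h1
    · have he := QuaternionGroup.a.inj e
      set j := i - ((2 ^ n : ℕ) : ZMod (2 * m)) with hj
      have hjj : j + j = 0 := by rw [hj]; linear_combination he - hmm
      rw [show i = ((2 ^ n : ℕ) : ZMod (2 * m)) + j by rw [hj]; ring, ← QuaternionGroup.a_mul_a, map_mul,
        hker j hjj, mul_one]
  set R : Subgroup H := (zpowers (QuaternionGroup.a 1 : QuaternionGroup m)).map f with hR
  have haR : ∀ i, f (QuaternionGroup.a i) ∈ R := fun i => by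
    refine mem_map_of_mem f ?_
    rw [← ZMod.natCast_zmod_val i, ← QuaternionGroup.a_one_pow]
    exact pow_mem (mem_zpowers _) _
  have hRa : ∀ u ∈ R, ∃ i, u = f (QuaternionGroup.a i) := by
    rintro _ ⟨y, hy, rfl⟩
    obtain ⟨k, rfl⟩ := mem_powers_iff_mem_zpowers.2 hy
    exact ⟨_, congrArg f (QuaternionGroup.a_one_pow k)⟩
  have hxR : ∀ i, f (QuaternionGroup.xa i) ∉ R := by
    intro i h
    obtain ⟨j, hj⟩ := hRa _ h
    refine hxa (i - -j) ?_
    rw [← QuaternionGroup.a_mul_xa, map_mul, hj, ← map_mul, QuaternionGroup.a_mul_a, neg_add_cancel,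
      ← QuaternionGroup.one_def, map_one]
  refine ⟨⟨R, map_le_range f _, ?_, fun u hu w hw hu2 hw2 => ?_⟩, ?_⟩
  · rw [relIndex, index_eq_two_iff]
    refine ⟨⟨_, ⟨QuaternionGroup.xa 0, rfl⟩⟩, ?_⟩
    rintro ⟨_, y, rfl⟩
    simp only [mem_subgroupOf, Subgroup.coe_mul, ← map_mul]
    rcases y with i | i
    · rw [QuaternionGroup.a_mul_xa]
      exact Or.inr ⟨haR i, hxR _⟩
    · rw [QuaternionGroup.xa_mul_xa]
      exact Or.inl ⟨haR _, hxR i⟩
  · obtain ⟨i, rfl⟩ := hRa u hu
    obtain ⟨j, rfl⟩ := hRa w hw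
    rw [hinv i hu2, hinv j hw2]
  rcases Nat.eq_zero_or_pos n with rfl | hn
  · left
    subst hm
    rintro _ ⟨y, rfl⟩
    rw [← map_mul, hf]
    rcases y with i | i
    · rw [QuaternionGroup.a_mul_a, QuaternionGroup.one_def]
      have : ∀ i : ZMod (2 * 2 ^ (0 + 1)),
          i + i = 0 ∨ i + i = ((2 ^ (0 + 1) : ℕ) : ZMod (2 * 2 ^ (0 + 1))) := by decide
      exact (this i).imp (congrArg _) (congrArg _)
    · rw [QuaternionGroup.xa_mul_xa, add_sub_cancel_right]
      exact Or.inr rfl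
  · right
    have key : ∀ u ∈ f.range, orderOf u = 2 → (∀ d ∈ f.range, Commute u d) →
        u = f (QuaternionGroup.a ((2 ^ n : ℕ) : ZMod (2 * m))) := by
      rintro _ ⟨y, rfl⟩ hu hc
      rcases y with i | i
      · exact hinv i hu
      exfalso
      have h := (hc _ ⟨QuaternionGroup.a 1, rfl⟩).eq
      rw [← map_mul, ← map_mul, QuaternionGroup.xa_mul_a, QuaternionGroup.a_mul_xa] at h
      have h' : f (QuaternionGroup.a 2) = 1 := by
        have e : (QuaternionGroup.xa (i + 1) : QuaternionGroup m) =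
            QuaternionGroup.xa (i - 1) * QuaternionGroup.a 2 := by
          rw [QuaternionGroup.xa_mul_a]; congr 1; ring
        rw [e, map_mul] at h
        exact mul_eq_left.1 h
      have h4 : 4 ≤ m := by
        rw [hm]
        calc 4 = 2 ^ 2 := rfl
          _ ≤ _ := Nat.pow_le_pow_right two_pos (by omega)
      rcases (hf _).1 h' with e | e
      · rw [QuaternionGroup.one_def] at e
        have h2 : ((2 : ℕ) : ZMod (2 * m)) = 0 := by exact_mod_cast QuaternionGroup.a.inj e
        rw [ZMod.natCast_eq_zero_iff] at h2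
        have := Nat.le_of_dvd two_pos h2
        omega
      · have h2 : ((2 : ℕ) : ZMod (2 * m)) = (m : ℕ) := by exact_mod_cast QuaternionGroup.a.inj e
        rw [ZMod.natCast_eq_natCast_iff', Nat.mod_eq_of_lt (by omega), Nat.mod_eq_of_lt (by omega)] at h2
        omega
    intro u hu w hw hu2 hw2 huc hwc
    rw [key u hu hu2 huc, key w hw hw2 hwc]

variable {G : Type u} [Group G] [Finite G] {K : Subgroup G}

/-- Two elements with the same image modulo a 2-core of order two. -/
theorem eq_or_eq_mul_of_pr {z : G} (hz : orderOf z = 2) (hP : Cfsg.pCore 2 G = zpowers z) {a b : G}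
    (h : pr a = pr b) : a = b ∨ a = b * z := by
  have h1 : b⁻¹ * a ∈ zpowers z := by rw [← hP, ← pr_eq_one, map_mul, map_inv, h, inv_mul_cancel]
  obtain ⟨k, hk⟩ := mem_zpowers_iff.1 h1
  rcases Int.even_or_odd' k with ⟨j, rfl | rfl⟩
  · left
    rw [zpow_mul, zpow_two, mul_self_of_orderOf hz, one_zpow] at hk
    exact (inv_mul_eq_one.1 hk.symm).symm
  · right
    rw [zpow_add, zpow_mul, zpow_two, mul_self_of_orderOf hz, one_zpow, one_mul, zpow_one] at hk
    exact inv_mul_eq_iff_eq_mul.1 hk.symm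

namespace One

variable (hK : One G K)
include hK

/-- A component with one involution, the generator of a 2-core of order two, is impossible. -/
theorem not_quaternion_component (I : Inputs.{u}) {z : G} (hz : orderOf z = 2)
    (hP : Cfsg.pCore 2 G = zpowers z) (hle : Cfsg.pCore 2 G ≤ K)
    (huniq : ∀ k ∈ K, orderOf k = 2 → k = z) : False := by
  classical
  haveI := Fact.mk Nat.prime_two
  haveI := hK.normal_map
  haveI := hK.simple
  have hzP : z ∈ Cfsg.pCore 2 G := by rw [hP]; exact mem_zpowers z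
  have hzK : z ∈ K := hle hzP
  have hzz : z * z = 1 := mul_self_of_orderOf hz
  have hz1 : z ≠ 1 := Involutions.Basic.ne_one hz
  have hzc : ∀ g : G, g * z * g⁻¹ = z := fun g => huniq _ (hK.normal.conj_mem z hzK g)
    (by rw [Involutions.Basic.orderOf_conj, hz])
  have hcomz : ∀ g : G, Commute g z := fun g => mul_inv_eq_iff_eq_mul.1 (hzc g)
  have hπz : pr z = 1 := pr_eq_one.2 hzP
  -- an involution outside the component
  obtain ⟨S⟩ := (inferInstance : Nonempty (Sylow 2 G))
  have hzS : z ∈ (S : Subgroup G) := Agent.Cores.pCore_le_sylow S hzP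
  obtain ⟨x, hxS, hx2, hxz⟩ : ∃ x ∈ (S : Subgroup G), orderOf x = 2 ∧ x ≠ z := by
    obtain ⟨p, hp, q, hq, hp2, hq2, hpq, -⟩ := hK.hyp.exists_pair S
    by_cases h : p = z
    · exact ⟨q, hq, hq2, fun e => hpq (h.trans e.symm)⟩
    · exact ⟨p, hp, hp2, h⟩
  have hxx : x * x = 1 := mul_self_of_orderOf hx2
  set Sb := S.mapSurjective (QuotientGroup.mk'_surjective (Cfsg.pCore 2 G)) with hSb
  have hmem : ∀ g : G, pr g ∈ (Sb : Subgroup (G ⧸ Cfsg.pCore 2 G)) ↔ g ∈ (S : Subgroup G) := by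
    intro g
    rw [hSb, Sylow.coe_mapSurjective]
    exact ⟨mem_sylow_of_pr, mem_map_of_mem _⟩
  -- involutions other than `z` of `S` lie in no other Sylow subgroup, also modulo `z`
  have sing : ∀ y ∈ (S : Subgroup G), orderOf y = 2 → y ≠ z → ∀ g : G,
      pr g * pr y * (pr g)⁻¹ ∈ (Sb : Subgroup (G ⧸ Cfsg.pCore 2 G)) →
      g ∈ normalizer ((S : Subgroup G) : Set G) := by
    intro y hy hy2 hyz g hg
    rw [← map_inv, ← map_mul, ← map_mul, hmem] at hg
    refine Sylow.smul_eq_iff_mem_normalizer.1 (hK.hyp.inter.eq_of_two (conj_mem_smul g hy) hg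
      (hzc g ▸ conj_mem_smul g hzS) hzS (by rw [Involutions.Basic.orderOf_conj, hy2]) hz fun e => hyz ?_)
    exact mul_left_cancel (mul_right_cancel (e.trans (hzc g).symm))
  have hnormb : ∀ g ∈ normalizer ((S : Subgroup G) : Set G),
      pr g ∈ normalizer ((Sb : Subgroup (G ⧸ Cfsg.pCore 2 G)) : Set (G ⧸ Cfsg.pCore 2 G)) := by
    intro g hg
    rw [mem_normalizer_iff]
    intro s
    obtain ⟨s₀, rfl⟩ := QuotientGroup.mk'_surjective (Cfsg.pCore 2 G) s
    rw [← map_inv, ← map_mul, ← map_mul, hmem, hmem]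
    exact mem_normalizer_iff.1 hg s₀
  set L := K.map pr with hL
  set X := pr x with hX
  have hXS : X ∈ (Sb : Subgroup (G ⧸ Cfsg.pCore 2 G)) := (hmem x).2 hxS
  have hXX : X * X = 1 := by rw [hX, ← map_mul, hxx, map_one]
  have hXL : X ∉ L := by
    rintro ⟨k, hk, hke⟩
    refine hxz (huniq x ?_ hx2)
    rcases eq_or_eq_mul_of_pr hz hP hke.symm with e | e <;> rw [e]
    exacts [hk, mul_mem hk hzK]
  have hX1 : X ≠ 1 := fun e => hXL (e ▸ one_mem L)
  have hXo : orderOf X = 2 := Involutions.Basic.orderOf_two_iff.2 ⟨hXX, hX1⟩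
  have hLn : ∀ l ∈ L, ∀ g : G ⧸ Cfsg.pCore 2 G, g * l * g⁻¹ ∈ L := fun l hl g =>
    hK.normal_map.conj_mem l hl g
  set D := (Sb : Subgroup (G ⧸ Cfsg.pCore 2 G)) ⊓ L with hD
  set T := CyclicSylowInter.sylowIn Sb L with hT
  have hTmem : ∀ l : ↥L, l ∈ (T : Subgroup ↥L) ↔ (l : G ⧸ Cfsg.pCore 2 G) ∈ (Sb : Subgroup _) :=
    fun l => by rw [hT, CyclicSylowInter.coe_sylowIn, mem_subgroupOf]
  -- a central involution of the image of `S` inside `L`
  obtain ⟨v, hvD, hv2, hvc⟩ : ∃ v ∈ D, orderOf v = 2 ∧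
      ∀ s ∈ (Sb : Subgroup (G ⧸ Cfsg.pCore 2 G)), Commute v s := by
    obtain ⟨l, hl, hl2⟩ := hK.exists_involution T
    haveI : Group.IsNilpotent ↥(Sb : Subgroup (G ⧸ Cfsg.pCore 2 G)) := Sb.isPGroup'.isNilpotent
    haveI : (L.subgroupOf (Sb : Subgroup (G ⧸ Cfsg.pCore 2 G))).Normal := Normal.subgroupOf ‹_› _
    have hne : L.subgroupOf (Sb : Subgroup (G ⧸ Cfsg.pCore 2 G)) ≠ ⊥ := fun e => by
      have h1 : (⟨_, (hTmem l).1 hl⟩ : ↥(Sb : Subgroup (G ⧸ Cfsg.pCore 2 G))) ∈ L.subgroupOf _ :=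
        mem_subgroupOf.2 l.2
      rw [e, mem_bot] at h1
      exact Involutions.Basic.ne_one hl2 (Subtype.ext (congrArg Subtype.val h1 :))
    obtain ⟨w, hw, hw2, -⟩ := exists_central_involution
      ((Sb.isPGroup'.to_subgroup _).to_le le_rfl) (Agent.Cores.inf_center_ne_bot hne)
    refine ⟨w, ⟨w.2, mem_subgroupOf.1 hw.1⟩, by rw [Subgroup.orderOf_coe, hw2], fun s hs => ?_⟩
    exact (congrArg Subtype.val (mem_center_iff.1 hw.2 ⟨s, hs⟩)).symm
  have hv1 : v ≠ 1 := Involutions.Basic.ne_one hv2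
  have hcent : ∀ g : G ⧸ Cfsg.pCore 2 G, (∀ l ∈ L, Commute g l) → g = 1 := by
    intro g hg
    obtain ⟨g₀, rfl⟩ := QuotientGroup.mk'_surjective (Cfsg.pCore 2 G) g
    refine pr_eq_one.2 (hK.mem_core_of_commute (fun p hp => ?_) (hK.commute_of_pr hg))
    rw [hP] at hp
    obtain ⟨j, rfl⟩ := mem_zpowers_iff.1 hp
    exact (hcomz g₀).zpow_right j
  -- there is a second involution in `D`
  obtain ⟨d₁, hd₁, hd₁2, hd₁v⟩ : ∃ d ∈ D, orderOf d = 2 ∧ d ≠ v := by
    by_contra hno
    push Not at hno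
    have hvL : (⟨v, hvD.2⟩ : ↥L) ∈ (T : Subgroup ↥L) := (hTmem _).2 hvD.1
    have hvo : orderOf (⟨v, hvD.2⟩ : ↥L) = 2 := by rw [← Subgroup.orderOf_coe]; exact hv2
    have hO : Cfsg.oddCore ↥L = ⊥ := by
      rcases (inferInstance : (Cfsg.oddCore ↥L).Normal).eq_bot_or_eq_top with e | e
      · exact e
      exfalso
      have h1 := Agent.Cores.oddCore_odd (G := ↥L)
      rw [e, card_top] at h1
      exact Nat.not_even_iff_odd.2 h1 (even_iff_two_dvd.2 (hvo.symm.dvd.trans (orderOf_dvd_natCard _)))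
    have hiso : Cfsg.IsIsolatedInvolution (⟨v, hvD.2⟩ : ↥L) := by
      refine ⟨hvo, fun g hg => ?_⟩
      obtain ⟨A, h1, h2⟩ := exists_sylow_pair hvo
        (by rw [Involutions.Basic.orderOf_conj, hvo]) hg
      obtain ⟨c, hc⟩ := MulAction.exists_smul_eq ↥L A T
      have hval : ∀ a ∈ (A : Subgroup ↥L), orderOf a = 2 →
          ((c * a * c⁻¹ : ↥L) : G ⧸ Cfsg.pCore 2 G) = v := fun a ha ha2 =>
        hno _ ⟨(hTmem _).1 (hc ▸ conj_mem_smul c ha), (c * a * c⁻¹).2⟩
          (by rw [Subgroup.orderOf_coe, Involutions.Basic.orderOf_conj, ha2])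
      exact (mul_left_cancel (mul_right_cancel (Subtype.ext ((hval _ h1 hvo).trans
        (hval _ h2 (by rw [Involutions.Basic.orderOf_conj, hvo])).symm)))).symm
    have hcz := ZStar.Main.mem_center_of_isolated hO hiso
    refine hv1 (hcent v fun l hl => ?_)
    exact (congrArg Subtype.val (mem_center_iff.1 hcz ⟨l, hl⟩)).symm
  -- the Sylow subgroup of the component is quaternion
  set Q := (S : Subgroup G) ⊓ K with hQ
  have hQu : UniqueInv Q := fun a ha b hb ha2 hb2 => (huniq a ha.2 ha2).trans (huniq b hb.2 hb2).symm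
  have hQD : Q.map pr = D := by
    refine le_antisymm ?_ fun d hd => ?_
    · rintro _ ⟨q, hq, rfl⟩
      exact ⟨(hmem q).2 hq.1, mem_map_of_mem pr hq.2⟩
    · obtain ⟨k, hk, rfl⟩ := hd.2
      exact ⟨k, ⟨(hmem k).1 hd.1, hk⟩, rfl⟩
  obtain ⟨⟨R, hRD, hRidx, hRu⟩, hZD⟩ :
      (∃ R : Subgroup (G ⧸ Cfsg.pCore 2 G), R ≤ D ∧ R.relIndex D = 2 ∧
        ∀ u ∈ R, ∀ w ∈ R, orderOf u = 2 → orderOf w = 2 → u = w) ∧
      ((∀ d ∈ D, d * d = 1) ∨ ∀ u ∈ D, ∀ w ∈ D, orderOf u = 2 → orderOf w = 2 →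
        (∀ d ∈ D, Commute u d) → (∀ d ∈ D, Commute w d) → u = w) := by
    rcases hQu.isCyclic_or_quaternion (S.isPGroup'.to_le inf_le_left) with hc | ⟨n, ⟨e⟩⟩
    · exfalso
      haveI : IsCyclic ↥D := by
        rw [← hQD]
        exact isCyclic_of_surjective _ (MonoidHom.subgroupMap_surjective pr Q)
      haveI := Fintype.ofFinite ↥D
      have h3 := IsCyclic.card_pow_eq_one_le (α := ↥D) (n := 2) two_pos
      have hsub : ({1, ⟨v, hvD⟩, ⟨d₁, hd₁⟩} : Finset ↥D) ⊆ Finset.univ.filter fun a : ↥D => a ^ 2 = 1 := by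
        intro a ha
        simp only [Finset.mem_insert, Finset.mem_singleton] at ha
        simp only [Finset.mem_filter, Finset.mem_univ, true_and]
        rcases ha with rfl | rfl | rfl
        · exact one_pow 2
        · exact Subtype.ext (by rw [SubgroupClass.coe_pow, pow_two]; exact mul_self_of_orderOf hv2)
        · exact Subtype.ext (by rw [SubgroupClass.coe_pow, pow_two]; exact mul_self_of_orderOf hd₁2)
      have hc3 : ({1, ⟨v, hvD⟩, ⟨d₁, hd₁⟩} : Finset ↥D).card = 3 :=
        Finset.card_eq_three.2 ⟨1, ⟨v, hvD⟩, ⟨d₁, hd₁⟩, fun h => hv1 (congrArg Subtype.val h).symm,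
          fun h => Involutions.Basic.ne_one hd₁2 (congrArg Subtype.val h).symm,
          fun h => hd₁v (congrArg Subtype.val h).symm, rfl⟩
      have := Finset.card_le_card hsub
      omega
    · haveI : NeZero (2 ^ (n + 1)) := ⟨by positivity⟩
      set f : QuaternionGroup (2 ^ (n + 1)) →* G ⧸ Cfsg.pCore 2 G :=
        (pr.comp Q.subtype).comp e.symm.toMonoidHom with hf
      have hfr : f.range = D := by
        rw [hf, MonoidHom.range_comp,
          MonoidHom.range_eq_top.2 e.symm.surjective, ← MonoidHom.range_eq_map, MonoidHom.range_comp,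
          Subgroup.range_subtype, hQD]
      have hez : e ⟨z, hzS, hzK⟩ = QuaternionGroup.a ((2 ^ (n + 1) : ℕ) : ZMod (2 * 2 ^ (n + 1))) := by
        refine ZStar.Consequences.quaternion_involution ?_ fun h => hz1 ?_
        · rw [← map_mul, MulEquiv.map_eq_one_iff]; exact Subtype.ext hzz
        · exact congrArg Subtype.val (e.map_eq_one_iff.1 h)
      have hker : ∀ y, f y = 1 ↔ y = 1 ∨
          y = QuaternionGroup.a ((2 ^ (n + 1) : ℕ) : ZMod (2 * 2 ^ (n + 1))) := by
        intro y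
        refine ⟨fun h => ?_, ?_⟩
        · rcases eq_or_eq_mul_of_pr (b := (1 : G)) hz hP ((h : pr ((e.symm y : ↥Q) : G) = 1).trans (map_one _).symm) with h1 | h1
          · exact Or.inl (e.symm.map_eq_one_iff.1 (Subtype.ext h1))
          · right
            rw [one_mul] at h1
            rw [← hez, ← e.apply_symm_apply y]
            exact congrArg e (Subtype.ext h1)
        · rintro (rfl | rfl)
          · exact map_one f
          · show pr ((e.symm _ : ↥Q) : G) = 1
            rw [← hez, e.symm_apply_apply]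
            exact hπz
      rw [← hfr]
      exact quaternion_image n f hker
  -- one class of involutions in `L`
  have hclass : ∀ d ∈ D, orderOf d = 2 → ∃ g : G ⧸ Cfsg.pCore 2 G, g * d * g⁻¹ = v := by
    have h2idx : ∀ H : Subgroup ↥L, H.index ≠ 2 := by
      intro H hH
      haveI := Subgroup.normal_of_index_eq_two hH
      rcases (inferInstance : H.Normal).eq_bot_or_eq_top with rfl | rfl
      · rw [index_bot] at hH
        haveI : Fact (Nat.card ↥L).Prime := ⟨by rw [hH]; exact Nat.prime_two⟩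
        haveI : IsCyclic ↥L := isCyclic_of_prime_card (p := 2) hH
        exact hK.noncomm ⟨⟨fun a b => (IsCyclic.commGroup (α := ↥L)).mul_comm a b⟩⟩
      · simp at hH
    have hrel : (R.subgroupOf L).relIndex (T : Subgroup ↥L) = 2 := by
      rw [hT, CyclicSylowInter.coe_sylowIn,
        show (Sb : Subgroup (G ⧸ Cfsg.pCore 2 G)).subgroupOf L = D.subgroupOf L by
          rw [hD, inf_subgroupOf_right],
        relIndex_subgroupOf inf_le_right]
      exact hRidx
    have hto : ∀ d, ∀ hd : d ∈ D, orderOf d = 2 → ∃ g : ↥L, (g : G ⧸ Cfsg.pCore 2 G) * d * (g : G ⧸ Cfsg.pCore 2 G)⁻¹ ∈ R := by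
      intro d hd hd2
      obtain ⟨g, hg⟩ := Involutions.ThompsonTransfer.exists_conj_mem h2idx T _
        (fun l hl => (hTmem l).2 (hRD (mem_subgroupOf.1 hl)).1) hrel ⟨d, hd.2⟩
        (by rw [← Subgroup.orderOf_coe]; exact hd2)
      exact ⟨g, mem_subgroupOf.1 hg⟩
    intro d hd hd2
    obtain ⟨g, hg⟩ := hto d hd hd2
    obtain ⟨g', hg'⟩ := hto v hvD hv2
    have := hRu _ hg _ hg' (by rw [Involutions.Basic.orderOf_conj, hd2])
      (by rw [Involutions.Basic.orderOf_conj, hv2])
    refine ⟨(g' : G ⧸ Cfsg.pCore 2 G)⁻¹ * g, ?_⟩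
    rw [show (g' : G ⧸ Cfsg.pCore 2 G)⁻¹ * g * d * ((g' : G ⧸ Cfsg.pCore 2 G)⁻¹ * g)⁻¹ =
      (g' : G ⧸ Cfsg.pCore 2 G)⁻¹ * ((g : G ⧸ Cfsg.pCore 2 G) * d * (g : G ⧸ Cfsg.pCore 2 G)⁻¹) * g' by group, this]
    group
  by_cases hfix : ∃ d ∈ D, orderOf d = 2 ∧ d ≠ v ∧ Commute X d
  · obtain ⟨d, hd, hd2, hdv, hXd⟩ := hfix
    rcases hZD with hsq | hzd
    · -- an elementary abelian subgroup of order eight
      have hDc : ∀ a ∈ D, ∀ b ∈ D, Commute a b := by
        intro a ha b hb
        have h := hsq _ (mul_mem ha hb)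
        have hai := inv_eq_of_mul_eq_one_right (hsq a ha)
        have hbi := inv_eq_of_mul_eq_one_right (hsq b hb)
        have := inv_eq_of_mul_eq_one_right h
        rw [_root_.mul_inv_rev, hai, hbi] at this
        exact this.symm
      have hR1 : ∀ a ∈ R, ∀ b ∈ R, a ≠ 1 → b ≠ 1 → a = b := fun a ha b hb ha1 hb1 =>
        hRu a ha b hb (Involutions.Basic.orderOf_two_iff.2 ⟨hsq a (hRD ha), ha1⟩)
          (Involutions.Basic.orderOf_two_iff.2 ⟨hsq b (hRD hb), hb1⟩)
      have hcard : Nat.card ↥D ≤ 4 := by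
        have hR2 : Nat.card ↥R ≤ 2 := by
          by_contra hcon
          have h3 : 2 < (R : Set (G ⧸ Cfsg.pCore 2 G)).ncard := by
            rw [← Nat.card_coe_set_eq]; exact not_le.1 hcon
          obtain ⟨a, ha, ha1⟩ := Set.exists_ne_of_one_lt_ncard (lt_trans (by norm_num) h3) 1
          have : (R : Set (G ⧸ Cfsg.pCore 2 G)) ⊆ {1, a} := fun b hb => by
            by_cases hb1 : b = 1
            · exact Or.inl hb1
            · exact Or.inr (hR1 b hb a ha hb1 ha1)
          have := (Set.ncard_le_ncard this (Set.toFinite _)).trans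
            ((Set.ncard_insert_le _ _).trans (by rw [Set.ncard_singleton]))
          omega
        have := (R.subgroupOf D).card_mul_index
        rw [Nat.card_congr (subgroupOfEquivOfLe hRD).toEquiv] at this
        have h' : (R.subgroupOf D).index = 2 := hRidx
        rw [h'] at this
        omega
      have hXD : ∀ a ∈ D, Commute X a := by
        have hd1 : d ≠ 1 := Involutions.Basic.ne_one hd2
        have hXv : Commute X v := (hvc X hXS).symm
        have hset : (D : Set (G ⧸ Cfsg.pCore 2 G)) ⊆ {1, v, d, v * d} := by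
          have hsub : ({1, v, d, v * d} : Set (G ⧸ Cfsg.pCore 2 G)) ⊆ D := by
            rintro a (rfl | rfl | rfl | rfl)
            exacts [one_mem _, hvD, hd, mul_mem hvD hd]
          have h4 : ({1, v, d, v * d} : Set (G ⧸ Cfsg.pCore 2 G)).ncard = 4 := by
            have n1 : v * d ≠ 1 := fun h => hdv
              ((eq_inv_of_mul_eq_one_right h).trans (Involutions.Basic.inv_eq hv2))
            rw [Set.ncard_eq_succ]
            refine ⟨1, {v, d, v * d}, ?_, rfl, Set.ncard_eq_three.2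
              ⟨v, d, v * d, hdv.symm, fun h => hd1 (mul_eq_left.1 h.symm),
                fun h => hv1 (mul_eq_right.1 h.symm), rfl⟩⟩
            simp [hv1.symm, hd1.symm, n1.symm]
          exact (Set.eq_of_subset_of_ncard_le hsub (by rw [h4, ← Nat.card_coe_set_eq]; exact hcard)
            (Set.toFinite _)).symm.le
        intro a ha
        rcases hset ha with rfl | rfl | rfl | rfl
        exacts [Commute.one_right X, hXv, hXd, hXv.mul_right hXd]
      -- the extension
      set M := L ⊔ zpowers X with hM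
      have hXM : X ∈ M := mem_sup_right (mem_zpowers X)
      have hLM : L ≤ M := le_sup_left
      set E := ((Sb : Subgroup (G ⧸ Cfsg.pCore 2 G)).subgroupOf M) with hE
      have hMmem : ∀ m ∈ M, m ∈ L ∨ m * X ∈ L := by
        intro m hm
        rw [hM, mem_sup_of_normal_left] at hm
        obtain ⟨l, hl, y, hy, rfl⟩ := hm
        obtain ⟨j, rfl⟩ := mem_zpowers_iff.1 hy
        rcases Int.even_or_odd' j with ⟨i, rfl | rfl⟩
        · left; rw [zpow_mul, zpow_two, hXX, one_zpow, mul_one]; exact hl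
        · right
          rw [zpow_add, zpow_mul, zpow_two, hXX, one_zpow, one_mul, zpow_one, mul_assoc, hXX, mul_one]
          exact hl
      have hEmem : ∀ e : ↥M, e ∈ E → ∃ a ∈ D, (e : G ⧸ Cfsg.pCore 2 G) = a ∨
          (e : G ⧸ Cfsg.pCore 2 G) = a * X := by
        intro e he
        rcases hMmem e e.2 with h | h
        · exact ⟨e, ⟨mem_subgroupOf.1 he, h⟩, Or.inl rfl⟩
        · refine ⟨_, ⟨mul_mem (mem_subgroupOf.1 he) hXS, h⟩, Or.inr ?_⟩
          rw [mul_assoc, hXX, mul_one]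
      have hEc : IsMulCommutative ↥E := ⟨⟨fun a b => by
        obtain ⟨p, hp, hpe⟩ := hEmem _ a.2
        obtain ⟨q, hq, hqe⟩ := hEmem _ b.2
        have c1 := hDc p hp q hq
        have c2 := hXD p hp
        have c3 := hXD q hq
        apply Subtype.ext; apply Subtype.ext
        show ((a : ↥M) : G ⧸ Cfsg.pCore 2 G) * (b : ↥M) = (b : ↥M) * (a : ↥M)
        rcases hpe with e1 | e1 <;> rcases hqe with e2 | e2 <;> rw [e1, e2]
        · exact c1.eq
        · exact (c1.mul_right c2.symm).eq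
        · exact (c1.mul_left c3).eq
        · exact ((c1.mul_right c2.symm).mul_left (c3.mul_right (Commute.refl X))).eq⟩⟩
      obtain ⟨A, hA⟩ := ((Sb.isPGroup'.comap_subtype (K := M)) : IsPGroup 2 E).exists_le_sylow
      have hAE : (A : Subgroup ↥M) = E := by
        refine le_antisymm (fun a ha => ?_) hA
        obtain ⟨U, hU⟩ := (A.isPGroup'.map M.subtype).exists_le_sylow
        obtain ⟨U₀, -, hU₀⟩ := exists_sylow_lift (QuotientGroup.mk'_surjective (Cfsg.pCore 2 G)) U
          (D₀ := ⊥) IsPGroup.of_bot bot_le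
        have hxU : pr x ∈ (U₀ : Subgroup G).map pr := by
          show X ∈ (U₀ : Subgroup G).map (QuotientGroup.mk' _)
          rw [hU₀]
          exact hU (mem_map_of_mem _ (hA (show (⟨X, hXM⟩ : ↥M) ∈ E from mem_subgroupOf.2 hXS)))
        have hUS : U₀ = S := hK.hyp.inter.eq_of_two (mem_sylow_of_pr hxU) hxS
          (Agent.Cores.pCore_le_sylow U₀ hzP) hzS hx2 hz hxz
        rw [hE, mem_subgroupOf, hSb, Sylow.coe_mapSurjective, ← hUS, hU₀]
        exact hU (mem_map_of_mem _ ha)
      set N := normalizer ((A : Subgroup ↥M) : Set ↥M) with hN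
      set A' := (A : Subgroup ↥M).subgroupOf N with hA'
      have hodd : Odd (Nat.card (↥N ⧸ A')) := by
        rw [← index_eq_card, Nat.odd_iff, ← Nat.two_dvd_ne_zero]
        exact fun h => A.not_dvd_index (h.trans (by
          have := relIndex_mul_index (le_normalizer (H := (A : Subgroup ↥M)))
          exact Dvd.intro _ this))
      have hcomA : ∀ a ∈ (A : Subgroup ↥M), ∀ b ∈ (A : Subgroup ↥M), Commute a b := by
        rw [hAE]
        exact fun a ha b hb => congrArg Subtype.val (hEc.is_comm.comm ⟨a, ha⟩ ⟨b, hb⟩)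
      letI : CommGroup ↥(A : Subgroup ↥M) :=
        { (A : Subgroup ↥M).toGroup with mul_comm := fun a b => Subtype.ext (hcomA a a.2 b b.2).eq }
      set Xm : ↥M := ⟨X, hXM⟩ with hXm
      have hXA : Xm ∈ (A : Subgroup ↥M) := hA (mem_subgroupOf.2 hXS)
      let φ : ↥N ⧸ A' → ↥(A : Subgroup ↥M) := Quotient.lift
        (fun n : ↥N => (⟨(n : ↥M) * Xm * (n : ↥M)⁻¹, (mem_normalizer_iff.1 n.2 Xm).1 hXA⟩ :
          ↥(A : Subgroup ↥M))) (by
          intro n n' h
          have h' := QuotientGroup.leftRel_apply.1 h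
          rw [hA', mem_subgroupOf, Subgroup.coe_mul, InvMemClass.coe_inv] at h'
          refine Subtype.ext ?_
          show (n : ↥M) * Xm * (n : ↥M)⁻¹ = (n' : ↥M) * Xm * (n' : ↥M)⁻¹
          rw [show (n' : ↥M) * Xm * (n' : ↥M)⁻¹ =
            (n : ↥M) * (((n : ↥M)⁻¹ * n') * Xm * ((n : ↥M)⁻¹ * n')⁻¹) * (n : ↥M)⁻¹ by group,
            (hcomA _ h' _ hXA).eq, mul_inv_cancel_right])
      haveI := Fintype.ofFinite (↥N ⧸ A')
      set y := ∏ q, φ q with hy
      have hyfix : ∀ n ∈ N, n * (y : ↥M) * n⁻¹ = y := by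
        intro n hn
        let c : ↥(A : Subgroup ↥M) →* ↥(A : Subgroup ↥M) :=
          { toFun := fun a => ⟨n * a * n⁻¹, (mem_normalizer_iff.1 hn a).1 a.2⟩
            map_one' := Subtype.ext (by simp)
            map_mul' := fun a b => Subtype.ext (by simp [mul_assoc]) }
        have h1 : c y = y := by
          rw [hy, map_prod]
          refine Fintype.prod_equiv (MulAction.toPerm (⟨n, hn⟩ : ↥N)) _ _ fun q => ?_
          obtain ⟨q, rfl⟩ := QuotientGroup.mk_surjective q
          refine Subtype.ext ?_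
          show n * ((q : ↥M) * Xm * (q : ↥M)⁻¹) * n⁻¹ = n * (q : ↥M) * Xm * (n * (q : ↥M))⁻¹
          group
        exact congrArg Subtype.val h1
      -- modulo `L` every factor is `X`
      haveI : (L.subgroupOf M).Normal := Normal.subgroupOf ‹_› _
      have hyL : ((y : ↥M) : G ⧸ Cfsg.pCore 2 G) ∉ L := by
        intro h
        let ψ := QuotientGroup.mk' ((L.subgroupOf M).subgroupOf (A : Subgroup ↥M))
        have hconst : ∀ q, ψ (φ q) = ψ ⟨Xm, hXA⟩ := by
          intro q
          obtain ⟨n, rfl⟩ := QuotientGroup.mk_surjective q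
          refine QuotientGroup.eq.2 (mem_subgroupOf.2 (mem_subgroupOf.2 ?_))
          show ((((n : ↥M) * Xm * (n : ↥M)⁻¹)⁻¹ * Xm : ↥M) : G ⧸ Cfsg.pCore 2 G) ∈ L
          rcases hMmem _ (n : ↥M).2 with hl | hl
          · simp only [Subgroup.coe_mul, InvMemClass.coe_inv, hXm]
            rw [show ((((n : ↥M) : G ⧸ Cfsg.pCore 2 G) * X * ((n : ↥M) : G ⧸ Cfsg.pCore 2 G)⁻¹)⁻¹ * X) =
              ((n : ↥M) : G ⧸ Cfsg.pCore 2 G) * (X⁻¹ * ((n : ↥M) : G ⧸ Cfsg.pCore 2 G)⁻¹ * X⁻¹⁻¹) by group]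
            exact mul_mem hl (hLn _ (inv_mem hl) _)
          · simp only [Subgroup.coe_mul, InvMemClass.coe_inv, hXm]
            rw [show ((((n : ↥M) : G ⧸ Cfsg.pCore 2 G) * X * ((n : ↥M) : G ⧸ Cfsg.pCore 2 G)⁻¹)⁻¹ * X) =
              (((n : ↥M) : G ⧸ Cfsg.pCore 2 G) * X) * X⁻¹ * X⁻¹ *
                (((n : ↥M) : G ⧸ Cfsg.pCore 2 G) * X * X⁻¹)⁻¹ * X by group,
              show (((n : ↥M) : G ⧸ Cfsg.pCore 2 G) * X) * X⁻¹ * X⁻¹ *
                (((n : ↥M) : G ⧸ Cfsg.pCore 2 G) * X * X⁻¹)⁻¹ * X =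
              (((n : ↥M) : G ⧸ Cfsg.pCore 2 G) * X) * (X * X)⁻¹ * X *
                (((n : ↥M) : G ⧸ Cfsg.pCore 2 G) * X)⁻¹ * X⁻¹ * (X * X) by group, hXX, inv_one, mul_one, mul_one]
            exact mul_mem hl (hLn _ (inv_mem hl) X) |> fun h0 => by simpa [mul_assoc] using h0
        have h1 : ψ y = 1 := (QuotientGroup.eq_one_iff _).2 (mem_subgroupOf.2 (mem_subgroupOf.2 h))
        rw [hy, map_prod, Finset.prod_congr rfl (fun q _ => hconst q), Finset.prod_const,
          Finset.card_univ, ← Nat.card_eq_fintype_card] at h1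
        obtain ⟨r, hr⟩ := hodd
        have hXm2 : (⟨Xm, hXA⟩ : ↥(A : Subgroup ↥M)) * ⟨Xm, hXA⟩ = 1 := Subtype.ext (Subtype.ext hXX)
        rw [hr, pow_succ, pow_mul, pow_two, ← map_mul, hXm2, map_one, one_pow, one_mul] at h1
        exact hXL (mem_subgroupOf.1 (mem_subgroupOf.1 ((QuotientGroup.eq_one_iff _).1 h1)))
      have hyA : (y : ↥M) ∈ (A : Subgroup ↥M) := y.2
      have hyo : orderOf (y : ↥M) = 2 := by
        refine Involutions.Basic.orderOf_two_iff.2 ⟨?_, fun h => hyL (by rw [h]; exact one_mem L)⟩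
        obtain ⟨p, hp, hpe⟩ := hEmem (y : ↥M) (by rw [← hAE]; exact hyA)
        apply Subtype.ext
        show ((y : ↥M) : G ⧸ Cfsg.pCore 2 G) * (y : ↥M) = 1
        rcases hpe with e1 | e1 <;> rw [e1]
        · exact hsq p hp
        · rw [(hXD p hp).mul_mul_mul_comm, hsq p hp, hXX, one_mul]
      have hiso : Cfsg.IsIsolatedInvolution (y : ↥M) := by
        refine ⟨hyo, fun g hg => ?_⟩
        obtain ⟨B, h1, h2⟩ := exists_sylow_pair hyo (by rw [Involutions.Basic.orderOf_conj, hyo]) hg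
        obtain ⟨c, hc⟩ := MulAction.exists_smul_eq ↥M B A
        have hkey : ∀ m : ↥M, m * (y : ↥M) * m⁻¹ ∈ (A : Subgroup ↥M) → m * (y : ↥M) * m⁻¹ = y := by
          intro m hm
          obtain ⟨n, hn, hne⟩ := A.conj_eq_normalizer_conj_of_mem_centralizer (y : ↥M) m⁻¹
            (mem_centralizer_iff.2 fun a ha => (hcomA a ha _ hyA).eq)
            (by rw [inv_inv]; exact mem_centralizer_iff.2 fun a ha => (hcomA a ha _ hm).eq)
          rw [inv_inv] at hne
          rw [hne]
          simpa using hyfix n⁻¹ (inv_mem hn)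
        have e1 := hkey c ((congrArg Sylow.toSubgroup hc).le (conj_mem_smul c h1))
        have e2 := hkey (c * g) (by
          rw [show c * g * (y : ↥M) * (c * g)⁻¹ = c * (g * y * g⁻¹) * c⁻¹ by group]
          exact (congrArg Sylow.toSubgroup hc).le (conj_mem_smul c h2))
        rw [show c * g * (y : ↥M) * (c * g)⁻¹ = c * (g * y * g⁻¹) * c⁻¹ by group] at e2
        exact mul_left_cancel (mul_right_cancel (e2.trans e1.symm))
      have hOM : Cfsg.oddCore ↥M = ⊥ := by
        have hOL : ∀ o ∈ Cfsg.oddCore ↥M, o ∈ L.subgroupOf M → o = 1 := by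
          intro o ho hol
          haveI : ((Cfsg.oddCore ↥M).comap (Subgroup.inclusion hLM)).Normal := inferInstance
          rcases ‹((Cfsg.oddCore ↥M).comap (Subgroup.inclusion hLM)).Normal›.eq_bot_or_eq_top with e | e
          · have h1 : (⟨_, mem_subgroupOf.1 hol⟩ : ↥L) ∈ (Cfsg.oddCore ↥M).comap (Subgroup.inclusion hLM) :=
              ho
            rw [e, mem_bot] at h1
            exact Subtype.ext (congrArg Subtype.val h1 :)
          · exfalso
            have h1 : (⟨v, hvD.2⟩ : ↥L) ∈ (Cfsg.oddCore ↥M).comap (Subgroup.inclusion hLM) := e ▸ mem_top _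
            have h2 : orderOf (⟨v, hLM hvD.2⟩ : ↥M) = 2 := by rw [← Subgroup.orderOf_coe]; exact hv2
            have h3 := (Cfsg.oddCore ↥M).orderOf_dvd_natCard (mem_comap.1 h1)
            exact Nat.not_even_iff_odd.2 (Agent.Cores.oddCore_odd (G := ↥M))
              (even_iff_two_dvd.2 (h2.symm.dvd.trans h3))
        rw [eq_bot_iff]
        intro o ho
        rw [mem_bot]
        apply Subtype.ext
        refine hcent _ fun l hl => ?_
        have hmem1 : o * ⟨l, hLM hl⟩ * o⁻¹ * (⟨l, hLM hl⟩ : ↥M)⁻¹ ∈ Cfsg.oddCore ↥M := by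
          rw [mul_assoc, mul_assoc, ← mul_assoc (⟨l, hLM hl⟩ : ↥M)]
          exact mul_mem ho ((inferInstance : (Cfsg.oddCore ↥M).Normal).conj_mem _ (inv_mem ho) _)
        have h1 := hOL _ hmem1 (mem_subgroupOf.2 (mul_mem (hLn l hl _) (inv_mem hl)))
        exact mul_inv_eq_iff_eq_mul.1 (mul_inv_eq_one.1 (congrArg Subtype.val h1))
      have hyc := ZStar.Main.mem_center_of_isolated hOM hiso
      refine hyL ?_
      rw [hcent ((y : ↥M) : G ⧸ Cfsg.pCore 2 G) fun l hl =>
        ((congrArg Subtype.val (mem_center_iff.1 hyc ⟨l, hLM hl⟩)).symm : _)]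
      exact one_mem L
    · -- `v` is the central involution of `D`
      obtain ⟨g, hg⟩ := hclass d hd hd2
      have hY : Commute (g * X * g⁻¹) v := by
        have := hXd.map (MulAut.conj g).toMonoidHom
        rwa [MulEquiv.coe_toMonoidHom, MulAut.conj_apply, MulAut.conj_apply, hg] at this
      set C := centralizer ({v} : Set (G ⧸ Cfsg.pCore 2 G)) with hC
      have hSC : (Sb : Subgroup (G ⧸ Cfsg.pCore 2 G)) ≤ C := fun s hs =>
        mem_centralizer_singleton_iff.2 (hvc s hs).symm.eq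
      have hYC : g * X * g⁻¹ ∈ C := mem_centralizer_singleton_iff.2 hY.eq
      obtain ⟨B, hB⟩ := exists_sylow_mem (u := (⟨_, hYC⟩ : ↥C))
        (by rw [← Subgroup.orderOf_coe]; exact (Involutions.Basic.orderOf_conj g X).trans hXo)
      obtain ⟨c, hc⟩ := MulAction.exists_smul_eq ↥C B (Sb.subtype hSC)
      have hcY := conj_mem_smul c hB
      rw [hc, Sylow.coe_subtype, mem_subgroupOf] at hcY
      obtain ⟨g₀, hg₀⟩ := QuotientGroup.mk'_surjective (Cfsg.pCore 2 G) ((c : G ⧸ Cfsg.pCore 2 G) * g)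
      have hn := hnormb g₀ (sing x hxS hx2 hxz g₀ (by
        show pr g₀ * X * (pr g₀)⁻¹ ∈ _
        rw [show pr g₀ = (c : G ⧸ Cfsg.pCore 2 G) * g from hg₀]
        simpa [mul_assoc] using hcY))
      rw [show pr g₀ = (c : G ⧸ Cfsg.pCore 2 G) * g from hg₀] at hn
      set n := (c : G ⧸ Cfsg.pCore 2 G) * g with hn'
      have hnd : ∀ a ∈ D, n * a * n⁻¹ ∈ D := fun a ha =>
        ⟨(mem_normalizer_iff.1 hn a).1 ha.1, hLn a ha.2 n⟩
      have hnv : n * v * n⁻¹ = v := by
        refine hzd _ (hnd v hvD) v hvD (by rw [Involutions.Basic.orderOf_conj, hv2]) hv2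
          (fun a ha => ?_) fun a ha => hvc a ha.1
        have h1 := (hvc _ (conj_mem_of_mem_normalizer hn ha.1)).map (MulAut.conj n).toMonoidHom
        simpa [mul_assoc] using h1
      refine hdv ?_
      have hnd' : n * d * n⁻¹ = v := by
        rw [hn', show (c : G ⧸ Cfsg.pCore 2 G) * g * d * ((c : G ⧸ Cfsg.pCore 2 G) * g)⁻¹ =
          (c : G ⧸ Cfsg.pCore 2 G) * (g * d * g⁻¹) * (c : G ⧸ Cfsg.pCore 2 G)⁻¹ by group, hg,
          mem_centralizer_singleton_iff.1 c.2, mul_inv_cancel_right]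
      exact mul_left_cancel (mul_right_cancel (hnd'.trans hnv.symm))
  -- `X` fixes no other involution of `D`
  have honly : ∀ d ∈ D, d * d = 1 → Commute X d → d = 1 ∨ d = v := by
    intro d hd hdd hXd
    by_contra hcon
    push Not at hcon
    exact hfix ⟨d, hd, Involutions.Basic.orderOf_two_iff.2 ⟨hdd, hcon.1⟩, hcon.2, hXd⟩
  obtain ⟨y, hyS, hy2, hyz, hyv⟩ : ∃ y ∈ (S : Subgroup G), orderOf y = 2 ∧ y ≠ z ∧ pr y = X * v := by
    have hnc : ¬ Commute X d₁ := fun h => hfix ⟨d₁, hd₁, hd₁2, hd₁v, h⟩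
    obtain ⟨a, ⟨haS, haK⟩, rfl⟩ : d₁ ∈ Q.map pr := hQD.symm ▸ hd₁
    set r := a⁻¹ * (x * a * x) with hr
    have hxi : x⁻¹ = x := inv_eq_of_mul_eq_one_right hxx
    have hrQ : r ∈ Q := by
      refine mul_mem (inv_mem (⟨haS, haK⟩ : a ∈ Q)) ⟨mul_mem (mul_mem hxS haS) hxS, ?_⟩
      have := hK.normal.conj_mem a haK x
      rwa [hxi] at this
    have hr1 : pr r ≠ 1 := by
      rw [hr, map_mul, map_inv, ne_eq, inv_mul_eq_one, map_mul, map_mul, ← hX]
      intro h
      exact hnc (mul_inv_eq_iff_eq_mul.1 (by rw [inv_eq_of_mul_eq_one_right hXX]; exact h.symm))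
    have hrinv : x * r * x⁻¹ = r⁻¹ := by
      rw [hr, _root_.mul_inv_rev, _root_.mul_inv_rev, _root_.mul_inv_rev, inv_inv]
      simp only [hxi, mul_assoc, hxx, mul_one]
    obtain ⟨k, hk⟩ := S.isPGroup' ⟨r, hrQ.1⟩
    have hk' : r ^ 2 ^ k = 1 := congrArg Subtype.val hk
    obtain ⟨j, -, hj⟩ := (Nat.dvd_prime_pow Nat.prime_two).1
      (orderOf_dvd_of_pow_eq_one (show pr r ^ 2 ^ k = 1 by rw [← map_pow, hk', map_one]))
    obtain ⟨i, rfl⟩ : ∃ i, j = i + 1 := by
      rcases j with _ | i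
      · exact absurd (orderOf_eq_one_iff.1 hj) hr1
      · exact ⟨i, rfl⟩
    set t := r ^ 2 ^ i with ht
    have htQ : t ∈ Q := pow_mem hrQ _
    have htinv : x * t * x⁻¹ = t⁻¹ := by rw [ht, ← conj_pow, hrinv, inv_pow]
    have hto : orderOf (pr t) = 2 := by
      rw [ht, map_pow, orderOf_pow, hj, pow_succ, Nat.gcd_eq_right (Dvd.intro _ rfl),
        Nat.mul_div_cancel_left _ (by positivity)]
    have hti : (pr t)⁻¹ = pr t := Involutions.Basic.inv_eq hto
    have htc : Commute X (pr t) := by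
      have h := congrArg pr htinv
      rw [map_mul, map_mul, map_inv, map_inv, hti] at h
      exact mul_inv_eq_iff_eq_mul.1 h
    have htv : pr t = v := (honly _ (hQD ▸ mem_map_of_mem pr htQ)
      (mul_self_of_orderOf hto) htc).resolve_left (Involutions.Basic.ne_one hto)
    refine ⟨x * t, mul_mem hxS htQ.1, ?_, fun e => ?_, by rw [map_mul, htv]⟩
    · refine Involutions.Basic.orderOf_two_iff.2 ⟨?_, fun e => hXL ?_⟩
      · calc x * t * (x * t) = x * t * x⁻¹ * t := by rw [hxi]; simp only [mul_assoc]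
          _ = 1 := by rw [htinv, inv_mul_cancel]
      · rw [hX, mul_eq_one_iff_eq_inv.1 e, map_inv, htv]
        exact inv_mem hvD.2
    · refine hXL ?_
      have h := congrArg pr e
      rw [map_mul, hπz, htv] at h
      show pr x ∈ L
      rw [mul_eq_one_iff_eq_inv.1 h]
      exact inv_mem hvD.2
  -- `v` commutes with every involution of `L`
  have hall : ∀ u ∈ L, orderOf u = 2 → Commute v u := by
    intro u huL hu2
    have hev : Even (orderOf (X * u)) := by
      refine Nat.not_odd_iff_even.1 fun hodd => ?_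
      obtain ⟨d, -, hde⟩ := Involutions.Basic.exists_conj_of_odd hXo hu2 hodd
      have h1 := hLn u huL d⁻¹
      rw [← hde] at h1
      exact hXL (by simpa [mul_assoc] using h1)
    obtain ⟨hw2, hwX, hwu⟩ := Involutions.Basic.middle_involution hXo hu2 hev
    set w := (X * u) ^ (orderOf (X * u) / 2) with hw
    have hwS : w ∈ (Sb : Subgroup (G ⧸ Cfsg.pCore 2 G)) := by
      obtain ⟨g, hg⟩ := QuotientGroup.mk'_surjective (Cfsg.pCore 2 G) w
      refine SEAbelian.mem_sylow_of_normalizer Sb (k := 1) (hg ▸ hnormb g (sing x hxS hx2 hxz g ?_))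
        (by rw [pow_one, pow_two, mul_self_of_orderOf hw2])
      show pr g * X * (pr g)⁻¹ ∈ _
      rw [show pr g = w from hg, hwX.eq, mul_inv_cancel_right]
      exact hXS
    have hsingle : ∀ b : G, b ∈ (S : Subgroup G) → orderOf b = 2 → b ≠ z → Commute (pr b) u →
        Commute v u := by
      intro b hb hb2 hbz hbu
      obtain ⟨g, hg⟩ := QuotientGroup.mk'_surjective (Cfsg.pCore 2 G) u
      have hN := hg ▸ hnormb g (sing b hb hb2 hbz g (by
        show pr g * pr b * (pr g)⁻¹ ∈ _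
        rw [show pr g = u from hg, hbu.symm.eq, mul_inv_cancel_right]
        exact (hmem b).2 hb))
      exact hvc u (SEAbelian.mem_sylow_of_normalizer Sb (k := 1) hN
        (by rw [pow_one, pow_two, mul_self_of_orderOf hu2]))
    have hwM : w ∈ L ⊔ zpowers X := pow_mem (mul_mem (mem_sup_right (mem_zpowers X)) (mem_sup_left huL)) _
    rw [mem_sup_of_normal_left] at hwM
    obtain ⟨l, hl, m, hm, hlm⟩ := hwM
    obtain ⟨j, rfl⟩ := mem_zpowers_iff.1 hm
    rcases Int.even_or_odd' j with ⟨i, rfl | rfl⟩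
    · rw [zpow_mul, zpow_two, hXX, one_zpow, mul_one] at hlm
      rw [hlm] at hl
      have := (honly w ⟨hwS, hl⟩ (mul_self_of_orderOf hw2) hwX.symm).resolve_left
        (Involutions.Basic.ne_one hw2)
      exact this ▸ hwu
    · rw [zpow_add, zpow_mul, zpow_two, hXX, one_zpow, one_mul, zpow_one] at hlm
      have hlS : l ∈ D := ⟨by
        rw [show l = w * X by rw [← hlm, mul_assoc, hXX, mul_one]]
        exact mul_mem hwS hXS, hl⟩
      have hlX : Commute X l := by
        have h1 : Commute X (w * X) := hwX.symm.mul_right (Commute.refl X)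
        rwa [← hlm, mul_assoc, hXX, mul_one] at h1
      have hll : l * l = 1 := by
        have h1 := mul_self_of_orderOf hw2
        rwa [← hlm, hlX.symm.symm.mul_mul_mul_comm, hXX, mul_one] at h1
      rcases honly l hlS hll hlX with h1 | h1
      · rw [h1, one_mul] at hlm
        exact hsingle x hxS hx2 hxz (show Commute X u by rw [hlm]; exact hwu)
      · refine hsingle y hyS hy2 hyz ?_
        rw [hyv, (hvc X hXS).symm.eq, ← h1, hlm]
        exact hwu
  set N := normalClosure {l : ↥L | orderOf l = 2} with hN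
  have hNtop : N = ⊤ := (inferInstance : N.Normal).eq_bot_or_eq_top.resolve_left fun e => by
    have h1 : (⟨v, hvD.2⟩ : ↥L) ∈ N := subset_normalClosure (by
      show orderOf (⟨v, hvD.2⟩ : ↥L) = 2
      rw [← Subgroup.orderOf_coe]; exact hv2)
    rw [e, mem_bot] at h1
    exact hv1 (congrArg Subtype.val h1)
  refine hv1 (hcent v fun l hl => ?_)
  have h1 : (⟨l, hl⟩ : ↥L) ∈ N := hNtop ▸ mem_top _
  have h2 : N ≤ (centralizer ({v} : Set (G ⧸ Cfsg.pCore 2 G))).subgroupOf L :=
    (closure_le _).2 fun a ha => mem_subgroupOf.2 (mem_centralizer_singleton_iff.2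
      (hall a a.2 (by
        obtain ⟨b, hb, hab⟩ := Group.mem_conjugatesOfSet_iff.1 ha
        obtain ⟨c, rfl⟩ := isConj_iff.1 hab
        rw [Subgroup.orderOf_coe, Involutions.Basic.orderOf_conj]
        exact hb)).symm.eq)
  exact (mem_centralizer_singleton_iff.1 (mem_subgroupOf.1 (h2 h1))).symm

end One

end Cfsg.Agent.RankOneInter
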