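import Cfsg.Agent.Lib.RankOneInter.CentralProd
import Cfsg.Agent.Lib.CyclicSylowInter.Defs

/-!
# A double cover of a group of kind TI with a single involution in its Sylow 2-subgroup is `SL(2, 5)`
-/

set_option autoImplicit false
set_option linter.unusedSectionVars false
set_option linter.style.haveILetI false

namespace Cfsg.Agent.RankOneInter

open Subgroup
open Cfsg.Agent.CyclicSylowInter

universe u v

/-- A simple group of kind TI with Sylow 2-subgroups of order four is `A₅`. -/
theorem alt_five_of_kind {Q : Type u} [Group Q] [Finite Q] [IsSimpleGroup Q] (hF : KindFacts.{u})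
    (h : KindTI Q) (S : Sylow 2 Q) (h4 : Nat.card ↥(S : Subgroup Q) = 4) :
    Nonempty (Q ≃* alternatingGroup (Fin 5)) := by
  classical
  haveI : Fact (Nat.Prime 2) := ⟨Nat.prime_two⟩
  obtain ⟨n, i, D⟩ := (hF.1 Q h).2.2 S
  obtain ⟨T₀, hT₀⟩ := D.exists_other
  -- five Sylow subgroups
  let f : ↥(S : Subgroup Q) → {T : Sylow 2 Q // T ≠ S} := fun s => ⟨(s : Q) • T₀, fun e => hT₀ (by
    rw [← inv_smul_smul (s : Q) T₀, e]
    exact Sylow.smul_eq_iff_mem_normalizer.2 (inv_mem (le_normalizer s.2)))⟩
  have hf : Function.Bijective f := by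
    refine ⟨fun s t e => ?_, fun T => ?_⟩
    · have e' : (s : Q) • T₀ = (t : Q) • T₀ := congrArg Subtype.val e
      exact (D.regular T₀ _ hT₀ (f t).2).unique e' rfl
    · obtain ⟨s, hs, -⟩ := D.regular T₀ T.1 hT₀ T.2
      exact ⟨s, Subtype.ext hs⟩
  have h5 : Nat.card (Sylow 2 Q) = 5 := by
    rw [← Nat.card_congr (Equiv.optionSubtypeNe S), Finite.card_option,
      ← Nat.card_eq_of_bijective f hf, h4]
  letI : Fintype (Sylow 2 Q) := Fintype.ofFinite _
  let ε := Fintype.equivFinOfCardEq (α := Sylow 2 Q) (n := 5) (by rw [← Nat.card_eq_fintype_card, h5])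
  let ρ : Q →* Equiv.Perm (Fin 5) := ε.permCongrHom.toMonoidHom.comp (MulAction.toPermHom Q (Sylow 2 Q))
  have hρ : Function.Injective ρ := by
    rw [← MonoidHom.ker_eq_bot_iff]
    rcases (inferInstance : ρ.ker.Normal).eq_bot_or_eq_top with hb | hb
    · exact hb
    · exfalso
      obtain ⟨g, hg⟩ := MulAction.exists_smul_eq Q S T₀
      have h1 := MonoidHom.mem_ker.1 (hb.ge (mem_top g))
      have h2 := congrArg (fun σ => ε.symm (σ (ε S))) h1
      simp [ρ, Equiv.permCongrHom, hg] at h2
      exact hT₀ h2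
  have hcardQ : Nat.card ↥ρ.range = Nat.card Q := (Nat.card_congr (ρ.ofInjective hρ).toEquiv).symm
  have h20 : 20 ∣ Nat.card Q := by
    refine Nat.Coprime.mul_dvd_of_dvd_of_dvd (show Nat.Coprime 4 5 by norm_num)
      (h4 ▸ card_subgroup_dvd_card _) ?_
    exact h5 ▸ ((Sylow.card_dvd_index S).trans (index_dvd_card _))
  have hle : ρ.range ≤ alternatingGroup (Fin 5) := by
    rintro _ ⟨g, rfl⟩
    rw [Equiv.Perm.mem_alternatingGroup]
    rcases (inferInstance : (Equiv.Perm.sign.comp ρ).ker.Normal).eq_bot_or_eq_top with hb | hb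
    · exfalso
      have hinj : Function.Injective (Equiv.Perm.sign.comp ρ) := (MonoidHom.ker_eq_bot_iff _).1 hb
      have h2 : Nat.card Q ≤ 2 := (Nat.card_le_card_of_injective _ hinj).trans
        (by simp [Nat.card_eq_fintype_card])
      have := Nat.le_of_dvd Nat.card_pos h20
      omega
    · exact MonoidHom.mem_ker.1 (hb.ge (mem_top g))
  haveI : IsSimpleGroup (alternatingGroup (Fin 5)) := alternatingGroup.isSimpleGroup (by simp)
  have h60 : Nat.card (alternatingGroup (Fin 5)) = 60 := by
    rw [nat_card_alternatingGroup]; simp [Nat.card_eq_fintype_card, Nat.factorial]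
  set R := ρ.range.subgroupOf (alternatingGroup (Fin 5)) with hR
  have hRc : Nat.card ↥R = Nat.card Q := (Nat.card_congr (subgroupOfEquivOfLe hle).toEquiv).trans hcardQ
  have hRtop : R = ⊤ := by
    rcases (inferInstance : R.normalCore.Normal).eq_bot_or_eq_top with hb | hb
    · exfalso
      have hker : (MulAction.toPermHom (alternatingGroup (Fin 5)) (alternatingGroup (Fin 5) ⧸ R)).ker = ⊥ := by
        rw [← hb, normalCore_eq_ker]
      have hinj := (MonoidHom.ker_eq_bot_iff _).1 hker
      have h1 := Nat.card_le_card_of_injective _ hinj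
      have h3 : R.index ≤ 3 := by
        have hmul := R.card_mul_index
        rw [hRc, h60] at hmul
        have := Nat.mul_le_mul_right R.index (Nat.le_of_dvd Nat.card_pos h20)
        omega
      rw [Nat.card_perm, h60, ← index_eq_card] at h1
      have := Nat.factorial_le h3
      have h6 : Nat.factorial 3 = 6 := rfl
      omega
    · exact top_le_iff.1 (hb ▸ R.normalCore_le)
  exact ⟨(ρ.ofInjective hρ).trans (MulEquiv.subgroupCongr (le_antisymm hle fun x hx =>
    (hRtop.ge (mem_top (⟨x, hx⟩ : alternatingGroup (Fin 5))) : _)))⟩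

variable {L : Type u} [Group L] [Finite L] {Q : Type v} [Group Q] [Finite Q]

/-- the Sylow 2-subgroup upstairs is the quaternion group of order eight -/
theorem sylow_four_of_kind (π : L →* Q) (hπ : Function.Surjective π) {z : L} (hz : orderOf z = 2)
    (hzc : ∀ x, z * x = x * z) (hker : ∀ x, π x = 1 ↔ x = 1 ∨ x = z)
    (S : Sylow 2 L) (huniq : ∀ x ∈ (S : Subgroup L), orderOf x = 2 → x = z) (hk : KindTI Q) (hF : KindFacts.{v}) :
    Nat.card ↥((S.mapSurjective hπ : Sylow 2 Q) : Subgroup Q) = 4 := by
  haveI : Fact (Nat.Prime 2) := ⟨Nat.prime_two⟩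
  set T : Sylow 2 Q := S.mapSurjective hπ with hT
  obtain ⟨n, i, D⟩ := (hF.1 Q hk).2.2 T
  have hzz : z * z = 1 := by rw [← pow_two, ← hz, pow_orderOf_eq_one]
  have hz1 : z ≠ 1 := fun e => by rw [e, orderOf_one] at hz; omega
  have hsqz : ∀ x ∈ (S : Subgroup L), x * x = 1 → x = 1 ∨ x = z := fun x hx h => by
    by_cases h1 : x = 1
    · exact Or.inl h1
    · exact Or.inr (huniq x hx (orderOf_eq_prime (by rw [pow_two]; exact h) h1))
  have h3 : 3 ≤ {x : Q | x ∈ (T : Subgroup Q) ∧ orderOf x = 2}.ncard := by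
    rw [D.ncard_inv]
    have := Nat.pow_le_pow_right two_pos D.two_le
    omega
  obtain ⟨a', ⟨ha', ha2⟩, b', ⟨hb', hb2⟩, hab⟩ := (Set.one_lt_ncard (Set.toFinite _)).1
    (show 1 < {x : Q | x ∈ (T : Subgroup Q) ∧ orderOf x = 2}.ncard by omega)
  obtain ⟨a, ha, rfl⟩ : ∃ a ∈ (S : Subgroup L), π a = a' := ha'
  obtain ⟨b, hb, rfl⟩ : ∃ b ∈ (S : Subgroup L), π b = b' := hb'
  have hlift : ∀ x ∈ (S : Subgroup L), orderOf (π x) = 2 → x * x = z := fun x hx h => by
    have h2 : π (x * x) = 1 := by rw [map_mul, ← pow_two, ← h, pow_orderOf_eq_one]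
    refine ((hker _).1 h2).resolve_left fun e => ?_
    have h1 : π x = 1 := (hker x).2 (hsqz x hx e)
    rw [h1, orderOf_one] at h
    omega
  have ha4 := hlift a ha ha2
  have hb4 := hlift b hb hb2
  have hcomm : ∀ x ∈ (S : Subgroup L), ∀ y ∈ (S : Subgroup L), orderOf (π y) = 2 →
      x * y = y * x ∨ x * y = z * (y * x) := fun x hx y hy h => by
    have hq : π (x * y * x⁻¹ * y⁻¹) = 1 := by
      rw [map_mul, map_mul, map_mul, map_inv, map_inv,
        ← (D.inv_central (π y) ⟨y, hy, rfl⟩ h (π x) ⟨x, hx, rfl⟩).eq, mul_inv_cancel_right, mul_inv_cancel]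
    rcases (hker _).1 hq with e | e
    · left
      rw [mul_inv_eq_one] at e
      exact mul_inv_eq_iff_eq_mul.1 e
    · right
      rw [← e]; group
  have hne : a * b ≠ b * a := fun hc => by
    have h1 : a * b * (a * b) = 1 := by
      rw [(show Commute b a from hc.symm).mul_mul_mul_comm, ha4, hb4, hzz]
    have hπa : π (a * b) = 1 := (hker _).2 (hsqz _ (mul_mem ha hb) h1)
    rw [map_mul] at hπa
    refine hab ?_
    have hbi : (π b)⁻¹ = π b := inv_eq_of_mul_eq_one_right (by rw [← pow_two, ← hb2, pow_orderOf_eq_one])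
    rw [eq_inv_of_mul_eq_one_left hπa, hbi]
  -- only the centre centralises `a` and `b`
  have hc0 : ∀ c ∈ (S : Subgroup L), c * a = a * c → c * b = b * c → c = 1 ∨ c = z := by
    intro c hc hca hcb
    obtain ⟨k, hk2⟩ := S.isPGroup' ⟨c, hc⟩
    have hk' : c ^ 2 ^ k = 1 := congrArg Subtype.val hk2
    clear hk2
    revert hk' hca hcb hc c
    induction k with
    | zero => intro c _ _ _ h; left; simpa using h
    | succ k ih =>
      intro c hc hca hcb h
      have hcA : Commute c a := hca
      have hcB : Commute c b := hcb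
      rcases ih (c * c) (mul_mem hc hc) (hcA.mul_left hcA).eq (hcB.mul_left hcB).eq
        (by rw [← pow_two, ← pow_mul, ← pow_succ', h]) with e | e
      · exact hsqz c hc e
      · exfalso
        have h1 : c * a * (c * a) = 1 := by
          rw [hcA.symm.mul_mul_mul_comm, e, ha4, hzz]
        rcases hsqz _ (mul_mem hc ha) h1 with e' | e'
        · rw [eq_inv_of_mul_eq_one_left e'] at hcb
          exact hne (show Commute a b from by simpa using (show Commute a⁻¹ b from hcb).inv_left).eq
        · have hca' : c = z * a⁻¹ := eq_mul_inv_of_mul_eq e'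
          refine hne (show Commute a b from ?_).eq
          have h2 : Commute (z * a⁻¹) b := hca' ▸ hcB
          have h3 : Commute a⁻¹ b := by
            have := (show Commute z b from hzc b).mul_left h2
            rwa [← mul_assoc, hzz, one_mul] at this
          simpa using h3.inv_left
  have hab2 : orderOf (π (a * b)) = 2 := by
    have hA := (D.inv_central (π b) ⟨b, hb, rfl⟩ hb2 (π a) ⟨a, ha, rfl⟩).symm
    refine orderOf_eq_prime ?_ ?_
    · rw [map_mul, hA.mul_pow, ← ha2, pow_orderOf_eq_one, one_mul, ha2, ← hb2, pow_orderOf_eq_one]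
    · intro e
      refine hab ?_
      rw [map_mul] at e
      have hbi : (π b)⁻¹ = π b := inv_eq_of_mul_eq_one_right (by rw [← pow_two, ← hb2, pow_orderOf_eq_one])
      rw [eq_inv_of_mul_eq_one_left e, hbi]
  have habz : a * b = z * (b * a) := (hcomm a ha b hb hb2).resolve_left hne
  have hba : b * a = z * (a * b) := by rw [habz, ← mul_assoc, hzz, one_mul]
  -- every element is in the subgroup generated by `a` and `b`
  have hall : ∀ w ∈ (S : Subgroup L), π w = 1 ∨ π w = π a ∨ π w = π b ∨ π w = π (a * b) := by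
    intro w hw
    have hfix : ∀ w ∈ (S : Subgroup L), w * a = a * w → w * b = b * w → π w = 1 := fun w hw h1 h2 =>
      (hker w).2 (hc0 w hw h1 h2)
    have haa : π a * π a = 1 := by rw [← pow_two, ← ha2, pow_orderOf_eq_one]
    have hbb : π b * π b = 1 := by rw [← pow_two, ← hb2, pow_orderOf_eq_one]
    have hq : π (a * b) * π (a * b) = 1 := by rw [← pow_two, ← hab2, pow_orderOf_eq_one]
    have hzl : ∀ x y : L, x * (z * y) = z * (x * y) := fun x y => by rw [← mul_assoc, ← hzc, mul_assoc]
    have hzzl : ∀ y : L, z * (z * y) = y := fun y => by rw [← mul_assoc, hzz, one_mul]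
    have hbal : ∀ y : L, b * (a * y) = z * (a * (b * y)) := fun y => by
      rw [← mul_assoc, hba, mul_assoc, mul_assoc]
    rcases hcomm w hw a ha ha2 with h1 | h1 <;> rcases hcomm w hw b hb hb2 with h2 | h2
    · exact Or.inl (hfix w hw h1 h2)
    · right; left
      have := hfix (w * a) (mul_mem hw ha) (by rw [h1, mul_assoc, ← h1])
        (by
          have h2' : ∀ y, w * (b * y) = z * (b * (w * y)) := fun y => by
            rw [← mul_assoc, h2, mul_assoc, mul_assoc]
          have hw1 : ∀ y, w * (a * y) = a * (w * y) := fun y => by rw [← mul_assoc, h1, mul_assoc]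
          simp only [mul_assoc, habz, hzl, h2', hzzl])
      rw [map_mul] at this
      rw [eq_inv_of_mul_eq_one_left this, inv_eq_of_mul_eq_one_right haa]
    · right; right; left
      have := hfix (w * b) (mul_mem hw hb)
        (by
          have h1' : ∀ y, w * (a * y) = z * (a * (w * y)) := fun y => by
            rw [← mul_assoc, h1, mul_assoc, mul_assoc]
          simp only [mul_assoc, hba, hzl, h1', hzzl])
        (by rw [h2, mul_assoc, ← h2])
      rw [map_mul] at this
      rw [eq_inv_of_mul_eq_one_left this, inv_eq_of_mul_eq_one_right hbb]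
    · right; right; right
      have h1' : ∀ y, w * (a * y) = z * (a * (w * y)) := fun y => by
        rw [← mul_assoc, h1, mul_assoc, mul_assoc]
      have h2' : ∀ y, w * (b * y) = z * (b * (w * y)) := fun y => by
        rw [← mul_assoc, h2, mul_assoc, mul_assoc]
      have := hfix (w * (a * b)) (mul_mem hw (mul_mem ha hb))
        (by simp only [mul_assoc, hba, hzl, h1', hzzl])
        (by simp only [mul_assoc, hbal, hzl, h1', h2', hzzl])
      rw [map_mul] at this
      rw [eq_inv_of_mul_eq_one_left this, inv_eq_of_mul_eq_one_right hq]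
  classical
  have hsub : ((T : Subgroup Q) : Set Q) ⊆ ({1, π a, π b, π (a * b)} : Set Q) := by
    rintro _ ⟨w, hw, rfl⟩
    simpa using hall w hw
  have h1 := (Set.ncard_le_ncard hsub (Set.toFinite _)).trans (show ({1, π a, π b, π (a * b)} : Set Q).ncard ≤ 4 from
    (Set.ncard_insert_le _ _).trans (Nat.succ_le_succ ((Set.ncard_insert_le _ _).trans (Nat.succ_le_succ
      ((Set.ncard_insert_le _ _).trans (Nat.succ_le_succ (Set.ncard_singleton _).le))))))
  rw [← Nat.card_coe_set_eq] at h1
  change Nat.card ↥(T : Subgroup Q) ≤ 4 at h1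
  refine le_antisymm h1 ?_
  have h4' : 4 ≤ (2 ^ n) ^ i := le_trans
    ((show 4 = 2 ^ 2 by norm_num).le.trans (Nat.pow_le_pow_right two_pos D.two_le))
    (Nat.le_self_pow (by rcases D.i_mem with h | h | h <;> omega) _)
  exact h4'.trans D.card_sylow.ge

/-- The recognition of `SL(2, 5)`. -/
theorem sl_five_of_kind (hperf : commutator L = ⊤) (π : L →* Q) (hπ : Function.Surjective π) {z : L}
    (hz : orderOf z = 2) (hzc : ∀ x, z * x = x * z) (hker : ∀ x, π x = 1 ↔ x = 1 ∨ x = z)
    (S : Sylow 2 L) (huniq : ∀ x ∈ (S : Subgroup L), orderOf x = 2 → x = z) (hk : KindTI Q)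
    [IsSimpleGroup Q] (hF : KindFacts.{v}) : Nonempty (L ≃* SLFive) := by
  haveI : Fact (Nat.Prime 2) := ⟨Nat.prime_two⟩
  obtain ⟨e⟩ := alt_five_of_kind hF hk _ (sylow_four_of_kind π hπ hz hzc hker S huniq hk hF)
  have hQc : center Q = ⊥ := by
    rcases (inferInstance : (center Q).Normal).eq_bot_or_eq_top with h | h
    · exact h
    · exfalso
      have hc : ∀ p q : alternatingGroup (Fin 5), p * q = q * p := fun p q => e.symm.injective (by
        rw [map_mul, map_mul]
        exact (mem_center_iff.1 (h ▸ mem_top (e.symm q)) (e.symm p)))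
      revert hc
      decide
  have hcen : π.ker = center L := by
    refine le_antisymm (fun x hx => ?_) (fun x hx => ?_)
    · rcases (hker x).1 hx with rfl | rfl
      · exact one_mem _
      · exact mem_center_iff.2 fun g => (hzc g).symm
    · have : π x ∈ center Q := mem_center_iff.2 fun q => by
        obtain ⟨g, rfl⟩ := hπ q
        rw [← map_mul, ← map_mul, mem_center_iff.1 hx g]
      rwa [hQc, mem_bot] at this
  let eq : L ⧸ center L ≃* Q :=
    (QuotientGroup.quotientMulEquivOfEq hcen).symm.trans (QuotientGroup.quotientKerEquivOfSurjective π hπ)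
  have hq : Cfsg.IsQuasisimple L := ⟨⟨hperf⟩, by
    haveI : Nontrivial (L ⧸ center L) := eq.toEquiv.nontrivial
    exact IsSimpleGroup.isSimpleGroup_of_surjective eq.symm.toMonoidHom eq.symm.surjective⟩
  rcases Lib.CTwoAbelian.center_bot_or_sl_five hq (eq.trans e) with h | ⟨F, iF, jF, hF, ⟨e'⟩⟩
  · exfalso
    have : z ∈ center L := mem_center_iff.2 fun g => (hzc g).symm
    rw [h, mem_bot] at this
    rw [this, orderOf_one] at hz
    omega
  · haveI : Fact (Nat.Prime 5) := ⟨by norm_num⟩
    let σ := FiniteField.ringEquivOfCardEq (K := F) (K' := ZMod 5) (hF.trans (ZMod.card 5).symm)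
    exact ⟨e'.trans (MulEquiv.ofBijective (Matrix.SpecialLinearGroup.map (σ : F →+* ZMod 5))
      ⟨fun a b h => Subtype.ext (Matrix.ext fun i j => σ.injective
        (congrFun (congrFun (congrArg Subtype.val h) i) j)), fun b => ⟨Matrix.SpecialLinearGroup.map (σ.symm : ZMod 5 →+* F) b,
        Subtype.ext (Matrix.ext fun i j => σ.apply_symm_apply _)⟩⟩)⟩

end Cfsg.Agent.RankOneInter
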