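import Cfsg.Agent.Lib.RankOneInter.TwoCompMain
import Cfsg.Agent.Lib.RankOneInter.SLFiveRecog
import Cfsg.Agent.Lib.RankOneInter.Defs

/-!
# Two components: the second alternative
-/

set_option autoImplicit false
set_option linter.unusedSectionVars false
set_option linter.style.haveILetI false

namespace Cfsg.Agent.RankOneInter

open Subgroup
open scoped MatrixGroups
open Cfsg.Agent.CyclicSylowInter

universe u

variable {K : Type u} [Group K] [Finite K]

theorem OneInv.fourOnce (h : OneInv K) : FourOnce K := fun S T u v hu hv huv _ huS hvS huT hvT => by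
  by_contra hne
  exact huv (h S T hne u v huS huT hvS hvT hu hv)

/-- Each of two components is `SL(2, 5)`. -/
theorem Pair.sl_five {A B : Subgroup K} {z : K} (h : Pair A B z) (hG : FourOnce K)
    (hO : Cfsg.oddCore K = ⊥) (hT : TITheorem.{u}) (hF : KindFacts.{u}) : Nonempty (↥A ≃* SLFive) := by
  haveI : Fact (Nat.Prime 2) := ⟨Nat.prime_two⟩
  haveI := h.compA.2.2
  obtain ⟨S⟩ : Nonempty (Sylow 2 ↥A) := inferInstance
  let zA : ↥A := ⟨z, h.zA⟩
  have hzA : orderOf zA = 2 := by rw [← orderOf_coe]; exact h.ord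
  refine sl_five_of_kind (component_perfect h.compA) (QuotientGroup.mk' (center ↥A))
    (QuotientGroup.mk'_surjective _) (z := zA) hzA (fun a => Subtype.ext (h.cA a a.2).eq) (fun x => ?_)
    S (fun x _ hx => ?_) (h.kindTI hG hO hT) hF
  · rw [QuotientGroup.mk'_apply, QuotientGroup.eq_one_iff, mem_center_iff]
    constructor
    · intro hx
      rcases h.center_cases hG hO x.2 (fun a ha => (congrArg Subtype.val (hx ⟨a, ha⟩)).symm) with e | e
      · exact Or.inl (Subtype.ext e)
      · exact Or.inr (Subtype.ext e)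
    · rintro (rfl | rfl) g
      · simp
      · exact Subtype.ext (h.cA g g.2).symm.eq
  · refine Subtype.ext ((h.uniq hG x.2 ?_).resolve_left fun e => ?_)
    · rw [← pow_two, ← hx, ← orderOf_coe, pow_orderOf_eq_one]
    · rw [← orderOf_coe, e, orderOf_one] at hx
      omega

/-- Two components: a normal central product of two copies of `SL(2, 5)` of odd index. -/
theorem two_components_hyp (I : Inputs.{u}) {K : Type u} [Group K] [Finite K] (hK : Hyp K)
    {A B : Subgroup K} (hA : Cfsg.IsComponent A) (hB : Cfsg.IsComponent B) (hne : A ≠ B) :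
    (A ⊔ B).Normal ∧ Odd (A ⊔ B).index ∧ Nonempty (↥A ≃* SLFive) ∧ Nonempty (↥B ≃* SLFive) ∧
      (∀ a ∈ A, ∀ b ∈ B, Commute a b) ∧ A ⊓ B ≠ ⊥ :=
  two_components hK.inter.fourOnce hK.core
    (fun _ _ _ h => h.sl_five hK.inter.fourOnce hK.core I.ti I.facts) hA hB hne

/-- Two components modulo the odd core: the second alternative of the theorem. -/
theorem two_components_alternative {G : Type u} [Group G] [Finite G]
    (hI : ∀ S T : Sylow 2 G, S ≠ T → Cfsg.PRankLE 2 1 ↥((S : Subgroup G) ⊓ (T : Subgroup G)))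
    (hT : TITheorem.{u}) (hF : KindFacts.{u})
    {A B : Subgroup (G ⧸ Cfsg.oddCore G)} (hA : Cfsg.IsComponent A) (hB : Cfsg.IsComponent B)
    (hne : A ≠ B) :
    ∃ (G₁ : Subgroup G) (_ : G₁.Normal) (_ : ((Cfsg.oddCore G).subgroupOf G₁).Normal),
      (Odd G₁.index ∨ ∃ k : ℕ, Odd k ∧ G₁.index = 2 * k) ∧ Cfsg.oddCore G ≤ G₁ ∧
      ∃ (Z : Subgroup (Matrix.SpecialLinearGroup (Fin 2) (ZMod 5) × Matrix.SpecialLinearGroup (Fin 2) (ZMod 5))) (_ : Z.Normal),
        Z = Subgroup.zpowers ((-1 : Matrix.SpecialLinearGroup (Fin 2) (ZMod 5)), (-1 : Matrix.SpecialLinearGroup (Fin 2) (ZMod 5))) ∧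
        Nonempty (↥G₁ ⧸ (Cfsg.oddCore G).subgroupOf G₁ ≃*
          (Matrix.SpecialLinearGroup (Fin 2) (ZMod 5) × Matrix.SpecialLinearGroup (Fin 2) (ZMod 5)) ⧸ Z) :=
  alternative_b hI
    (fun _ _ _ h => h.sl_five (fourOnce_quotient hI _ InvChar.Core.odd_card_oddCore)
      (Cfsg.Agent.Cores.pPrimeCore_quotient_self 2) hT hF)
    hA hB hne

end Cfsg.Agent.RankOneInter
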