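import Cfsg.Agent.Lib.RankOneInter.CoverFinal
import Cfsg.Agent.Lib.RankOneInter.QuatOuter
import Cfsg.Agent.Lib.RankOneInter.QuatCore
import Cfsg.Agent.Lib.RankOneInter.TwoComponents

/-!
# The cases: one component has a quaternion 2-core
-/

set_option autoImplicit false
set_option linter.style.haveILetI false
set_option linter.unusedSectionVars false

namespace Cfsg.Agent.RankOneInter

open Subgroup
open Cfsg.Agent.ZStar.CyclicIntersections

universe u

variable {G : Type u} [Group G] [Finite G] {K : Subgroup G}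

/-- With one component the 2-core is not cyclic. -/
theorem One.not_cyclic (hK : One G K) (I : Inputs.{u}) (hcyc : IsCyclic ↥(Cfsg.pCore 2 G)) :
    False := by
  classical
  haveI := Fact.mk Nat.prime_two
  by_cases hP : Cfsg.pCore 2 G = ⊥
  · exact hK.not_simple I hP
  by_cases hle : Cfsg.pCore 2 G ≤ K
  swap
  · exact hK.not_cyclic_lift I hP hcyc (hK.allLift_of_cyclic hcyc hle)
  by_cases h4 : ∃ c ∈ Cfsg.pCore 2 G, c * c ≠ 1
  · obtain ⟨c, hc, hc2⟩ := h4
    exact hK.not_cyclic_four I hcyc hc hc2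
  simp only [not_exists, not_and, not_not] at h4
  obtain ⟨z, hz, hz2, -⟩ := ZStar.CyclicIntersections.exists_central_involution
    (Agent.Cores.pCore_isPGroup (G := G) 2) hP
  have hPz : Cfsg.pCore 2 G = zpowers z := by
    refine le_antisymm (fun x hx => ?_) (zpowers_le.2 hz)
    by_cases hx1 : x = 1
    · exact hx1 ▸ one_mem _
    · rw [eq_of_cyclic hcyc hx hz (Involutions.Basic.orderOf_two_iff.2 ⟨h4 x hx, hx1⟩) hz2]
      exact mem_zpowers z
  by_cases hu : ∀ k ∈ K, orderOf k = 2 → k = z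
  · exact hK.not_quaternion_component I hz2 hPz hle hu
  simp only [not_forall] at hu
  obtain ⟨e, he, he2, hez⟩ := hu
  exact hK.not_rank_two I hz2 hPz hle he he2 hez

/-- The quotient by the odd core satisfies the standing hypotheses. -/
theorem hyp_quotient (hns : ¬ Group.IsSolvable G)
    (hI : ∀ S T : Sylow 2 G, S ≠ T → Cfsg.PRankLE 2 1 ↥((S : Subgroup G) ⊓ (T : Subgroup G)))
    (hnC : ∃ S T : Sylow 2 (G ⧸ Cfsg.oddCore G), S ≠ T ∧
      ¬ IsCyclic ↥((S : Subgroup (G ⧸ Cfsg.oddCore G)) ⊓ (T : Subgroup (G ⧸ Cfsg.oddCore G))))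
    (hnQ : ∀ S : Sylow 2 G, ∀ n : ℕ,
      IsEmpty (↥(S : Subgroup G) ≃* QuaternionGroup (2 ^ (n + 1)))) :
    Hyp (G ⧸ Cfsg.oddCore G) := by
  haveI := Fact.mk Nat.prime_two
  set π := QuotientGroup.mk' (Cfsg.oddCore G)
  refine ⟨not_isSolvable_quotient hns _ isSolvable_oddCore, Agent.Cores.pPrimeCore_quotient_self 2,
    (oneInv_of_rank hI).map_odd (QuotientGroup.mk'_surjective (Cfsg.oddCore G)) ?_, hnC,
    fun U n => ⟨fun e => ?_⟩⟩
  · rw [QuotientGroup.ker_mk']; exact Agent.Cores.oddCore_odd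
  · obtain ⟨T, -, hT⟩ := exists_sylow_lift (QuotientGroup.mk'_surjective (Cfsg.oddCore G)) U (D₀ := ⊥)
      IsPGroup.of_bot bot_le
    let f := π.subgroupMap (T : Subgroup G)
    have hinj : Function.Injective f := (injective_iff_map_eq_one f).2 fun t ht => by
      have h1 : (t : G) ∈ (T : Subgroup G) ⊓ Cfsg.oddCore G :=
        ⟨t.2, (QuotientGroup.eq_one_iff _).1 (congrArg Subtype.val ht :)⟩
      rw [PLocal.Cores.inf_eq_bot_of_isPGroup_of_coprime T.isPGroup'
        (Nat.coprime_two_right.2 Agent.Cores.oddCore_odd), mem_bot] at h1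
      exact Subtype.ext h1
    exact (hnQ T n).false ((MulEquiv.ofBijective f ⟨hinj, MonoidHom.subgroupMap_surjective π _⟩).trans
      ((MulEquiv.subgroupCongr hT).trans e))

end Cfsg.Agent.RankOneInter
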