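import Cfsg.Agent.Lib.RankOneInter.MidQuot

/-!
# The Sylow subgroup is a central product

Some normal subgroup covering the simple group over the radical is centralised by a quaternion
subgroup `Q` through `c`, and the Sylow subgroup is `Q * B`. Either all involutions of the simple
group lift to involutions of `B`, or `B` is quaternion of order eight and there are at most five
Sylow subgroups.
-/

set_option autoImplicit false
set_option linter.style.haveILetI false
set_option linter.unusedSectionVars false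

namespace Cfsg.Agent.RankOneInter

open Subgroup
open scoped Pointwise commutatorElement
open Cfsg.Agent.ZStar.CyclicIntersections
open Cfsg.Agent.CyclicSylowInter

universe u

/-- In a cyclic subgroup an element lies in the group of every element of a multiple order. -/
theorem mem_zpowers_of_cyclic {G : Type*} [Group G] [Finite G] {C : Subgroup G} (hC : IsCyclic C)
    {x v : G} (hx : x ∈ C) (hv : v ∈ C) (hd : orderOf x ∣ orderOf v) : x ∈ zpowers v := by
  obtain ⟨g, hg⟩ := hC.exists_generator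
  obtain ⟨i, hi⟩ := mem_zpowers_iff.1 (hg ⟨x, hx⟩)
  obtain ⟨j, hj⟩ := mem_zpowers_iff.1 (hg ⟨v, hv⟩)
  suffices hmem : (⟨x, hx⟩ : C) ∈ zpowers (⟨v, hv⟩ : C) by
    obtain ⟨k, hk⟩ := mem_zpowers_iff.1 hmem
    exact mem_zpowers_iff.2 ⟨k, by simpa using congrArg Subtype.val hk⟩
  have hxd : orderOf (⟨x, hx⟩ : C) ∣ orderOf (⟨v, hv⟩ : C) := by
    rw [Subgroup.orderOf_mk, Subgroup.orderOf_mk]; exact hd
  classical
  haveI := Fintype.ofFinite C
  have hle := IsCyclic.card_pow_eq_one_le (α := C) (n := orderOf (⟨v, hv⟩ : C)) (orderOf_pos _)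
  let F : Finset C := Finset.univ.filter fun a => a ^ orderOf (⟨v, hv⟩ : C) = 1
  let P : Finset C := (Finset.univ : Finset (zpowers (⟨v, hv⟩ : C))).map ⟨Subtype.val, Subtype.val_injective⟩
  have hsub : P ⊆ F := by
    intro a ha
    simp only [P, Finset.mem_map, Finset.mem_univ, true_and, Function.Embedding.coeFn_mk] at ha
    obtain ⟨⟨a, ha⟩, rfl⟩ := ha
    obtain ⟨k, rfl⟩ := mem_zpowers_iff.1 ha
    simp only [F, Finset.mem_filter, Finset.mem_univ, true_and]
    rw [← zpow_natCast, ← zpow_mul, mul_comm, zpow_mul, zpow_natCast, pow_orderOf_eq_one, one_zpow]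
  have hPF : P = F := Finset.eq_of_subset_of_card_le hsub (by
    rw [Finset.card_map, Finset.card_univ, Fintype.card_zpowers]
    exact hle)
  have hxF : (⟨x, hx⟩ : C) ∈ F := by
    simp only [F, Finset.mem_filter, Finset.mem_univ, true_and]
    exact orderOf_dvd_iff_pow_eq_one.1 hxd
  rw [← hPF] at hxF
  simp only [P, Finset.mem_map, Finset.mem_univ, true_and, Function.Embedding.coeFn_mk] at hxF
  obtain ⟨⟨a, ha⟩, e⟩ := hxF
  exact e ▸ ha

/-- The Sylow subgroup is the product of `Q` and `B`. -/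
structure Split {K : Type u} [Group K] [Finite K] (S : Sylow 2 K) (c z : K) (Q B : Subgroup K) :
    Prop where
  Q_le : Q ≤ (S : Subgroup K)
  B_le : B ≤ (S : Subgroup K)
  c_Q : c ∈ Q
  z_Q : z ∈ Q
  split : ∀ s ∈ (S : Subgroup K), ∃ q ∈ Q, ∃ β ∈ B, s = q * β
  comm : ∀ q ∈ Q, ∀ β ∈ B, Commute q β
  inter : ∀ x ∈ Q, x ∈ B → x = 1 ∨ x = z
  Q_uniq : ∀ q ∈ Q, q * q = 1 → q = 1 ∨ q = z
  Q_out : ∃ q ∈ Q, ¬ Commute c q
  Q_kind : (∀ q ∈ Q, (q * q = 1 ∨ q * q = z) ∧ ∀ q' ∈ Q, q * q' = q' * q ∨ q * q' = q' * q * z) ∨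
    (∀ q ∈ Q, (∀ q' ∈ Q, q * q' = q' * q ∨ q * q' = q' * q * z) → Commute c q)
  B_cen : ∀ β ∈ B, (β * β = 1 ∨ β * β = z) → ∀ β' ∈ B, β * β' = β' * β ∨ β * β' = β' * β * z

/-- All involutions of the simple group lift to involutions of `B`. -/
structure MultiB {K : Type u} [Group K] [Finite K] (S : Sylow 2 K) (c z : K) (B : Subgroup K) :
    Prop where
  sq : ∀ β ∈ B, β * β ≠ z
  two : ∃ β ∈ B, ∃ β' ∈ B, IsExtra z β ∧ IsExtra z β' ∧ β' ≠ β ∧ β' ≠ β * z
  trans : ∀ β ∈ B, ∀ β' ∈ B, IsExtra z β → IsExtra z β' →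
    ∃ r ∈ normalizer ((S : Subgroup K) : Set K), Commute r c ∧
      (r * β * r⁻¹ = β' ∨ r * β * r⁻¹ = β' * z)

/-- `B` is quaternion of order eight. -/
structure SingleB {K : Type u} [Group K] [Finite K] (z : K) (B : Subgroup K) : Prop where
  card : Nat.card ↥B = 8
  sq : ∀ β ∈ B, β = 1 ∨ β = z ∨ β * β = z
  cen : ∀ β ∈ B, (∀ β' ∈ B, Commute β β') → β = 1 ∨ β = z

namespace Mid

variable {M : Type u} [Group M] [Finite M] {S : Sylow 2 M} {c z : M} (h : Mid S c z)
include h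

theorem orderOf_c : orderOf c = 4 := by
  haveI := Fact.mk Nat.prime_two
  have := orderOf_eq_prime_pow (x := c) (p := 2) (n := 1)
    (by rw [pow_one, pow_two, h.sq]; exact h.z_ne_one)
    (by rw [pow_succ, pow_one, pow_mul, pow_two, pow_two, h.sq, h.z_sq])
  simpa using this

/-- An element of the radical part commuting with some element moving `c` is 1 or `z`. -/
theorem rad_small {v m : M} (hv : v ∈ (S : Subgroup M)) (hr : v ∈ rad c) (hm : ¬ Commute m c)
    (hvm : Commute m v) : v = 1 ∨ v = z := by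
  by_contra hne
  rw [not_or] at hne
  haveI := Fact.mk Nat.prime_two
  obtain ⟨k, hk⟩ := IsPGroup.iff_orderOf.1 S.isPGroup' ⟨v, hv⟩
  rw [Subgroup.orderOf_mk] at hk
  have h4 : orderOf c ∣ orderOf v := by
    rw [h.orderOf_c, hk]
    match k, hk with
    | 0, hk => exact absurd (orderOf_eq_one_iff.1 (by simpa using hk)) hne.1
    | 1, hk => exact absurd (eq_of_cyclic h.rad_cyclic ⟨hv, hr⟩ ⟨h.z_mem S, h.z_mem_rad⟩
        (by simpa using hk) h.two) hne.2
    | (n + 2), _ => exact ⟨2 ^ n, by rw [pow_add]; ring⟩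
  obtain ⟨j, hj⟩ := mem_zpowers_iff.1
    (mem_zpowers_of_cyclic h.rad_cyclic ⟨h.c_mem, h.c_mem_rad⟩ ⟨hv, hr⟩ h4)
  exact hm (hj ▸ hvm.zpow_right j)

theorem exists_split (I : Inputs.{u}) : ∃ Q B : Subgroup M, Split S c z Q B ∧
    (∀ m, ∀ q ∈ Q, m * q * m⁻¹ ∈ Q) ∧
    (MultiB S c z B ∨ (SingleB z B ∧ Nat.card (Sylow 2 M) ≤ 5)) := by
  classical
  haveI := Fact.mk Nat.prime_two
  haveI := h.cy_normal
  haveI := h.rad_normal
  obtain ⟨L, g, hT⟩ := h.exists_top I
  haveI := hT.normal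
  haveI := hT.simple
  set ρ := QuotientGroup.mk' (rad c) with hρ
  have hρs : Function.Surjective ρ := QuotientGroup.mk'_surjective _
  have hρ1 : ∀ {x : M}, ρ x = 1 ↔ x ∈ rad c := fun {x} => QuotientGroup.eq_one_iff x
  obtain ⟨b, hbS, _, _, hb, _, hbc, -, -, -⟩ := h.pair
  have hρY : ∀ {x : M}, ρ x ∈ (cy c).map ρ → Commute x c := by
    intro x hx
    obtain ⟨y, hy, e⟩ := hx
    have hr : y⁻¹ * x ∈ rad c := hρ1.1 (by rw [map_mul, map_inv, e, inv_mul_cancel])
    have := mul_mem hy (rad_le hr)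
    rw [mul_inv_cancel_left] at this
    exact mem_cent.1 this
  -- the outer involution is central
  have hgcen : ∀ a, a * g * a⁻¹ = g := by
    intro a
    obtain ⟨m, hm⟩ := hρs g
    obtain ⟨a', rfl⟩ := hρs a
    have hmc : ¬ Commute m c := fun e => hT.g_out (hm ▸ mem_map_of_mem ρ (mem_cent.2 e))
    have hmc' : ¬ Commute (a' * m * a'⁻¹) c := fun e => by
      have h1 := h.cy_normal.conj_mem _ (mem_cent.2 e) a'⁻¹
      rw [inv_inv, show a'⁻¹ * (a' * m * a'⁻¹) * a' = m by group] at h1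
      exact hmc (mem_cent.1 h1)
    refine mul_inv_eq_one.1 (hT.cent _ ?_ fun l hl => ?_)
    · rw [inv_eq_of_mul_eq_one_right hT.g_sq, ← hm, ← map_inv, ← map_mul, ← map_mul, ← map_mul]
      exact mem_map_of_mem ρ (mem_cent.2 (h.centralizer_index_two hmc' hmc))
    · refine Commute.mul_left ?_ (hT.g_cent l hl).inv_left
      have h1 := hT.g_cent _ (hT.normal.conj_mem l hl (ρ a')⁻¹)
      have h2 := h1.map (MulAut.conj (ρ a')).toMonoidHom
      simpa [mul_assoc] using h2
  haveI : (zpowers g).Normal := ⟨fun n hn a => by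
    obtain ⟨j, rfl⟩ := mem_zpowers_iff.1 hn
    rw [← conj_zpow, hgcen]
    exact zpow_mem (mem_zpowers g) j⟩
  have hgS : g ∈ (S.mapSurjective hρs : Subgroup (M ⧸ rad c)) := by
    refine Agent.Cores.pCore_le_sylow _ (Agent.Cores.le_pCore (N := zpowers g) ?_ (mem_zpowers g))
    refine IsPGroup.of_card (n := 1) ?_
    rw [Nat.card_zpowers, pow_one]
    exact Involutions.Basic.orderOf_two_iff.2 ⟨hT.g_sq, fun e => hT.g_out (e ▸ one_mem _)⟩
  rw [Sylow.coe_mapSurjective] at hgS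
  obtain ⟨q0, hq0S, hq0⟩ := hgS
  have hq0c : ¬ Commute q0 c := fun e => hT.g_out (hq0 ▸ mem_map_of_mem ρ (mem_cent.2 e))
  set Q : Subgroup M := (S : Subgroup M) ⊓ (zpowers g).comap ρ with hQ
  have hQmem : ∀ {q : M}, q ∈ Q → ρ q = 1 ∨ ρ q = g := by
    intro q hq
    obtain ⟨j, hj⟩ := mem_zpowers_iff.1 hq.2
    rcases Int.even_or_odd' j with ⟨i, rfl | rfl⟩
    · exact Or.inl (by rw [← hj, zpow_mul, zpow_two, hT.g_sq, one_zpow])
    · exact Or.inr (by rw [← hj, zpow_add_one, zpow_mul, zpow_two, hT.g_sq, one_zpow, one_mul])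
  have hq0Q : q0 ∈ Q := mem_inf.2 ⟨hq0S, by rw [mem_comap, hq0]; exact mem_zpowers g⟩
  have hQnorm : ∀ m, ∀ q ∈ Q, m * q * m⁻¹ ∈ Q := by
    intro m q hq
    have he : ρ (m * q * m⁻¹) = ρ q := by
      rw [map_mul, map_mul, map_inv]
      rcases hQmem hq with e | e <;> rw [e]
      · rw [mul_one, mul_inv_cancel]
      · exact hgcen _
    obtain ⟨k, hk⟩ := S.isPGroup' ⟨q, hq.1⟩
    refine mem_inf.2 ⟨h.mem_of_map (k := k) ?_ ⟨q, hq.1, hρ1.1 (by rw [map_mul, map_inv, he, inv_mul_cancel])⟩,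
      by rw [mem_comap, he]; exact hq.2⟩
    rw [conj_pow, show q ^ (2 ^ k) = 1 from congrArg Subtype.val hk, mul_one, mul_inv_cancel]
  have hVQ : ∀ {v : M}, v ∈ (S : Subgroup M) → v ∈ rad c → v ∈ Q := fun hv hr =>
    mem_inf.2 ⟨hv, by rw [mem_comap, hρ1.2 hr]; exact one_mem _⟩
  -- the covering normal subgroup
  have hLL : ⁅L, L⁆ = L := by
    rcases (inferInstance : (commutator ↥L).Normal).eq_bot_or_eq_top with e | e
    · exact absurd ⟨⟨fun a b => commutatorElement_eq_one_iff_mul_comm.1 (mem_bot.1 (e ▸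
        commutator_mem_commutator (mem_top a) (mem_top b)))⟩⟩ hT.noncomm
    · rw [← map_subtype_commutator, e, ← MonoidHom.range_eq_map, range_subtype]
  obtain ⟨N, ⟨hNn, hNY, hNO, hNL⟩, hNmin⟩ := Set.Finite.exists_minimal
    (Set.toFinite {N : Subgroup M | N.Normal ∧ N ≤ cy c ∧
      N ≤ centralizer (Cfsg.oddCore M : Set M) ∧ N.map ρ = L}) (by
    refine ⟨cy c ⊓ centralizer (Cfsg.oddCore M : Set M) ⊓ L.comap ρ, inferInstance,
      inf_le_left.trans inf_le_left, inf_le_left.trans inf_le_right,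
      le_antisymm (map_le_iff_le_comap.2 inf_le_right) ?_⟩
    set N0 := cy c ⊓ centralizer (Cfsg.oddCore M : Set M) ⊓ L.comap ρ
    haveI : (N0.map ρ).Normal := (inferInstance : N0.Normal).map _ hρs
    rcases (inferInstance : ((N0.map ρ).subgroupOf L).Normal).eq_bot_or_eq_top with e | e
    · exfalso
      have hbL : ρ b ∈ L := hT.two_le S b hbS hbc
      have h1 : (⟨ρ b, hbL⟩ : ↥L) ∈ (N0.map ρ).subgroupOf L := mem_subgroupOf.2 (mem_map_of_mem ρ
        ⟨⟨mem_cent.2 hbc, mem_centralizer_iff.2 fun o ho => (h.core_comm o ho b hbS).eq⟩, hbL⟩)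
      rw [e, mem_bot] at h1
      exact h.extra_not_rad hb hbS (hρ1.1 (congrArg Subtype.val h1))
    · exact subgroupOf_eq_top.1 e)
  haveI := hNn
  have hperf : Group.IsPerfect ↥N := by
    refine ⟨map_injective (subtype_injective N) ?_⟩
    rw [map_subtype_commutator, ← MonoidHom.range_eq_map, range_subtype]
    refine le_antisymm (commutator_le_self N) (hNmin ⟨inferInstance, (commutator_le_self N).trans hNY,
      (commutator_le_self N).trans hNO, ?_⟩ (commutator_le_self N))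
    rw [map_commutator, hNL, hLL]
  have hNcen : ∀ n ∈ N, ∀ r ∈ rad c, Commute n r := by
    intro n hn r hr
    obtain ⟨v, o, -, -, hvc, ho, rfl⟩ := h.rad_decomp hr
    exact (hvc n (mem_cent.1 (hNY hn))).mul_right (mem_centralizer_iff.1 (hNO hn) o ho).symm
  have hQN : ∀ q ∈ Q, ∀ n ∈ N, Commute q n := by
    intro q hq
    refine commute_of_central_commutators hperf (Z := N ⊓ rad c)
      (fun y hy k hk => (hNcen k hk y hy.2).symm) (fun n hn => mem_inf.2 ⟨?_, hρ1.1 ?_⟩) fun n hn => ?_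
    · exact mul_mem (hNn.conj_mem n hn q) (inv_mem hn)
    · have hqn : Commute (ρ q) (ρ n) := by
        rcases hQmem hq with e | e <;> rw [e]
        · exact Commute.one_left _
        · exact hT.g_cent _ (hNL ▸ mem_map_of_mem ρ hn)
      rw [map_mul, map_mul, map_mul, map_inv, map_inv, hqn.eq, mul_inv_cancel_right, mul_inv_cancel]
    · exact mul_mem (hNn.conj_mem n hn q) (inv_mem hn)
  set B : Subgroup M := (S : Subgroup M) ⊓ N with hB
  have hBc : ∀ β ∈ B, Commute β c := fun β hβ => mem_cent.1 (hNY hβ.2)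
  have hsmall : ∀ x ∈ (S : Subgroup M), x ∈ N → x ∈ rad c → x = 1 ∨ x = z := fun x hx hxN hxr =>
    h.rad_small hx hxr hq0c (hQN q0 hq0Q x hxN)
  have hdec : ∀ s ∈ (S : Subgroup M), Commute s c → ∃ v ∈ (S : Subgroup M), v ∈ rad c ∧
      ∃ β ∈ B, s = v * β := by
    intro s hs hsc
    obtain ⟨n, hn, e⟩ : ρ s ∈ N.map ρ := hNL.symm ▸ hT.two_le S s hs hsc
    obtain ⟨v, o, hvS, hvr, hvc, ho, e'⟩ :=
      h.rad_decomp (hρ1.1 (show ρ (n⁻¹ * s) = 1 by rw [map_mul, map_inv, e, inv_mul_cancel]))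
    have hno : Commute n o := (mem_centralizer_iff.1 (hNO hn) o ho).symm
    have hnv : Commute n v := hvc n (mem_cent.1 (hNY hn))
    have hs' : s = n * (v * o) := by rw [← e', mul_inv_cancel_left]
    have hx : v⁻¹ * s = n * o := by
      rw [hs', ← mul_assoc, ← hnv.inv_right.eq, mul_assoc, inv_mul_cancel_left]
    have hxS : n * o ∈ (S : Subgroup M) := hx ▸ mul_mem (inv_mem hvS) hs
    refine ⟨v, hvS, hvr, n * o, ⟨hxS, ?_⟩, by rw [← hx, mul_inv_cancel_left]⟩
    obtain ⟨k, hk⟩ := IsPGroup.iff_orderOf.1 S.isPGroup' ⟨n * o, hxS⟩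
    rw [Subgroup.orderOf_mk] at hk
    obtain ⟨j, hj⟩ := exists_pow_eq_self_of_coprime (n := orderOf o) (x := n * o) (by
      rw [hk]; exact (Nat.coprime_two_left.2 (h.odd_orderOf ho)).pow_left k |>.symm)
    rw [← hj, hno.mul_pow, pow_orderOf_eq_one, mul_one]
    exact pow_mem (pow_mem hn _) j
  have hBmap : ∀ l ∈ L, l ∈ (S : Subgroup M).map ρ → ∃ β ∈ B, ρ β = l := by
    intro l hl hlS
    obtain ⟨s, hs, rfl⟩ := hlS
    obtain ⟨v, -, hvr, β, hβ, rfl⟩ := hdec s hs (hρY (hT.le hl))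
    exact ⟨β, hβ, by rw [map_mul, hρ1.2 hvr, one_mul]⟩
  -- the facts on the simple group
  obtain ⟨-, -, hdata⟩ := I.facts.1 _ hT.kind
  set A := sylowIn (S.mapSurjective hρs) L with hA
  obtain ⟨n, i, d⟩ := hdata A
  have hmemA : ∀ β (hβ : β ∈ B),
      (⟨ρ β, hT.two_le S β hβ.1 (hBc β hβ)⟩ : ↥L) ∈ (A : Subgroup ↥L) := fun β hβ =>
    mem_sylowIn.2 (mem_mapSurjective hρs S hβ.1)
  have hQuniq : ∀ q ∈ Q, q * q = 1 → q = 1 ∨ q = z := by
    intro q hq hqq
    by_contra hne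
    rw [not_or] at hne
    have hqe : orderOf q = 2 := Involutions.Basic.orderOf_two_iff.2 ⟨hqq, hne.1⟩
    have hNS : N ≤ normalizer ((S : Subgroup M) : Set M) := fun m hm =>
      h.inter.mem_normalizer_of_commute hq.1 (h.z_mem S) hqe h.two hne.2 (hQN q hq m hm).symm
        (h.z_comm m)
    have hn : (A : Subgroup ↥L).Normal := by
      refine ⟨fun x hx a => ?_⟩
      obtain ⟨m, hm, e⟩ : (a : M ⧸ rad c) ∈ N.map ρ := hNL.symm ▸ a.2
      rw [mem_sylowIn, Sylow.coe_mapSurjective] at hx ⊢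
      obtain ⟨s, hs, es⟩ := hx
      exact ⟨m * s * m⁻¹, (mem_normalizer_iff.1 (hNS hm) s).1 hs, by
        rw [map_mul, map_mul, map_inv, e, es]; rfl⟩
    obtain ⟨T, hTA⟩ := d.exists_other
    haveI := A.unique_of_normal hn
    exact hTA (Subsingleton.elim T A)
  have hsplit : Split S c z Q B := by
    refine ⟨inf_le_left, inf_le_left, hVQ h.c_mem h.c_mem_rad, hVQ (h.z_mem S) h.z_mem_rad,
      fun s hs => ?_, fun q hq β hβ => hQN q hq β hβ.2, fun x hxQ hxB => ?_, hQuniq,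
      ⟨q0, hq0Q, fun e => hq0c e.symm⟩, ?_, fun β hβ hsq β' hβ' => ?_⟩
    · by_cases hsc : Commute s c
      · obtain ⟨v, hv, hvr, β, hβ, e⟩ := hdec s hs hsc
        exact ⟨v, hVQ hv hvr, β, hβ, e⟩
      · obtain ⟨v, hv, hvr, β, hβ, e⟩ := hdec (q0⁻¹ * s) (mul_mem (inv_mem hq0S) hs)
          (h.centralizer_index_two (fun e => hq0c (by simpa using e.inv_left)) hsc)
        exact ⟨q0 * v, mul_mem hq0Q (hVQ hv hvr), β, hβ, by rw [mul_assoc, ← e, mul_inv_cancel_left]⟩
    · refine hsmall x hxB.1 hxB.2 (hρ1.1 ?_)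
      rcases hQmem hxQ with e | e
      · exact e
      · exact absurd (e ▸ mem_map_of_mem ρ (hNY hxB.2)) hT.g_out
    · have hsq2 : ∀ q ∈ Q, q * q ∈ rad c := fun q hq => hρ1.1 (by
        rw [map_mul]; rcases hQmem hq with e | e <;> rw [e]
        exacts [one_mul 1, hT.g_sq])
      by_cases hsmallV : ∀ v ∈ (S : Subgroup M), v ∈ rad c → v * v = 1 ∨ v * v = z
      · have hall : ∀ q ∈ Q, q * q = 1 ∨ q * q = z := fun q hq => by
          by_cases hqc : Commute q c
          · refine hsmallV q hq.1 (hρ1.1 ?_)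
            rcases hQmem hq with e | e
            · exact e
            · exact absurd (e ▸ mem_map_of_mem ρ (mem_cent.2 hqc)) hT.g_out
          · exact h.rad_small (mul_mem hq.1 hq.1) (hsq2 q hq) hqc ((Commute.refl q).mul_right rfl)
        refine Or.inl fun q hq => ⟨hall q hq, fun q' hq' => ?_⟩
        have hinv : ∀ w ∈ Q, w⁻¹ = w ∨ w⁻¹ = w * z := fun w hw => by
          rcases hall w hw with e | e
          · exact Or.inl (inv_eq_of_mul_eq_one_right e)
          · exact Or.inr (inv_eq_of_mul_eq_one_right (by rw [← mul_assoc, e, h.z_sq]))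
        have hcz : ∀ a b : M, a * z * b = a * b * z := fun a b => by
          rw [mul_assoc, ← (h.z_comm b).eq, mul_assoc]
        rcases hinv _ (mul_mem hq hq') with e | e <;> rcases hinv q hq with e1 | e1 <;>
          rcases hinv q' hq' with e2 | e2 <;> rw [mul_inv_rev, e1, e2] at e <;>
          (try simp only [hcz, ← mul_assoc] at e)
        · exact Or.inl e.symm
        · exact Or.inr e.symm
        · exact Or.inr e.symm
        · refine Or.inl ?_
          rw [mul_assoc (q' * q) z z, h.z_sq, mul_one] at e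
          exact e.symm
        · refine Or.inr ?_
          rw [e, mul_assoc, h.z_sq, mul_one]
        · exact Or.inl (mul_right_cancel e).symm
        · exact Or.inl (mul_right_cancel e).symm
        · refine Or.inr ?_
          rw [mul_assoc (q' * q) z z, h.z_sq, mul_one] at e
          rw [e, mul_assoc, h.z_sq, mul_one]
      · simp only [not_forall, not_or] at hsmallV
        obtain ⟨v, hv, hvr, hv1, hvz⟩ := hsmallV
        refine Or.inr fun q hq hcen => ?_
        by_contra hqc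
        refine absurd (h.rad_small (mul_mem hv hv) (mul_mem hvr hvr) (m := q)
          (fun e => hqc e.symm) ?_) (not_or.2 ⟨hv1, hvz⟩)
        rcases hcen v (hVQ hv hvr) with e | e
        · exact (show Commute q v from e).mul_right e
        · show q * (v * v) = v * v * q
          calc q * (v * v) = q * v * v := (mul_assoc _ _ _).symm
            _ = v * q * z * v := by rw [e]
            _ = v * (q * v) * z := by
                rw [mul_assoc (v * q) z v, ← (h.z_comm v).eq]; group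
            _ = v * (v * q * z) * z := by rw [e]
            _ = v * v * q * (z * z) := by group
            _ = v * v * q := by rw [h.z_sq, mul_one]
    · by_cases hβr : β ∈ rad c
      · rcases hsmall β hβ.1 hβ.2 hβr with rfl | rfl
        · exact Or.inl (by rw [one_mul, mul_one])
        · exact Or.inl (h.z_comm β').eq.symm
      have hβ2 : orderOf (⟨ρ β, hT.two_le S β hβ.1 (hBc β hβ)⟩ : ↥L) = 2 := by
        refine Involutions.Basic.orderOf_two_iff.2 ⟨Subtype.ext ?_, fun e =>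
          hβr (hρ1.1 (congrArg Subtype.val e))⟩
        show ρ β * ρ β = 1
        rw [← map_mul]
        rcases hsq with e | e <;> rw [e]
        exacts [map_one ρ, hρ1.2 h.z_mem_rad]
      have hc := congrArg Subtype.val
        (d.inv_central _ (hmemA β hβ) hβ2 _ (hmemA β' hβ')).eq
      have hmem : (β' * β)⁻¹ * (β * β') ∈ rad c := hρ1.1 (by
        rw [map_mul, map_inv, map_mul, map_mul]
        exact inv_mul_eq_one.2 hc.symm)
      rcases hsmall _ (mul_mem (inv_mem (mul_mem hβ'.1 hβ.1)) (mul_mem hβ.1 hβ'.1))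
        (mul_mem (inv_mem (mul_mem hβ'.2 hβ.2)) (mul_mem hβ.2 hβ'.2)) hmem with e | e
      · exact Or.inl (inv_mul_eq_one.1 e).symm
      · exact Or.inr (inv_mul_eq_iff_eq_mul.1 e)
  refine ⟨Q, B, hsplit, hQnorm, ?_⟩
  -- preimages in `B` of involutions
  have hBinv : ∀ β ∈ B, β ∉ rad c → (β * β = 1 ∨ β * β = z) → ∀ hl : ρ β ∈ L,
      orderOf (⟨ρ β, hl⟩ : ↥L) = 2 := by
    intro β hβ hβr hsq hl
    refine Involutions.Basic.orderOf_two_iff.2 ⟨Subtype.ext ?_, fun e =>
      hβr (hρ1.1 (congrArg Subtype.val e))⟩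
    show ρ β * ρ β = 1
    rw [← map_mul]
    rcases hsq with e | e <;> rw [e]
    exacts [map_one ρ, hρ1.2 h.z_mem_rad]
  have hlift : ∀ l : ↥L, l ∈ (A : Subgroup ↥L) → l * l = 1 → l ≠ 1 →
      ∃ β ∈ B, ρ β = l ∧ β ∉ rad c ∧ (β * β = 1 ∨ β * β = z) := by
    intro l hl hll hl1
    rw [mem_sylowIn, Sylow.coe_mapSurjective] at hl
    obtain ⟨β, hβ, e⟩ := hBmap _ l.2 hl
    refine ⟨β, hβ, e, fun hr => hl1 (Subtype.ext (e.symm.trans (hρ1.2 hr))), ?_⟩
    refine hsmall _ (mul_mem hβ.1 hβ.1) (mul_mem hβ.2 hβ.2) (hρ1.1 ?_)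
    rw [map_mul, e]
    exact congrArg Subtype.val hll
  have hsame : ∀ (n' : M) (β β' : M), n' ∈ N → β ∈ B → β' ∈ B → ρ (n' * β * n'⁻¹) = ρ β' →
      n' * β * n'⁻¹ = β' ∨ n' * β * n'⁻¹ = β' * z := by
    intro n' β β' hn' hβ hβ' e
    obtain ⟨k, hk⟩ := S.isPGroup' ⟨β, hβ.1⟩
    have hS' : n' * β * n'⁻¹ ∈ (S : Subgroup M) := h.mem_of_map (k := k)
      (by rw [conj_pow, show β ^ (2 ^ k) = 1 from congrArg Subtype.val hk, mul_one, mul_inv_cancel])
      ⟨β', hβ'.1, hρ1.1 (by rw [map_mul, map_inv, e, inv_mul_cancel])⟩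
    rcases hsmall _ (mul_mem (inv_mem hβ'.1) hS') (mul_mem (inv_mem hβ'.2) (hNn.conj_mem β hβ.2 n'))
      (hρ1.1 (by rw [map_mul, map_inv, e, inv_mul_cancel])) with e' | e'
    · exact Or.inl (inv_mul_eq_one.1 e').symm
    · exact Or.inr (inv_mul_eq_iff_eq_mul.1 e')
  obtain ⟨l1, hl1A, hl12, -⟩ := exists_central_involution A.isPGroup' (Y := (A : Subgroup ↥L))
    (by
      intro e
      have h1 := d.ncard_inv
      rw [show {x : ↥L | x ∈ (A : Subgroup ↥L) ∧ orderOf x = 2} = ∅ by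
        rw [Set.eq_empty_iff_forall_notMem]
        rintro x ⟨hx, hx2⟩
        rw [e, mem_bot] at hx
        exact Involutions.Basic.ne_one hx2 hx, Set.ncard_empty] at h1
      have h4 : 4 ≤ 2 ^ n := le_trans (by norm_num) (Nat.pow_le_pow_right two_pos d.two_le)
      omega)
  have h4 : 4 ≤ 2 ^ n := le_trans (by norm_num) (Nat.pow_le_pow_right two_pos d.two_le)
  by_cases hmulti : ∀ β ∈ B, β * β ≠ z
  · left
    have hone : ∀ β ∈ B, β * β = 1 ∨ β * β = z → β ∉ rad c → IsExtra z β := fun β hβ hsq hr =>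
      ⟨Involutions.Basic.orderOf_two_iff.2
        ⟨hsq.resolve_right (hmulti β hβ), fun e => hr (e ▸ one_mem _)⟩,
        fun e => hr (e ▸ h.z_mem_rad)⟩
    refine ⟨hmulti, ?_, fun β hβ β' hβ' he he' => ?_⟩
    · obtain ⟨l2, ⟨hl2A, hl22⟩, hne⟩ : ∃ x, x ∈ {x : ↥L | x ∈ (A : Subgroup ↥L) ∧ orderOf x = 2} ∧
          x ≠ l1 := Set.exists_ne_of_one_lt_ncard (by rw [d.ncard_inv]; omega) l1
      obtain ⟨β, hβ, e, hr, hsq⟩ := hlift l1 hl1A (mul_self_of_orderOf hl12)
        (Involutions.Basic.ne_one hl12)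
      obtain ⟨β', hβ', e', hr', hsq'⟩ := hlift l2 hl2A (mul_self_of_orderOf hl22)
        (Involutions.Basic.ne_one hl22)
      refine ⟨β, hβ, β', hβ', hone β hβ hsq hr, hone β' hβ' hsq' hr', fun e'' => hne ?_,
        fun e'' => hne ?_⟩
      · exact Subtype.ext (by rw [← e', e'', e])
      · exact Subtype.ext (by rw [← e', e'', map_mul, hρ1.2 h.z_mem_rad, mul_one, e])
    · have hord : ∀ γ (hγ : γ ∈ B), IsExtra z γ →
          orderOf (⟨ρ γ, hT.two_le S γ hγ.1 (hBc γ hγ)⟩ : ↥L) = 2 := fun γ hγ hex =>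
        hBinv γ hγ (h.extra_not_rad hex hγ.1) (Or.inl (mul_self_of_orderOf hex.1)) _
      obtain ⟨r, -, hr⟩ := d.trans _ _ (hmemA β hβ) (hmemA β' hβ') (hord β hβ he) (hord β' hβ' he')
      obtain ⟨n', hn', e⟩ : (r : M ⧸ rad c) ∈ N.map ρ := hNL.symm ▸ r.2
      have hconj : n' * β * n'⁻¹ = β' ∨ n' * β * n'⁻¹ = β' * z := hsame n' β β' hn' hβ hβ' (by
        rw [map_mul, map_mul, map_inv, e]
        exact congrArg Subtype.val hr)
      refine ⟨n', Sylow.smul_eq_iff_mem_normalizer.1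
        (h.eq_sylow (h.isExtra_conj he n') (conj_mem_smul n' hβ.1) ?_), mem_cent.1 (hNY hn'), hconj⟩
      rcases hconj with e | e <;> rw [e]
      exacts [hβ'.1, mul_mem hβ'.1 (h.z_mem S)]
  right
  simp only [not_forall, not_not] at hmulti
  obtain ⟨β0, hβ0, hβ0z⟩ := hmulti
  have hβ0r : β0 ∉ rad c := fun hr => by
    rcases hsmall β0 hβ0.1 hβ0.2 hr with rfl | rfl
    · rw [one_mul] at hβ0z; exact h.z_ne_one hβ0z.symm
    · rw [h.z_sq] at hβ0z; exact h.z_ne_one hβ0z.symm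
  have hall : ∀ β ∈ B, β ∉ rad c → (β * β = 1 ∨ β * β = z) → β * β = z := by
    intro β hβ hr hsq
    obtain ⟨w, hw⟩ := isConj_iff.1 ((I.facts.1 _ hT.kind).2.1 _ _
      (hBinv β0 hβ0 hβ0r (Or.inr hβ0z) (hT.two_le S β0 hβ0.1 (hBc β0 hβ0)))
      (hBinv β hβ hr hsq (hT.two_le S β hβ.1 (hBc β hβ))))
    obtain ⟨n', hn', e⟩ : (w : M ⧸ rad c) ∈ N.map ρ := hNL.symm ▸ w.2
    have hz' : (n' * β0 * n'⁻¹) * (n' * β0 * n'⁻¹) = z := by
      rw [show n' * β0 * n'⁻¹ * (n' * β0 * n'⁻¹) = n' * (β0 * β0) * n'⁻¹ by group, hβ0z,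
        (h.z_comm n').eq, mul_inv_cancel_right]
    rcases hsame n' β0 β hn' hβ0 hβ (by
      rw [map_mul, map_mul, map_inv, e]
      exact congrArg Subtype.val hw) with e' | e' <;> rw [e'] at hz'
    · exact hz'
    · rwa [(show Commute z β from (h.z_comm β).symm).mul_mul_mul_comm, h.z_sq, mul_one] at hz'
  have huniq : UniqueInv B := by
    have key : ∀ w ∈ B, orderOf w = 2 → w = z := by
      intro w hw hw2
      have hr : w ∈ rad c := by
        by_contra hr
        have h1 := hall w hw hr (Or.inl (mul_self_of_orderOf hw2))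
        rw [mul_self_of_orderOf hw2] at h1
        exact h.z_ne_one h1.symm
      exact (hsmall w hw.1 hw.2 hr).resolve_left (Involutions.Basic.ne_one hw2)
    exact fun x hx y hy hx2 hy2 => (key x hx hx2).trans (key y hy hy2).symm
  rcases huniq.isCyclic_or_quaternion (S.isPGroup'.to_le inf_le_left) with hcyc | ⟨m, ⟨φ⟩⟩
  · exfalso
    obtain ⟨l2, ⟨hl2A, hl22⟩, hne⟩ : ∃ x, x ∈ {x : ↥L | x ∈ (A : Subgroup ↥L) ∧ orderOf x = 2} ∧
        x ≠ l1 := Set.exists_ne_of_one_lt_ncard (by rw [d.ncard_inv]; omega) l1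
    haveI := hcyc
    haveI : IsCyclic ↥(B.map ρ) := isCyclic_of_surjective _ (MonoidHom.subgroupMap_surjective ρ B)
    have hin : ∀ l : ↥L, l ∈ (A : Subgroup ↥L) → (l : M ⧸ rad c) ∈ B.map ρ := by
      intro l hl
      rw [mem_sylowIn, Sylow.coe_mapSurjective] at hl
      obtain ⟨β, hβ, e⟩ := hBmap _ l.2 hl
      exact ⟨β, hβ, e⟩
    exact hne (Subtype.ext (eq_of_cyclic inferInstance (hin l2 hl2A) (hin l1 hl1A)
      (by rw [Subgroup.orderOf_coe, hl22]) (by rw [Subgroup.orderOf_coe, hl12])))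
  -- the quaternion group
  have hm : m = 0 := by
    by_contra hm
    haveI : NeZero (2 ^ (m + 1)) := ⟨by positivity⟩
    have hel : ∀ j, ((φ.symm (QuaternionGroup.xa j) : ↥B) : M) *
        (φ.symm (QuaternionGroup.xa j) : ↥B) = z := by
      intro j
      have hne1 : (φ.symm (QuaternionGroup.xa j) : ↥B) * φ.symm (QuaternionGroup.xa j) ≠ 1 := by
        intro e
        have e1 := congrArg φ e
        rw [map_mul, map_one, MulEquiv.apply_symm_apply, QuaternionGroup.xa_mul_xa,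
          QuaternionGroup.one_def, QuaternionGroup.a.injEq, add_sub_cancel_right,
          ZMod.natCast_eq_zero_iff] at e1
        have h3 := Nat.le_of_dvd (by positivity) e1
        have h0 : 0 < 2 ^ (m + 1) := by positivity
        omega
      have h4' : (φ.symm (QuaternionGroup.xa j) : ↥B) ^ 4 = 1 := by
        rw [← map_pow, map_eq_one_iff _ φ.symm.injective, ← QuaternionGroup.orderOf_xa j]
        exact pow_orderOf_eq_one _
      set β := ((φ.symm (QuaternionGroup.xa j) : ↥B) : M)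
      have hββ : β * β ≠ 1 := fun e => hne1 (Subtype.ext e)
      have hbb2 : orderOf (β * β) = 2 := by
        refine Involutions.Basic.orderOf_two_iff.2 ⟨?_, hββ⟩
        have e4 : β ^ 4 = 1 := congrArg Subtype.val h4'
        rw [show β * β * (β * β) = β ^ 4 by simp [pow_succ, mul_assoc], e4]
      have hβmem : β ∈ B := (φ.symm (QuaternionGroup.xa j)).2
      have hzB : z ∈ B := hβ0z ▸ mul_mem hβ0 hβ0
      exact huniq _ (mul_mem hβmem hβmem) z hzB hbb2 h.two
    set x0 := φ.symm (QuaternionGroup.xa 0) with hx0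
    set x1 := φ.symm (QuaternionGroup.xa 1) with hx1
    have hsq : ((x0 : M) * x1) * ((x0 : M) * x1) = 1 ∨ ((x0 : M) * x1) * ((x0 : M) * x1) = z := by
      have hc : (x1 : M) * x0 = x0 * x1 ∨ (x1 : M) * x0 = x0 * x1 * z :=
        hsplit.B_cen _ x1.2 (Or.inr (hel 1)) _ x0.2
      rcases hc with e | e
      · left
        calc (x0 : M) * x1 * (x0 * x1) = x0 * (x1 * x0) * x1 := by group
          _ = x0 * x0 * (x1 * x1) := by rw [e]; group
          _ = 1 := by rw [hel 0, hel 1, h.z_sq]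
      · right
        calc (x0 : M) * x1 * (x0 * x1) = x0 * (x1 * x0) * x1 := by group
          _ = x0 * (x0 * x1) * (z * x1) := by rw [e]; group
          _ = x0 * x0 * (x1 * x1) * z := by
              rw [show z * (x1 : M) = x1 * z from (h.z_comm _).eq.symm]; group
          _ = z := by rw [hel 0, hel 1, h.z_sq, one_mul]
    have h4' : (x0 * x1) * (x0 * x1) * ((x0 * x1) * (x0 * x1)) = 1 := by
      refine Subtype.ext ?_
      simp only [Subgroup.coe_mul, OneMemClass.coe_one]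
      rcases hsq with e | e <;> rw [e]
      exacts [one_mul 1, h.z_sq]
    have e1 := congrArg φ h4'
    simp only [hx0, hx1, map_mul, map_one, MulEquiv.apply_symm_apply, QuaternionGroup.xa_mul_xa,
      QuaternionGroup.a_mul_a, QuaternionGroup.one_def, QuaternionGroup.a.injEq] at e1
    have h2 : (((2 ^ (m + 1) : ℕ) : ZMod (2 * 2 ^ (m + 1))) + (2 ^ (m + 1) : ℕ)) = 0 := by
      rw [← Nat.cast_add, ← two_mul, ZMod.natCast_self]
    have e2 : ((4 : ℕ) : ZMod (2 * 2 ^ (m + 1))) = 0 := by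
      rw [Nat.cast_ofNat]
      linear_combination e1 - 2 * h2
    rw [ZMod.natCast_eq_zero_iff] at e2
    have h3 := Nat.le_of_dvd (by norm_num) e2
    have h8 : 4 ≤ 2 ^ (m + 1) := le_trans (by norm_num)
      (Nat.pow_le_pow_right two_pos (show 2 ≤ m + 1 by omega))
    omega
  subst hm
  have hcard : Nat.card ↥B = 8 := by
    haveI : NeZero (2 ^ (0 + 1)) := ⟨by norm_num⟩
    rw [Nat.card_congr φ.toEquiv, Nat.card_eq_fintype_card, QuaternionGroup.card]
    norm_num
  have hzB : z ∈ B := hβ0z ▸ mul_mem hβ0 hβ0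
  have hsq : ∀ β ∈ B, β = 1 ∨ β = z ∨ β * β = z := by
    intro β hβ
    by_cases hββ : β * β = 1
    · by_cases hβ1 : β = 1
      · exact Or.inl hβ1
      · exact Or.inr (Or.inl (huniq β hβ z hzB (Involutions.Basic.orderOf_two_iff.2 ⟨hββ, hβ1⟩)
          h.two))
    · refine Or.inr (Or.inr (huniq _ (mul_mem hβ hβ) z hzB
        (Involutions.Basic.orderOf_two_iff.2 ⟨?_, hββ⟩) h.two))
      have hq : ∀ q : QuaternionGroup (2 ^ (0 + 1)), q * q * (q * q) = 1 := by decide
      have e1 := hq (φ ⟨β, hβ⟩)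
      rw [← map_mul, ← map_mul, MulEquiv.map_eq_one_iff] at e1
      exact congrArg Subtype.val e1
  refine ⟨⟨hcard, hsq, fun β hβ hc => ?_⟩, ?_⟩
  · have hq : ∀ q : QuaternionGroup (2 ^ (0 + 1)), (∀ q', q * q' = q' * q) → q * q = 1 := by decide
    have e1 := hq (φ ⟨β, hβ⟩) fun q' => by
      obtain ⟨⟨β', hβ'⟩, rfl⟩ := φ.surjective q'
      rw [← map_mul, ← map_mul]
      exact congrArg φ (Subtype.ext (hc β' hβ').eq)
    rw [← map_mul, MulEquiv.map_eq_one_iff] at e1
    have e2 : β * β = 1 := congrArg Subtype.val e1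
    rcases hsq β hβ with rfl | rfl | e
    exacts [Or.inl rfl, Or.inr rfl, absurd (e.symm.trans e2) h.z_ne_one]
  -- the number of Sylow subgroups
  have hAcard : Nat.card ↥(A : Subgroup ↥L) ≤ 4 := by
    have hsurj : ∀ a : ↥(A : Subgroup ↥L), ∃ β : ↥B, ρ (β : M) = (a : ↥L) := fun a => by
      have ha := a.2
      rw [mem_sylowIn, Sylow.coe_mapSurjective] at ha
      obtain ⟨β, hβ, e⟩ := hBmap _ (a : ↥L).2 ha
      exact ⟨⟨β, hβ⟩, e⟩
    let f : ↥B →* M ⧸ rad c := ρ.comp B.subtype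
    have h1 : Nat.card ↥(A : Subgroup ↥L) ≤ Nat.card ↥f.range := by
      choose β hβ using hsurj
      refine Nat.card_le_card_of_injective (fun a => (⟨ρ (β a : M), β a, rfl⟩ : ↥f.range))
        fun a a' e => Subtype.ext (Subtype.ext ?_)
      have e' := congrArg Subtype.val e
      simp only [hβ] at e'
      exact e'
    have h2 : 2 * Nat.card ↥f.range ≤ 8 := by
      rw [← hcard, ← Subgroup.card_mul_index f.ker, index_ker]
      refine Nat.mul_le_mul_right _ ?_
      haveI : Nontrivial ↥f.ker := ⟨⟨⟨⟨z, hzB⟩, hρ1.2 h.z_mem_rad⟩, 1, fun e =>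
        h.z_ne_one (congrArg (fun w : ↥f.ker => ((w : ↥B) : M)) e :)⟩⟩
      exact Finite.one_lt_card
    omega
  have hL5 : Nat.card (Sylow 2 ↥L) ≤ 5 := by
    obtain ⟨T0, hT0⟩ := d.exists_other
    let F : Option ↥(A : Subgroup ↥L) → Sylow 2 ↥L := fun o => o.elim A fun s => (s : ↥L) • T0
    have hF : Function.Surjective F := fun T => by
      by_cases hTA : T = A
      · exact ⟨none, hTA.symm⟩
      · obtain ⟨s, hs, -⟩ := d.regular T0 T hT0 hTA
        exact ⟨some s, hs⟩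
    have := Nat.card_le_card_of_surjective F hF
    rw [Finite.card_option] at this
    omega
  refine (Nat.card_le_card_of_injective (fun T : Sylow 2 M => sylowIn (T.mapSurjective hρs) L) ?_).trans hL5
  intro T T' e
  obtain ⟨m, hm⟩ := MulAction.exists_smul_eq M S T
  have hbm : Commute (m * b * m⁻¹) c := by
    have := h.cy_normal.conj_mem b (mem_cent.2 hbc) m
    exact mem_cent.1 this
  have hbT : m * b * m⁻¹ ∈ (T : Subgroup M) := hm ▸ conj_mem_smul m hbS
  have hmem : (⟨ρ (m * b * m⁻¹), hT.two_le T _ hbT hbm⟩ : ↥L) ∈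
      (sylowIn (T.mapSurjective hρs) L : Subgroup ↥L) :=
    mem_sylowIn.2 (mem_mapSurjective hρs T hbT)
  rw [show sylowIn (T.mapSurjective hρs) L = sylowIn (T'.mapSurjective hρs) L from e,
    mem_sylowIn, Sylow.coe_mapSurjective] at hmem
  obtain ⟨t, ht, et⟩ := hmem
  have et' : ρ t = ρ (m * b * m⁻¹) := et
  refine h.eq_sylow (h.isExtra_conj hb m) hbT (h.mem_of_map (k := 1) ?_ ⟨t, ht, hρ1.1 ?_⟩)
  · rw [pow_one, conj_pow, pow_two, mul_self_of_orderOf hb.1, mul_one, mul_inv_cancel]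
  · rw [map_mul _ t⁻¹, map_inv, et', inv_mul_cancel]

end Mid

end Cfsg.Agent.RankOneInter
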