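import Cfsg.Agent.Lib.RankOneInter.CoverBasic
import Cfsg.Agent.Lib.Coprime.Generation
import Cfsg.Agent.Lib.CyclicSylowInter.Reduction
import Cfsg.Agent.S3303

/-!
# The centraliser of an element of order four: the odd core and the radical

In a group with central involution `z`, one involution in intersections and `c` of square `z` whose
conjugates are `c` and `cz`: two independent involutions of `C(c)` commuting up to `z` make a Sylow
subgroup centralise the odd core, so the centraliser of `c` is nonsolvable and its radical is the odd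
core times a cyclic central 2-group.
-/

set_option autoImplicit false
set_option linter.style.haveILetI false
set_option linter.unusedSectionVars false

namespace Cfsg.Agent.RankOneInter

open Subgroup
open scoped Pointwise commutatorElement
open Cfsg.Agent.ZStar.CyclicIntersections

universe u

/-- The setting. -/
structure Mid {M : Type u} [Group M] [Finite M] (S : Sylow 2 M) (c z : M) : Prop where
  inter : OneInv M
  two : orderOf z = 2
  z_comm : ∀ m, Commute m z
  sq : c * c = z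
  c_mem : c ∈ (S : Subgroup M)
  conj_c : ∀ m, m * c * m⁻¹ = c ∨ m * c * m⁻¹ = c * z
  moved : ∃ s ∈ (S : Subgroup M), ¬ Commute c s
  not_normal : ∃ m, m ∉ normalizer ((S : Subgroup M) : Set M)
  pair : ∃ b ∈ (S : Subgroup M), ∃ b' ∈ (S : Subgroup M), IsExtra z b ∧ IsExtra z b' ∧ Commute b c ∧
    Commute b' c ∧ (b * b' = b' * b ∨ b * b' = b' * b * z) ∧ b * b' ∉ zpowers c

/-- An element of 2-power order times a commuting element of odd order has odd part one. -/
theorem eq_one_of_two_power_mul {G : Type*} [Group G] {a o : G} (hc : Commute a o) {k l : ℕ}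
    (ha : a ^ (2 ^ k) = 1) (hao : (a * o) ^ (2 ^ l) = 1) (ho : Odd (orderOf o)) : o = 1 := by
  have hak : a ^ (2 ^ (k + l)) = 1 := by rw [pow_add, pow_mul, ha, one_pow]
  have haok : (a * o) ^ (2 ^ (k + l)) = 1 := by rw [pow_add, mul_comm, pow_mul, hao, one_pow]
  rw [hc.mul_pow, hak, one_mul] at haok
  have h1 := Nat.Coprime.eq_one_of_dvd
    ((Nat.coprime_two_right.2 ho).pow_right (k + l)) (orderOf_dvd_of_pow_eq_one haok)
  exact orderOf_eq_one_iff.1 h1

namespace Mid

variable {M : Type u} [Group M] [Finite M] {S : Sylow 2 M} {c z : M} (h : Mid S c z)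
include h

theorem z_sq : z * z = 1 := mul_self_of_orderOf h.two

theorem z_ne_one : z ≠ 1 := Involutions.Basic.ne_one h.two

theorem z_mem (T : Sylow 2 M) : z ∈ (T : Subgroup M) := by
  haveI : (zpowers z).Normal := ⟨fun n hn g => by
    obtain ⟨j, rfl⟩ := mem_zpowers_iff.1 hn
    rw [((h.z_comm g).zpow_right j).eq, mul_inv_cancel_right]
    exact zpow_mem (mem_zpowers z) j⟩
  refine Agent.Cores.pCore_le_sylow T (Agent.Cores.le_pCore (N := zpowers z) ?_ (mem_zpowers z))
  exact IsPGroup.of_card (n := 1) (by rw [Nat.card_zpowers, h.two, pow_one])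

theorem c_inv : c⁻¹ = c * z := inv_eq_of_mul_eq_one_right (by rw [← mul_assoc, h.sq, h.z_sq])

theorem c_sq_ne : c * c ≠ 1 := by rw [h.sq]; exact h.z_ne_one

theorem isExtra_conj {k : M} (hk : IsExtra z k) (g : M) : IsExtra z (g * k * g⁻¹) := by
  refine ⟨by rw [Involutions.Basic.orderOf_conj, hk.1], fun e => hk.2 ?_⟩
  have h1 : k = g⁻¹ * z * g := by rw [← e]; group
  rwa [((h.z_comm g⁻¹).eq), inv_mul_cancel_right] at h1

theorem eq_sylow {a : M} (ha : IsExtra z a) {T U : Sylow 2 M} (hT : a ∈ (T : Subgroup M))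
    (hU : a ∈ (U : Subgroup M)) : T = U :=
  h.inter.eq_of_two hT hU (h.z_mem T) (h.z_mem U) ha.1 h.two ha.2

theorem centralizer_index_two {m m' : M} (hm : ¬ Commute m c) (hm' : ¬ Commute m' c) :
    Commute (m * m') c := by
  have e : ∀ g, ¬ Commute g c → g * c * g⁻¹ = c * z := fun g hg =>
    (h.conj_c g).resolve_left fun e => hg (mul_inv_eq_iff_eq_mul.1 e)
  refine mul_inv_eq_iff_eq_mul.1 ?_
  rw [show m * m' * c * (m * m')⁻¹ = m * (m' * c * m'⁻¹) * m⁻¹ by group, e m' hm',
    show m * (c * z) * m⁻¹ = (m * c * m⁻¹) * (m * z * m⁻¹) by group, e m hm, (h.z_comm m).eq,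
    mul_inv_cancel_right, mul_assoc, h.z_sq, mul_one]

theorem commute_of_odd {o : M} (ho : Odd (orderOf o)) : Commute o c := by
  by_contra hne
  have h2 : Commute (o * o) c := h.centralizer_index_two hne hne
  obtain ⟨j, hj⟩ := ho
  refine hne ?_
  have h1 : o = ((o * o) ^ j)⁻¹ := by
    refine eq_inv_of_mul_eq_one_left ?_
    rw [← pow_two, ← pow_mul, ← pow_succ', ← hj, pow_orderOf_eq_one]
  rw [h1]
  exact (h2.pow_left j).inv_left

/-- The centraliser of `c`. -/
abbrev cy (c : M) : Subgroup M := centralizer ({c} : Set M)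

theorem cy_normal : (cy c).Normal := ⟨fun y hy g => by
  rw [mem_cent] at hy ⊢
  have hcg : ∀ x : M, Commute y (x * c * x⁻¹) := fun x => by
    rcases h.conj_c x with e | e <;> rw [e]
    exacts [hy, hy.mul_right (h.z_comm y)]
  refine mul_inv_eq_iff_eq_mul.1 ?_
  have h1 := (hcg g⁻¹).eq
  rw [inv_inv] at h1
  rw [show g * y * g⁻¹ * c * (g * y * g⁻¹)⁻¹ = g * (y * (g⁻¹ * c * g)) * y⁻¹ * g⁻¹ by group, h1]
  group⟩

theorem odd_orderOf {o : M} (ho : o ∈ Cfsg.oddCore M) : Odd (orderOf o) :=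
  Odd.of_dvd_nat (Agent.Cores.oddCore_odd (G := M))
    (Subgroup.orderOf_coe (⟨o, ho⟩ : ↥(Cfsg.oddCore M)) ▸ orderOf_dvd_natCard _)

/-- The Sylow subgroup centralises the odd core. -/
theorem core_comm : ∀ o ∈ Cfsg.oddCore M, ∀ s ∈ (S : Subgroup M), Commute o s := by
  classical
  haveI := Fact.mk Nat.prime_two
  obtain ⟨b, hbS, b', hb'S, hb, hb', hbc, hb'c, hbb, hind⟩ := h.pair
  -- the third involution
  obtain ⟨f, hfS, hf, hfo⟩ : ∃ f ∈ (S : Subgroup M), IsExtra z f ∧
      ∀ o, Commute o c → Commute o (b * b') → Commute o f := by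
    rcases hbb with e | e
    · refine ⟨b * b', mul_mem hbS hb'S, ⟨orderOf_eq_prime ?_ fun e1 => hind (e1 ▸ one_mem _),
        fun e1 => hind (by rw [e1, ← h.sq]; exact mul_mem (mem_zpowers c) (mem_zpowers c))⟩,
        fun o _ h2 => h2⟩
      rw [pow_two, (show Commute b' b from e.symm).mul_mul_mul_comm, mul_self_of_orderOf hb.1,
        mul_self_of_orderOf hb'.1, one_mul]
    · have hbb2 : b * b' * (b * b') = z := by
        calc b * b' * (b * b') = b * (b' * b) * b' := by group
          _ = b * (b * b' * z) * b' := by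
              rw [show b' * b = b * b' * z by rw [e, mul_assoc, h.z_sq, mul_one]]
          _ = b * (b * b') * (z * b') := by group
          _ = b * b * (b' * b') * z := by
              rw [show z * b' = b' * z from ((h.z_comm b').eq).symm]; group
          _ = z := by rw [mul_self_of_orderOf hb.1, mul_self_of_orderOf hb'.1, one_mul, one_mul]
      refine ⟨b * b' * c, mul_mem (mul_mem hbS hb'S) h.c_mem, ⟨orderOf_eq_prime ?_ ?_, ?_⟩,
        fun o h1 h2 => h2.mul_right h1⟩
      · rw [pow_two, ((hbc.mul_left hb'c).symm).mul_mul_mul_comm, hbb2, h.sq, h.z_sq]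
      · exact fun e1 => hind (by rw [mul_eq_one_iff_eq_inv.1 e1]; exact inv_mem (mem_zpowers c))
      · intro e1
        refine hind ?_
        rw [eq_mul_inv_of_mul_eq e1, ← h.sq, mul_assoc, mul_inv_cancel, mul_one]
        exact mem_zpowers c
  set O := Cfsg.oddCore M with hO
  -- the fixed points modulo `z`
  haveI hZn : (zpowers z).Normal := ⟨fun n hn g => by
    obtain ⟨j, rfl⟩ := mem_zpowers_iff.1 hn
    rw [((h.z_comm g).zpow_right j).eq, mul_inv_cancel_right]
    exact zpow_mem (mem_zpowers z) j⟩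
  let φ := QuotientGroup.mk' (zpowers z)
  have hφz : ∀ x, φ x = 1 → x = 1 ∨ x = z := by
    intro x hx
    obtain ⟨j, rfl⟩ := mem_zpowers_iff.1 ((QuotientGroup.eq_one_iff x).1 hx)
    rcases Int.even_or_odd' j with ⟨i, rfl | rfl⟩
    · exact Or.inl (by rw [zpow_mul, zpow_two, h.z_sq, one_zpow])
    · exact Or.inr (by rw [zpow_add_one, zpow_mul, zpow_two, h.z_sq, one_zpow, one_mul])
  have hsq : ∀ x : M, orderOf x = 2 → φ x * φ x = 1 := fun x hx => by
    rw [← map_mul, mul_self_of_orderOf hx, map_one]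
  have hcomm : Commute (φ b) (φ b') := by
    rcases hbb with e | e
    · exact (show Commute b b' from e).map φ
    · show φ b * φ b' = φ b' * φ b
      rw [← map_mul, ← map_mul, e, map_mul _ (b' * b),
        show φ z = 1 from (QuotientGroup.eq_one_iff z).2 (mem_zpowers z), mul_one]
  let A := four (φ b) (φ b') (hsq b hb.1) (hsq b' hb'.1) hcomm
  haveI : IsMulCommutative ↥A := ⟨⟨fun y y' => by
    have h1 : ∀ w : ↥A, w⁻¹ = w := fun w => inv_eq_of_mul_eq_one_right (Subtype.ext (four_sq w.2))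
    calc y * y' = (y * y')⁻¹ := (h1 _).symm
      _ = y' * y := by rw [_root_.mul_inv_rev, h1, h1]⟩⟩
  have hne1 : ∀ {x : M}, IsExtra z x → φ x ≠ 1 := fun hx e => by
    rcases hφz _ e with e1 | e1
    exacts [Involutions.Basic.ne_one hx.1 e1, hx.2 e1]
  have hncyc : ¬ IsCyclic ↥A := by
    intro hcy
    have h2 : ∀ w : M ⧸ zpowers z, w * w = 1 → w ≠ 1 → orderOf w = 2 := fun w h1 h2 =>
      Involutions.Basic.orderOf_two_iff.2 ⟨h1, h2⟩
    have e := eq_of_cyclic hcy (C := A) (mem_four.2 (Or.inr (Or.inl rfl)))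
      (mem_four.2 (Or.inr (Or.inr (Or.inl rfl)))) (h2 _ (hsq b hb.1) (hne1 hb))
      (h2 _ (hsq b' hb'.1) (hne1 hb'))
    refine hind ?_
    have h3 : φ (b * b') = 1 := by rw [map_mul, ← e, hsq b hb.1]
    rcases hφz _ h3 with e1 | e1 <;> rw [e1]
    exacts [one_mem _, h.sq ▸ mul_mem (mem_zpowers c) (mem_zpowers c)]
  haveI : (O.map φ).Normal := (inferInstance : O.Normal).map _ (QuotientGroup.mk'_surjective _)
  have hgen := Coprime.fixedGen_eq (A := A) (K := O.map φ) hncyc
    (by rw [normalizer_eq_top]; exact le_top)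
    (PLocal.Cores.coprime_card_of_isPGroup isPGroup_four
      (Nat.coprime_two_right.mpr ((Agent.Cores.oddCore_odd (G := M)).of_dvd_nat (O.card_map_dvd φ))))
  -- the fixed points normalise `S`
  have hN : ∀ o ∈ O, ∀ a : M, IsExtra z a → a ∈ (S : Subgroup M) → Commute o a →
      o ∈ normalizer ((S : Subgroup M) : Set M) := fun o _ a ha haS hoa =>
    h.inter.mem_normalizer_of_commute haS (h.z_mem S) ha.1 h.two ha.2 hoa (h.z_comm o)
  have hexact : ∀ o ∈ O, ∀ a : M, Commute (φ o) (φ a) → Commute o a := by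
    intro o ho a hc
    have hcomm' : a * o * a⁻¹ * o⁻¹ ∈ O :=
      mul_mem ((inferInstance : O.Normal).conj_mem o ho a) (inv_mem ho)
    have h1 : φ (a * o * a⁻¹ * o⁻¹) = 1 := by
      rw [map_mul, map_mul, map_mul, map_inv, map_inv, hc.symm.eq, mul_inv_cancel_right,
        mul_inv_cancel]
    rcases hφz _ h1 with e | e
    · exact (mul_inv_eq_iff_eq_mul.1 (mul_inv_eq_one.1 e)).symm
    · exfalso
      have h2 := h.odd_orderOf hcomm'
      rw [e, h.two] at h2
      exact absurd h2 (by decide)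
  have hle : O.map φ ≤ (O ⊓ normalizer ((S : Subgroup M) : Set M)).map φ := by
    conv_lhs => rw [← hgen]
    refine iSup₂_le fun y hy => ?_
    rintro _ ⟨⟨o, ho, rfl⟩, hoy⟩
    have hoy' : Commute (φ o) y := mem_cent.1 hoy
    refine ⟨o, ⟨ho, ?_⟩, rfl⟩
    rcases mem_four.1 hy.1 with rfl | rfl | rfl | rfl
    · exact absurd rfl hy.2
    · exact hN o ho b hb hbS (hexact o ho b hoy')
    · exact hN o ho b' hb' hb'S (hexact o ho b' hoy')
    · refine hN o ho f hf hfS (hfo o (h.commute_of_odd (h.odd_orderOf ho)) (hexact o ho _ ?_))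
      rwa [map_mul]
  intro o ho s hs
  have hoN : o ∈ normalizer ((S : Subgroup M) : Set M) := by
    obtain ⟨o', ⟨ho', hn⟩, e⟩ := hle (mem_map_of_mem φ ho)
    have h1 : φ (o'⁻¹ * o) = 1 := by rw [map_mul, map_inv, e, inv_mul_cancel]
    rcases hφz _ h1 with e1 | e1
    · rwa [← inv_mul_eq_one.1 e1]
    · rw [inv_mul_eq_iff_eq_mul.1 e1]
      exact mul_mem hn (le_normalizer (h.z_mem S))
  have h1 : o * s * o⁻¹ * s⁻¹ ∈ O := by
    rw [show o * s * o⁻¹ * s⁻¹ = o * (s * o⁻¹ * s⁻¹) by group]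
    exact mul_mem ho ((inferInstance : O.Normal).conj_mem _ (inv_mem ho) s)
  have h2 : o * s * o⁻¹ * s⁻¹ ∈ (S : Subgroup M) :=
    mul_mem ((mem_normalizer_iff.mp hoN _).1 hs) (inv_mem hs)
  have h3 : (S : Subgroup M) ⊓ O = ⊥ := PLocal.Cores.inf_eq_bot_of_isPGroup_of_coprime S.isPGroup'
    (Nat.coprime_two_right.mpr (Agent.Cores.oddCore_odd (G := M)))
  have h4 : o * s * o⁻¹ * s⁻¹ ∈ (S : Subgroup M) ⊓ O := ⟨h2, h1⟩
  rw [h3, mem_bot] at h4
  exact mul_inv_eq_iff_eq_mul.1 (mul_inv_eq_one.1 h4)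

theorem core_comm_all {o s : M} (ho : o ∈ Cfsg.oddCore M) {T : Sylow 2 M}
    (hs : s ∈ (T : Subgroup M)) : Commute o s := by
  haveI := Fact.mk Nat.prime_two
  obtain ⟨g, hg⟩ := MulAction.exists_smul_eq M S T
  rw [← hg, mem_smul] at hs
  have h1 := (h.core_comm _ ((inferInstance : (Cfsg.oddCore M).Normal).conj_mem o ho g⁻¹) _ hs).map
    (MulAut.conj g).toMonoidHom
  simpa [mul_assoc] using h1

theorem cycInt_cy : CycInt ↥(cy c) := by
  haveI := Fact.mk Nat.prime_two
  intro A B hne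
  have hin : ∀ U : Sylow 2 ↥(cy c), (⟨c, mem_cent.2 (Commute.refl c)⟩ : ↥(cy c)) ∈
      (U : Subgroup ↥(cy c)) := by
    intro U
    let d : ↥(cy c) := ⟨c, mem_cent.2 (Commute.refl c)⟩
    haveI : (zpowers d).Normal := ⟨fun n hn g => by
      obtain ⟨j, rfl⟩ := mem_zpowers_iff.1 hn
      rw [(Commute.zpow_right (show Commute g d from Subtype.ext (mem_cent.1 g.2).eq) j).eq,
        mul_inv_cancel_right]
      exact zpow_mem (mem_zpowers d) j⟩
    refine Agent.Cores.pCore_le_sylow U (Agent.Cores.le_pCore (N := zpowers d) ?_ (mem_zpowers d))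
    exact ((S.isPGroup'.to_le (zpowers_le.2 h.c_mem)).comap_subtype (K := cy c)).to_le
      (zpowers_le.2 (show c ∈ zpowers c from mem_zpowers c))
  exact ((h.inter.subgroup (cy c)).uniqueInv hne).isCyclic_of_central
    (A.isPGroup'.to_le inf_le_left) ⟨hin A, hin B⟩ (fun e => h.c_sq_ne (congrArg Subtype.val e :))
    fun y _ => Subtype.ext (mem_cent.1 y.2).symm.eq

theorem core_cy_le : (Cfsg.oddCore ↥(cy c)).map (cy c).subtype ≤ Cfsg.oddCore M :=
  haveI := h.cy_normal
  Agent.Cores.map_pPrimeCore_subtype_le 2 (cy c)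

theorem nonsolvable : ¬ Group.IsSolvable ↥(cy c) := by
  classical
  haveI := Fact.mk Nat.prime_two
  intro hs
  obtain ⟨P, hP⟩ := S3303.result hs h.cycInt_cy
  haveI := hP
  obtain ⟨b, hbS, _, _, hb, _, hbc, -, -, -⟩ := h.pair
  obtain ⟨A, hA⟩ := (S.isPGroup'.comap_subtype (K := cy c)).exists_le_sylow
  have hAS : ∀ a ∈ (A : Subgroup ↥(cy c)), (a : M) ∈ (S : Subgroup M) := by
    obtain ⟨U, hU⟩ := (A.isPGroup'.map (cy c).subtype).exists_le_sylow
    have hUS : U = S := h.eq_sylow hb (hU ⟨⟨b, mem_cent.2 hbc⟩, hA (mem_subgroupOf.2 hbS), rfl⟩) hbS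
    exact fun a ha => hUS ▸ hU (mem_map_of_mem _ ha)
  let φ := QuotientGroup.mk' (Cfsg.oddCore ↥(cy c))
  have hAP : (A : Subgroup ↥(cy c)).map φ = P := by
    haveI := P.unique_of_normal hP
    rw [← Subsingleton.elim (A.mapSurjective (QuotientGroup.mk'_surjective _)) P,
      Sylow.coe_mapSurjective]
  -- every element of the centraliser normalises the Sylow subgroup
  have hnorm : ∀ y : ↥(cy c), (y : M) ∈ normalizer ((S : Subgroup M) : Set M) := by
    intro y
    have hmem : y * ⟨b, mem_cent.2 hbc⟩ * y⁻¹ ∈ ((A : Subgroup ↥(cy c)).map φ).comap φ := by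
      rw [hAP, mem_comap, map_mul, map_mul, map_inv]
      exact hP.conj_mem _ (hAP ▸ mem_map_of_mem φ (hA (mem_subgroupOf.2 hbS))) _
    rw [comap_map_eq, QuotientGroup.ker_mk', mem_sup_of_normal_right] at hmem
    obtain ⟨s, hs', o, ho, e⟩ := hmem
    have e' : (s : M) * o = (y : M) * b * (y : M)⁻¹ := congrArg Subtype.val e
    have hoM : (o : M) ∈ Cfsg.oddCore M := h.core_cy_le (mem_map_of_mem _ ho)
    obtain ⟨k, hk⟩ := S.isPGroup' ⟨(s : M), hAS s hs'⟩
    have ho1 : (o : M) = 1 := by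
      refine eq_one_of_two_power_mul (h.core_comm _ hoM _ (hAS s hs')).symm (k := k) (l := 1)
        (congrArg Subtype.val hk) ?_ (h.odd_orderOf hoM)
      rw [e', pow_one, conj_pow, pow_two, mul_self_of_orderOf hb.1, mul_one, mul_inv_cancel]
    rw [ho1, mul_one] at e'
    exact Sylow.smul_eq_iff_mem_normalizer.1
      (h.eq_sylow (h.isExtra_conj hb y) (conj_mem_smul _ hbS) (e' ▸ hAS s hs'))
  obtain ⟨m, hm⟩ := h.not_normal
  obtain ⟨s0, hs0, hs0c⟩ := h.moved
  refine hm ?_
  by_cases hmc : Commute m c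
  · exact hnorm ⟨m, mem_cent.2 hmc⟩
  · have h1 := hnorm ⟨m * s0, mem_cent.2 (h.centralizer_index_two hmc fun e => hs0c e.symm)⟩
    have h2 := mul_mem h1 (inv_mem (le_normalizer hs0 : s0 ∈ normalizer ((S : Subgroup M) : Set M)))
    simpa using h2

end Mid

end Cfsg.Agent.RankOneInter
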