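import Cfsg.Agent.Lib.RankOneInter.Basic
import Cfsg.Agent.Lib.CyclicSylowInter.Outer.False

/-!
# The Sylow subgroups lie in a simple normal subgroup

If a simple normal subgroup `L` with cyclic intersections is centralised by no involution, and the
trace on `L` determines a Sylow subgroup, then `L` contains the Sylow 2-subgroups: an extension of
index two would have cyclic intersections.
-/

set_option autoImplicit false
set_option linter.style.haveILetI false
set_option linter.unusedSectionVars false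

namespace Cfsg.Agent.RankOneInter

open Subgroup
open scoped Pointwise
open Cfsg.Agent.ZStar.CyclicIntersections
open Cfsg.Agent.CyclicSylowInter

universe u

variable {Q : Type u} [Group Q] [Finite Q]

theorem mem_sylowIn {G : Type*} [Group G] [Finite G] {S : Sylow 2 G} {N : Subgroup G} [N.Normal]
    {l : ↥N} : l ∈ (sylowIn S N : Subgroup ↥N) ↔ (l : G) ∈ (S : Subgroup G) := by
  rw [coe_sylowIn, mem_subgroupOf]

theorem mem_mapSurjective {G H : Type*} [Group G] [Group H] [Finite G] {f : G →* H}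
    (hf : Function.Surjective f) (S : Sylow 2 G) {x : G} (hx : x ∈ (S : Subgroup G)) :
    f x ∈ (S.mapSurjective hf : Subgroup H) := by
  rw [Sylow.coe_mapSurjective]; exact mem_map_of_mem f hx

theorem sylow_le_of_traces (I : Inputs.{u}) (L : Subgroup Q) [L.Normal] [IsSimpleGroup ↥L]
    (hne : ¬ IsMulCommutative ↥L) (hC : CycInt ↥L)
    (hcent : ∀ g : Q, (∀ l ∈ L, Commute g l) → g * g = 1 → g = 1)
    (htr : ∀ S T : Sylow 2 Q, (S : Subgroup Q) ⊓ L = (T : Subgroup Q) ⊓ L → S = T)
    (hint : TISylow ↥L ∨ OneInv Q) (S : Sylow 2 Q) : (S : Subgroup Q) ≤ L := by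
  classical
  haveI := Fact.mk Nat.prime_two
  by_contra hS
  obtain ⟨s, hsS, hsL⟩ := SetLike.not_le_iff_exists.1 hS
  -- an element whose square lies in `L`
  obtain ⟨k, hk⟩ := S.isPGroup' ⟨s, hsS⟩
  have hex : ∃ j, s ^ (2 ^ j) ∈ L := ⟨k, by
    rw [show s ^ (2 ^ k) = 1 from congrArg Subtype.val hk]; exact one_mem L⟩
  set j := Nat.find hex with hj
  have hj0 : j ≠ 0 := fun e => hsL (by
    have := Nat.find_spec hex
    rwa [← hj, e, pow_zero, pow_one] at this)
  set x := s ^ (2 ^ (j - 1)) with hx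
  have hxL : x ∉ L := Nat.find_min hex (by omega)
  have hxx : x * x ∈ L := by
    rw [hx, ← pow_two, ← pow_mul, ← pow_succ, Nat.sub_add_cancel (Nat.pos_of_ne_zero hj0)]
    exact Nat.find_spec hex
  have hxS : x ∈ (S : Subgroup Q) := pow_mem hsS _
  -- the extension
  set M := L ⊔ zpowers x with hM
  have hLM : L ≤ M := le_sup_left
  have hxM : x ∈ M := mem_sup_right (mem_zpowers x)
  have hmem : ∀ m ∈ M, m ∈ L ∨ m * x⁻¹ ∈ L := by
    intro m hm
    obtain ⟨l, hl, y, hy, rfl⟩ := mem_sup_of_normal_left.1 hm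
    obtain ⟨a, rfl⟩ := mem_zpowers_iff.1 hy
    rcases Int.even_or_odd a with ⟨b, rfl⟩ | ⟨b, rfl⟩
    · left
      rw [← two_mul, zpow_mul]
      exact mul_mem hl (zpow_mem (by rwa [zpow_ofNat, pow_two]) b)
    · right
      rw [zpow_add_one, ← mul_assoc, mul_inv_cancel_right, zpow_mul]
      exact mul_mem hl (zpow_mem (by rwa [zpow_ofNat, pow_two]) b)
  set L' := L.subgroupOf M with hL'
  let e : ↥L' ≃* ↥L := subgroupOfEquivOfLe hLM
  haveI : IsSimpleGroup ↥L' := isSimpleGroup_congr e.symm
  have hne' : ¬ IsMulCommutative ↥L' := fun h => hne ⟨⟨fun a b => e.symm.injective (by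
    rw [map_mul, map_mul]; exact h.is_comm.comm _ _)⟩⟩
  have hLns : ¬ Group.IsSolvable ↥L := (reduced_of_simple hne hC).nonsolvable
  have h5 : Five ↥L := I.five ↥L hne hC
  -- intersections in the extension are cyclic
  have htrace : ∀ (U : Sylow 2 ↥M) (S' : Sylow 2 Q), (U : Subgroup ↥M).map M.subtype ≤ S' →
      (S' : Subgroup Q) ⊓ L = ((U : Subgroup ↥M) ⊓ L').map M.subtype := by
    intro U S' h
    refine le_antisymm ?_ ?_
    · rintro y ⟨hyS, hyL⟩
      have hle : (U : Subgroup ↥M) ≤ (S' : Subgroup Q).subgroupOf M :=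
        fun z hz => h (mem_map_of_mem _ hz)
      have heq := U.is_maximal' (S'.isPGroup'.comap_subtype (K := M)) hle
      exact ⟨⟨y, hLM hyL⟩, ⟨heq ▸ (show (⟨y, hLM hyL⟩ : ↥M) ∈ (S' : Subgroup Q).subgroupOf M
        from hyS), hyL⟩, rfl⟩
    · rintro _ ⟨y, ⟨hyU, hyL⟩, rfl⟩
      exact ⟨h (mem_map_of_mem _ hyU), hyL⟩
  have hCM : CycInt ↥M := by
    intro U V hUV
    obtain ⟨S₁, hS₁⟩ := (U.isPGroup'.map M.subtype).exists_le_sylow
    obtain ⟨T₁, hT₁⟩ := (V.isPGroup'.map M.subtype).exists_le_sylow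
    have hparts : (sylowIn U L') ≠ (sylowIn V L') := by
      intro h
      have h' : (U : Subgroup ↥M) ⊓ L' = (V : Subgroup ↥M) ⊓ L' := by
        have := congrArg (fun W : Sylow 2 ↥L' => (W : Subgroup ↥L').map L'.subtype) h
        simpa only [coe_sylowIn, subgroupOf_map_subtype] using this
      have hST : S₁ = T₁ := htr _ _ (by rw [htrace U S₁ hS₁, htrace V T₁ hT₁, h'])
      subst hST
      have key : ∀ W : Sylow 2 ↥M, (W : Subgroup ↥M).map M.subtype ≤ S₁ →
          (S₁ : Subgroup Q).subgroupOf M = (W : Subgroup ↥M) := fun W hW =>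
        W.is_maximal' S₁.isPGroup'.comap_subtype fun z hz => hW (mem_map_of_mem _ hz)
      exact hUV (Sylow.ext ((key U hS₁).symm.trans (key V hT₁)))
    set X := (U : Subgroup ↥M) ⊓ (V : Subgroup ↥M) with hX
    have hXp : IsPGroup 2 ↥X := U.isPGroup'.to_le inf_le_left
    set D := X ⊓ L' with hD
    have hDidx : ∀ y ∈ X, ∀ z ∈ X, y ∉ L' → z ∉ L' → y * z ∈ L' := by
      intro y _ z _ hy hz
      rcases hmem y y.2 with h1 | h1
      · exact absurd h1 hy
      rcases hmem z z.2 with h2 | h2
      · exact absurd h2 hz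
      show ((y * z : ↥M) : Q) ∈ L
      rw [Subgroup.coe_mul, show (y : Q) * (z : Q) =
        ((y : Q) * x⁻¹) * (x * ((z : Q) * x⁻¹) * x⁻¹) * (x * x) by group]
      exact mul_mem (mul_mem h1 ((inferInstance : L.Normal).conj_mem _ h2 x)) hxx
    -- the trace of the intersection on `L`
    have hDL : ∀ y ∈ D, ∀ z ∈ D, orderOf y = 2 → orderOf z = 2 → y = z := by
      intro y hy z hz hy2 hz2
      have hC' : CycInt ↥L' := by
        have := hC.map (f := e.symm.toMonoidHom) e.symm.surjective
        exact this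
      have := eq_of_cyclic (hC' _ _ hparts) (x := (⟨y, hy.2⟩ : ↥L')) (y := ⟨z, hz.2⟩)
        ⟨mem_sylowIn.2 hy.1.1, mem_sylowIn.2 hy.1.2⟩
        ⟨mem_sylowIn.2 hz.1.1, mem_sylowIn.2 hz.1.2⟩
        (by rwa [← Subgroup.orderOf_coe]) (by rwa [← Subgroup.orderOf_coe])
      exact congrArg Subtype.val this
    rcases hint with hti | hone
    · -- the trace is trivial
      have hD1 : ∀ y ∈ D, y = 1 := by
        intro y hy
        by_contra hy1
        obtain ⟨w, hw, hw2, -⟩ := exists_central_involution (Y := D) (hXp.to_le inf_le_left)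
          (fun h => hy1 (by rwa [h, mem_bot] at hy))
        have hti' : TISylow ↥L' := by
          intro A B a ha haA haB
          refine Sylow.ext ?_
          have := hti (A.mapSurjective (f := e.toMonoidHom) e.surjective)
            (B.mapSurjective (f := e.toMonoidHom) e.surjective) (e a) (by rw [MulEquiv.orderOf_eq, ha])
            (mem_mapSurjective _ A haA)
            (mem_mapSurjective _ B haB)
          have := congrArg (fun W : Sylow 2 ↥L => (W : Subgroup ↥L)) this
          exact map_injective (f := e.toMonoidHom) e.injective this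
        exact hparts (hti' _ _ ⟨w, hw.2⟩ (by rw [← Subgroup.orderOf_coe]; exact hw2)
          (mem_sylowIn.2 hw.1.1)
          (mem_sylowIn.2 hw.1.2))
      by_cases hall : ∀ y ∈ X, y ∈ L'
      · have : X = ⊥ := (eq_bot_iff_forall X).2 fun y hy => hD1 y ⟨hy, hall y hy⟩
        rw [this]; infer_instance
      push Not at hall
      obtain ⟨y₀, hy₀, hy₀L⟩ := hall
      refine ⟨⟨⟨y₀, hy₀⟩, fun ⟨y, hy⟩ => ?_⟩⟩
      by_cases hyL : y ∈ L'
      · exact ⟨0, Subtype.ext (by simp [hD1 y ⟨hy, hyL⟩])⟩
      · refine ⟨1, Subtype.ext ?_⟩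
        have h1 := hD1 _ ⟨mul_mem hy₀ hy, hDidx y₀ hy₀ y hy hy₀L hyL⟩
        have h2 := hD1 _ ⟨mul_mem hy₀ hy₀, hDidx y₀ hy₀ y₀ hy₀ hy₀L hy₀L⟩
        show ((⟨y₀, hy₀⟩ : ↥X) ^ (1 : ℤ) : ↥M) = y
        rw [zpow_one]
        exact mul_left_cancel (h2.trans h1.symm)
    · -- one involution
      have huniq : UniqueInv X := by
        intro a ha b hb ha2 hb2
        exact hone.subgroup M U V hUV a b ha.1 ha.2 hb.1 hb.2 ha2 hb2
      rcases huniq.isCyclic_or_quaternion hXp with h | ⟨n, ⟨q⟩⟩
      · exact h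
      exfalso
      -- a quaternion group has an element of order four inside `L`
      have h4 : ∃ y ∈ D, y * y ≠ 1 := by
        set a := q.symm (QuaternionGroup.a 1) with ha
        set b := q.symm (QuaternionGroup.xa 0) with hb
        have hord : ∀ c : ↥X, q c ≠ 1 → q c * q c ≠ 1 → (c : ↥M) * c ≠ 1 := by
          intro c _ h2 e2
          refine h2 ?_
          rw [← map_mul, ← map_one q]
          exact congrArg q (Subtype.ext e2)
        haveI : NeZero (2 * 2 ^ (n + 1)) := ⟨by positivity⟩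
        have hsq : ∀ i, (QuaternionGroup.xa i : QuaternionGroup (2 ^ (n + 1))) *
            QuaternionGroup.xa i ≠ 1 := by
          intro i h
          rw [QuaternionGroup.xa_mul_xa, QuaternionGroup.one_def, QuaternionGroup.a.injEq,
            add_sub_cancel_right, ZMod.natCast_eq_zero_iff] at h
          have := Nat.le_of_dvd (by positivity) h
          have h0 : 0 < 2 ^ (n + 1) := by positivity
          nlinarith
        have hne1 : ∀ i, (QuaternionGroup.xa i : QuaternionGroup (2 ^ (n + 1))) ≠ 1 := by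
          intro i h; rw [QuaternionGroup.one_def] at h; cases h
        have ha2 : (QuaternionGroup.a 1 : QuaternionGroup (2 ^ (n + 1))) * QuaternionGroup.a 1 ≠ 1 := by
          intro h
          rw [QuaternionGroup.a_mul_a, QuaternionGroup.one_def, QuaternionGroup.a.injEq,
            show (1 : ZMod (2 * 2 ^ (n + 1))) + 1 = ((2 : ℕ) : ZMod _) by norm_num,
            ZMod.natCast_eq_zero_iff] at h
          have := Nat.le_of_dvd two_pos h
          have : 2 ^ 1 ≤ 2 ^ (n + 1) := Nat.pow_le_pow_right two_pos (by omega)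
          omega
        by_cases h1 : (a : ↥M) ∈ L'
        · exact ⟨a, ⟨a.2, h1⟩, hord a (fun h => ha2 (by
            rw [ha, MulEquiv.apply_symm_apply] at h; rw [h, one_mul]))
            (by rw [ha, MulEquiv.apply_symm_apply]; exact ha2)⟩
        by_cases h2 : (b : ↥M) ∈ L'
        · exact ⟨b, ⟨b.2, h2⟩, hord b (by rw [hb, MulEquiv.apply_symm_apply]; exact hne1 0)
            (by rw [hb, MulEquiv.apply_symm_apply]; exact hsq 0)⟩
        refine ⟨(b * a : ↥X), ⟨(b * a).2, hDidx b b.2 a a.2 h2 h1⟩, hord (b * a) ?_ ?_⟩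
        · rw [map_mul, hb, ha, MulEquiv.apply_symm_apply, MulEquiv.apply_symm_apply,
            QuaternionGroup.xa_mul_a]
          exact hne1 _
        · rw [map_mul, hb, ha, MulEquiv.apply_symm_apply, MulEquiv.apply_symm_apply,
            QuaternionGroup.xa_mul_a]
          exact hsq _
      obtain ⟨y, ⟨hyX, hyL⟩, hy4⟩ := h4
      by_cases hti : TISylow ↥L
      · obtain ⟨W, hW⟩ := ((hXp.to_le (inf_le_left : D ≤ X)).map M.subtype).exists_le_sylow
        obtain ⟨n', i', d⟩ := (I.facts.1 ↥L (I.ti ↥L hne hC hti)).2.2 (sylowIn W L)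
        have h4' := d.sq_sq ⟨(y : Q), hyL⟩ (by
          rw [coe_sylowIn, mem_subgroupOf]; exact hW (mem_map_of_mem _ ⟨hyX, hyL⟩))
        -- the involution `y * y` lies in both traces
        have hy2 : orderOf (y * y) = 2 := orderOf_eq_prime (by
          rw [pow_two]; exact Subtype.ext (congrArg Subtype.val h4' :)) hy4
        refine hparts ?_
        have hti' := hti (sylowIn S₁ L) (sylowIn T₁ L) ⟨((y * y : ↥M) : Q), mul_mem hyL hyL⟩
          (by rw [← Subgroup.orderOf_coe, Subgroup.orderOf_coe (y * y : ↥M)]; exact hy2)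
          (by rw [coe_sylowIn, mem_subgroupOf]; exact hS₁ (mem_map_of_mem _ (mul_mem hyX.1 hyX.1)))
          (by rw [coe_sylowIn, mem_subgroupOf]; exact hT₁ (mem_map_of_mem _ (mul_mem hyX.2 hyX.2)))
        have h' : (S₁ : Subgroup Q) ⊓ L = (T₁ : Subgroup Q) ⊓ L := by
          have := congrArg (fun W : Sylow 2 ↥L => (W : Subgroup ↥L).map L.subtype) hti'
          simpa only [coe_sylowIn, subgroupOf_map_subtype] using this
        rw [htrace U S₁ hS₁, htrace V T₁ hT₁] at h'
        refine Sylow.ext ?_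
        rw [coe_sylowIn, coe_sylowIn, ← inf_subgroupOf_right, map_injective M.subtype_injective h',
          inf_subgroupOf_right]
      · obtain ⟨W, hW⟩ := ((hXp.to_le (inf_le_left : D ≤ X)).map M.subtype).exists_le_sylow
        have hmem' : (⟨(y : Q), hyL⟩ : ↥L) ∈ (sylowIn W L : Subgroup ↥L) := by
          rw [coe_sylowIn, mem_subgroupOf]; exact hW (mem_map_of_mem _ ⟨hyX, hyL⟩)
        exact hy4 (Subtype.ext (congrArg Subtype.val
          ((I.facts.2 ↥L h5).2 hti _ _ hmem' _ hmem').2 :))
  -- the extension is reduced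
  have hns' : ¬ Group.IsSolvable ↥L' := fun h => hLns (by
    haveI := h
    exact Group.isSolvable_of_surjective (f := e.toMonoidHom) e.surjective)
  have hred : Reduced ↥M := by
    refine ⟨fun h => hns' (by haveI := h; infer_instance), hCM, fun N hN hNs => ?_⟩
    haveI := hN
    have hdisj : L' ⊓ N = ⊥ := by
      haveI : (N.subgroupOf L').Normal := inferInstance
      rcases (inferInstance : (N.subgroupOf L').Normal).eq_bot_or_eq_top with h | h
      · rw [inf_comm, ← disjoint_iff]; exact subgroupOf_eq_bot.1 h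
      · haveI := hNs
        exact absurd (Group.isSolvable_of_isSolvable_injective
          (f := Subgroup.inclusion (subgroupOf_eq_top.1 h)) (inclusion_injective _)) hns'
    refine (Subgroup.eq_bot_iff_forall N).2 fun y hy => Subtype.ext ?_
    have hcomm : ∀ l ∈ L, Commute (y : Q) l := fun l hl =>
      (congrArg Subtype.val (Subgroup.commute_of_normal_of_disjoint L' N inferInstance hN
        (disjoint_iff.2 hdisj) ⟨l, hLM hl⟩ y hl hy).eq :).symm
    refine hcent y hcomm ?_
    have hyy : ((y * y : ↥M) : Q) ∈ L := by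
      rcases hmem y y.2 with h1 | h1
      · exact mul_mem h1 h1
      · rw [Subgroup.coe_mul, show (y : Q) * (y : Q) =
          ((y : Q) * x⁻¹) * (x * ((y : Q) * x⁻¹) * x⁻¹) * (x * x) by group]
        exact mul_mem (mul_mem h1 ((inferInstance : L.Normal).conj_mem _ h1 x)) hxx
    have h1 : (y * y) ∈ L' ⊓ N := ⟨hyy, mul_mem hy hy⟩
    rw [hdisj, mem_bot] at h1
    exact congrArg Subtype.val h1
  obtain ⟨W, hW⟩ := ((S.isPGroup'.to_le (zpowers_le.2 hxS)).comap_subtype (K := M)).exists_le_sylow
  have htop : L' ⊔ (W : Subgroup ↥M) = ⊤ := by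
    rw [eq_top_iff]
    rintro ⟨m, hm⟩ -
    rcases hmem m hm with h | h
    · exact mem_sup_left h
    · rw [show (⟨m, hm⟩ : ↥M) = ⟨m * x⁻¹, hLM h⟩ * ⟨x, hxM⟩ from
        Subtype.ext (by simp)]
      exact mul_mem (mem_sup_left h) (mem_sup_right (hW (mem_zpowers x)))
  exact hxL (sylow_le_socle I.facts I.ti hred hne' (Five.congr e.symm h5) W htop
    (hW (show (⟨x, hxM⟩ : ↥M) ∈ (zpowers x).subgroupOf M from mem_zpowers x)))

end Cfsg.Agent.RankOneInter
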