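import Cfsg.Agent.Lib.RankOneInter.MidCore
import Cfsg.Agent.Lib.RankOneInter.OddIndex
import Cfsg.Agent.Lib.CyclicSylowInter.CompExists

/-!
# The centraliser modulo its radical

The radical of the centraliser of `c` is a central cyclic 2-group times the odd core; modulo it the
centraliser has a simple normal subgroup of odd index in which every involution is the image of an
involution other than `z`, so lies in one Sylow subgroup; an involution of the quotient outside the
centraliser centralises this simple group.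
-/

set_option autoImplicit false
set_option linter.style.haveILetI false
set_option linter.unusedSectionVars false

namespace Cfsg.Agent.RankOneInter

open Subgroup
open scoped Pointwise commutatorElement
open Cfsg.Agent.ZStar.CyclicIntersections
open Cfsg.Agent.CyclicSylowInter

universe u

namespace Mid

variable {M : Type u} [Group M] [Finite M] {S : Sylow 2 M} {c z : M}

/-- The radical of the centraliser, as a subgroup of the group. -/
abbrev rad (c : M) : Subgroup M := (Cfsg.pPrimePCore 2 ↥(cy c)).map (cy c).subtype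

theorem rad_le : rad c ≤ cy c := map_subtype_le _

variable (h : Mid S c z)
include h

theorem rad_normal : (rad c).Normal := by
  haveI := h.cy_normal
  refine ⟨fun x hx g => ?_⟩
  obtain ⟨y, hy, rfl⟩ := hx
  set φ : ↥(cy c) ≃* ↥(cy c) := MulAut.conjNormal g with hφ
  haveI : ((Cfsg.pPrimePCore 2 ↥(cy c)).map φ.toMonoidHom).Normal :=
    (inferInstance : (Cfsg.pPrimePCore 2 ↥(cy c)).Normal).map _ φ.surjective
  have hle := le_pPrimePCore_of_solvable h.cycInt_cy h.nonsolvable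
    ((Cfsg.pPrimePCore 2 ↥(cy c)).map φ.toMonoidHom)
    (Coprime.isSolvable_map _ isSolvable_pPrimePCore)
  exact ⟨φ y, hle (mem_map_of_mem φ.toMonoidHom hy), MulAut.conjNormal_apply g y⟩

theorem exists_sylow_cy : ∃ A : Sylow 2 ↥(cy c),
    (A : Subgroup ↥(cy c)) = (S : Subgroup M).subgroupOf (cy c) := by
  obtain ⟨b, hbS, _, _, hb, _, hbc, -, -, -⟩ := h.pair
  obtain ⟨A, hA⟩ := (S.isPGroup'.comap_subtype (K := cy c)).exists_le_sylow
  obtain ⟨U, hU⟩ := (A.isPGroup'.map (cy c).subtype).exists_le_sylow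
  have hUS : U = S := h.eq_sylow hb (hU ⟨⟨b, mem_cent.2 hbc⟩, hA (mem_subgroupOf.2 hbS), rfl⟩) hbS
  exact ⟨A, le_antisymm (fun a ha => mem_subgroupOf.2 (hUS ▸ hU (mem_map_of_mem _ ha))) hA⟩

/-- The radical: a central element of the Sylow subgroup times an element of the odd core. -/
theorem rad_decomp {r : M} (hr : r ∈ rad c) :
    ∃ v o : M, v ∈ (S : Subgroup M) ∧ v ∈ rad c ∧ (∀ y, Commute y c → Commute y v) ∧
      o ∈ Cfsg.oddCore M ∧ r = v * o := by
  haveI := Fact.mk Nat.prime_two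
  obtain ⟨⟨r, hrc⟩, hr0, rfl⟩ := hr
  obtain ⟨A, hA⟩ := h.exists_sylow_cy
  let φ := QuotientGroup.mk' (Cfsg.oddCore ↥(cy c))
  have hrA : φ ⟨r, hrc⟩ ∈ (A.mapSurjective (f := φ) (QuotientGroup.mk'_surjective _) : Subgroup _) :=
    Agent.Cores.pCore_le_sylow _ hr0
  rw [Sylow.coe_mapSurjective] at hrA
  obtain ⟨a, ha, hae⟩ := hrA
  have ho : a⁻¹ * ⟨r, hrc⟩ ∈ Cfsg.oddCore ↥(cy c) := by
    rw [← QuotientGroup.eq_one_iff]
    change φ _ = 1
    rw [map_mul, map_inv, hae, inv_mul_cancel]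
  have ha0 : a ∈ Cfsg.pPrimePCore 2 ↥(cy c) := by
    rw [PLocal.Cores.mem_pPrimePCore_iff]
    change φ a ∈ _
    rw [hae]; exact hr0
  have haS : (a : M) ∈ (S : Subgroup M) := by rw [hA] at ha; exact ha
  refine ⟨a, ((a⁻¹ * ⟨r, hrc⟩ : ↥(cy c)) : M), haS, ⟨a, ha0, rfl⟩, fun y hy => ?_,
    h.core_cy_le (mem_map_of_mem _ ho), by simp⟩
  -- centrality
  let y' : ↥(cy c) := ⟨y, mem_cent.2 hy⟩
  have hcen := central_all _ _ le_rfl
    (not_isSolvable_quotient h.nonsolvable (Cfsg.oddCore ↥(cy c)) isSolvable_oddCore)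
    (h.cycInt_cy.map (QuotientGroup.mk'_surjective _)) (Agent.Cores.pPrimeCore_quotient_self 2) ha0
  have he : a⁻¹ * (y' * a * y'⁻¹) ∈ Cfsg.oddCore ↥(cy c) := by
    rw [← QuotientGroup.eq_one_iff]
    change φ _ = 1
    rw [map_mul, map_inv, map_mul, map_mul, map_inv, mem_center_iff.1 hcen (φ y'),
      mul_inv_cancel_right]
    exact inv_mul_cancel _
  have heM : (a : M)⁻¹ * (y * a * y⁻¹) ∈ Cfsg.oddCore M := h.core_cy_le (mem_map_of_mem _ he)
  obtain ⟨k, hk⟩ := S.isPGroup' ⟨(a : M), haS⟩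
  have hk' : (a : M) ^ (2 ^ k) = 1 := congrArg Subtype.val hk
  have h1 := eq_one_of_two_power_mul (h.core_comm _ heM _ haS).symm (k := k) (l := k) hk' (by
    rw [mul_inv_cancel_left, conj_pow, hk', mul_one, mul_inv_cancel]) (h.odd_orderOf heM)
  exact mul_inv_eq_iff_eq_mul.1 (inv_mul_eq_one.1 h1).symm

/-- The elements of the radical of 2-power order lie in every Sylow subgroup and are central. -/
theorem rad_two {r : M} (hr : r ∈ rad c) {k : ℕ} (hk : r ^ (2 ^ k) = 1) :
    (∀ T : Sylow 2 M, r ∈ (T : Subgroup M)) ∧ ∀ y, Commute y c → Commute y r := by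
  haveI := Fact.mk Nat.prime_two
  have key : ∀ {r : M}, r ∈ rad c → ∀ {k : ℕ}, r ^ (2 ^ k) = 1 →
      r ∈ (S : Subgroup M) ∧ ∀ y, Commute y c → Commute y r := by
    intro r hr k hk
    obtain ⟨v, o, hvS, -, hvc, ho, rfl⟩ := h.rad_decomp hr
    obtain ⟨j, hj⟩ := S.isPGroup' ⟨v, hvS⟩
    rw [eq_one_of_two_power_mul (h.core_comm o ho v hvS).symm (congrArg Subtype.val hj :) hk
      (h.odd_orderOf ho), mul_one]
    exact ⟨hvS, hvc⟩
  refine ⟨fun T => ?_, (key hr hk).2⟩
  obtain ⟨g, hg⟩ := MulAction.exists_smul_eq M S T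
  rw [← hg, mem_smul]
  have h1 := h.rad_normal.conj_mem r hr g⁻¹
  rw [inv_inv] at h1
  refine (key h1 (k := k) ?_).1
  rw [show g⁻¹ * r * g = g⁻¹ * r * (g⁻¹)⁻¹ by rw [inv_inv], conj_pow, hk, mul_one, mul_inv_cancel]

theorem rad_cyclic : IsCyclic ↥((S : Subgroup M) ⊓ rad c) := by
  haveI := Fact.mk Nat.prime_two
  obtain ⟨A, hA⟩ := h.exists_sylow_cy
  haveI := isCyclic_inf_pPrimePCore h.cycInt_cy h.nonsolvable A
  have e : ((A : Subgroup ↥(cy c)) ⊓ Cfsg.pPrimePCore 2 ↥(cy c)).map (cy c).subtype =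
      (S : Subgroup M) ⊓ rad c := by
    refine le_antisymm ?_ ?_
    · rintro _ ⟨a, ⟨ha, ha'⟩, rfl⟩
      rw [hA] at ha
      exact ⟨ha, a, ha', rfl⟩
    · rintro x ⟨hx, a, ha, rfl⟩
      exact ⟨a, ⟨by rw [hA]; exact hx, ha⟩, rfl⟩
  rw [← e]
  exact isCyclic_of_surjective _ ((cy c).subtype.subgroupMap_surjective _)

theorem c_mem_rad : c ∈ rad c := by
  refine ⟨⟨c, mem_cent.2 (Commute.refl c)⟩, ?_, rfl⟩
  haveI : (zpowers (⟨c, mem_cent.2 (Commute.refl c)⟩ : ↥(cy c))).Normal := ⟨fun n hn g => by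
    obtain ⟨j, rfl⟩ := mem_zpowers_iff.1 hn
    rw [((show Commute g ⟨c, mem_cent.2 (Commute.refl c)⟩ from
      Subtype.ext (mem_cent.1 g.2).eq).zpow_right j).eq, mul_inv_cancel_right]
    exact zpow_mem (mem_zpowers _) j⟩
  exact le_pPrimePCore_of_solvable h.cycInt_cy h.nonsolvable (zpowers _)
    (Group.isSolvable_of_comm fun a b => Subtype.ext (by
      obtain ⟨i, hi⟩ := mem_zpowers_iff.1 a.2
      obtain ⟨j, hj⟩ := mem_zpowers_iff.1 b.2
      rw [Subgroup.coe_mul, Subgroup.coe_mul, ← hi, ← hj]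
      exact (Commute.zpow_zpow_self _ i j).eq)) (mem_zpowers _)

theorem z_mem_rad : z ∈ rad c := h.sq ▸ mul_mem h.c_mem_rad h.c_mem_rad

/-- An element of 2-power order whose image lies in the image of a Sylow subgroup lies in it. -/
theorem mem_of_map {T : Sylow 2 M} {x : M} {k : ℕ} (hk : x ^ (2 ^ k) = 1)
    (hx : ∃ t ∈ (T : Subgroup M), t⁻¹ * x ∈ rad c) : x ∈ (T : Subgroup M) := by
  haveI := Fact.mk Nat.prime_two
  obtain ⟨t, ht, hr⟩ := hx
  obtain ⟨v, o, hvS, hv, -, ho, e⟩ := h.rad_decomp hr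
  obtain ⟨j, hj⟩ := S.isPGroup' ⟨v, hvS⟩
  have hvT := (h.rad_two hv (k := j) (congrArg Subtype.val hj :)).1 T
  have hx' : x = t * v * o := by rw [mul_assoc, ← e, mul_inv_cancel_left]
  obtain ⟨i, hi⟩ := T.isPGroup' ⟨t * v, mul_mem ht hvT⟩
  rw [hx'] at hk ⊢
  rw [eq_one_of_two_power_mul (h.core_comm_all ho (mul_mem ht hvT)).symm
    (congrArg Subtype.val hi :) hk (h.odd_orderOf ho), mul_one]
  exact mul_mem ht hvT

theorem extra_not_rad {b : M} (hb : IsExtra z b) (hbS : b ∈ (S : Subgroup M)) : b ∉ rad c := fun hr =>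
  hb.2 (eq_of_cyclic h.rad_cyclic ⟨hbS, hr⟩ ⟨h.z_mem S, h.z_mem_rad⟩ hb.1 h.two)

end Mid

/-- The quotient by the radical: a simple normal subgroup `L` of odd index in the image of the
centraliser, with one Sylow subgroup on each involution, and an outer involution `g` centralising
it. -/
structure MidTop {M : Type u} [Group M] [Finite M] (S : Sylow 2 M) (c z : M)
    [(Mid.rad c).Normal] (L : Subgroup (M ⧸ Mid.rad c)) (g : M ⧸ Mid.rad c) : Prop where
  normal : L.Normal
  le : L ≤ (Mid.cy c).map (QuotientGroup.mk' (Mid.rad c))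
  simple : IsSimpleGroup ↥L
  noncomm : ¬ IsMulCommutative ↥L
  kind : KindTI ↥L
  two_le : ∀ (T : Sylow 2 M), ∀ t ∈ (T : Subgroup M), Commute t c →
    QuotientGroup.mk' (Mid.rad c) t ∈ L
  g_out : g ∉ (Mid.cy c).map (QuotientGroup.mk' (Mid.rad c))
  g_cent : ∀ l ∈ L, Commute g l
  g_sq : g * g = 1
  cent : ∀ y ∈ (Mid.cy c).map (QuotientGroup.mk' (Mid.rad c)), (∀ l ∈ L, Commute y l) → y = 1

namespace Mid

variable {M : Type u} [Group M] [Finite M] {S : Sylow 2 M} {c z : M} (h : Mid S c z)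
include h

theorem exists_top (I : Inputs.{u}) [(rad c).Normal] : ∃ L g, MidTop S c z L g := by
  classical
  haveI := Fact.mk Nat.prime_two
  haveI := h.cy_normal
  set ρ := QuotientGroup.mk' (rad c) with hρ
  have hρs : Function.Surjective ρ := QuotientGroup.mk'_surjective _
  set Yq := (cy c).map ρ with hYq
  haveI : Yq.Normal := h.cy_normal.map _ hρs
  -- the image of the centraliser is reduced
  have hf : Function.Surjective (ρ.subgroupMap (cy c)) := MonoidHom.subgroupMap_surjective ρ _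
  have hker : (ρ.subgroupMap (cy c)).ker = Cfsg.pPrimePCore 2 ↥(cy c) := by
    ext y
    rw [MonoidHom.mem_ker]
    constructor
    · intro hy
      obtain ⟨r, hr, e⟩ := (QuotientGroup.eq_one_iff _).1 (congrArg Subtype.val hy :)
      exact (Subtype.ext e : r = y) ▸ hr
    · intro hy
      exact Subtype.ext ((QuotientGroup.eq_one_iff _).2 ⟨y, hy, rfl⟩)
  haveI : Group.IsSolvable ↥(Cfsg.pPrimePCore 2 ↥(cy c)) := isSolvable_pPrimePCore
  have hR : Reduced ↥Yq := by
    have hred := reduced_quotient h.nonsolvable h.cycInt_cy (Cfsg.pPrimePCore 2 ↥(cy c))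
      isSolvable_pPrimePCore fun N hN hs => haveI := hN;
        le_pPrimePCore_of_solvable h.cycInt_cy h.nonsolvable N hs
    let e : ↥(cy c) ⧸ Cfsg.pPrimePCore 2 ↥(cy c) ≃* ↥Yq :=
      (QuotientGroup.quotientMulEquivOfEq hker.symm).trans
        (QuotientGroup.quotientKerEquivOfSurjective _ hf)
    refine ⟨fun hs => hred.nonsolvable (by
        haveI := hs
        exact Group.isSolvable_of_surjective (f := e.symm.toMonoidHom) e.symm.surjective),
      hred.cycInt.map (f := e.toMonoidHom) e.surjective, fun N hN hs => ?_⟩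
    haveI := hN
    have h1 := hred.noSolv (N.map e.symm.toMonoidHom) (hN.map _ e.symm.surjective)
      (Coprime.isSolvable_map _ hs)
    exact (Subgroup.map_eq_bot_iff_of_injective _ e.symm.injective).1 h1
  obtain ⟨L1, hL1n, hL1s, hL1ne, hL1c⟩ := exists_socle hR
  haveI := hL1n
  haveI := hL1s
  have h5 : Five ↥L1 := I.five _ hL1ne (hR.cycInt.subgroup L1)
  have hodd := odd_index_socle I.facts I.ti hR L1 hL1ne h5
  set L := L1.map Yq.subtype with hLdef
  have hLle : L ≤ Yq := map_subtype_le _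
  let eL : ↥L1 ≃* ↥L := L1.equivMapOfInjective _ Yq.subtype_injective
  haveI hLs : IsSimpleGroup ↥L := isSimpleGroup_congr eL
  have hLne : ¬ IsMulCommutative ↥L := fun hc => hL1ne ⟨⟨fun a b => eL.injective (by
    rw [map_mul, map_mul]; exact hc.is_comm.comm _ _)⟩⟩
  have h5L : Five ↥L := Five.congr eL h5
  haveI hLn : L.Normal := by
    refine ⟨fun x hx a => ?_⟩
    obtain ⟨x, hx1, rfl⟩ := hx
    let φ : ↥Yq ≃* ↥Yq := MulAut.conjNormal a
    haveI : (L1.map φ.toMonoidHom).Normal := hL1n.map _ φ.surjective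
    have hle : L1.map φ.toMonoidHom ≤ L1 := by
      by_contra hn
      haveI : IsSimpleGroup ↥(L1.map φ.toMonoidHom) :=
        isSimpleGroup_congr (L1.equivMapOfInjective _ φ.injective)
      rcases (inferInstance : (L1.subgroupOf (L1.map φ.toMonoidHom)).Normal).eq_bot_or_eq_top with
        e | e
      · have hd : Disjoint L1 (L1.map φ.toMonoidHom) := by
          rw [disjoint_iff, ← subgroupOf_map_subtype, e, Subgroup.map_bot]
        refine hn fun w hw => ?_
        rw [hL1c w fun l hl => (commute_of_normal_of_disjoint L1 _ hL1n inferInstance hd l w hl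
          hw).symm]
        exact one_mem L1
      · exact hn (subgroupOf_eq_top.1 e)
    exact ⟨φ x, hle (mem_map_of_mem φ.toMonoidHom hx1), MulAut.conjNormal_apply a x⟩
  have hcent : ∀ y ∈ Yq, (∀ l ∈ L, Commute y l) → y = 1 := fun y hy hyc =>
    congrArg Subtype.val (hL1c ⟨y, hy⟩ fun l hl => Subtype.ext (hyc _ (mem_map_of_mem _ hl)).eq)
  have h2le : ∀ (T : Sylow 2 M), ∀ t ∈ (T : Subgroup M), Commute t c → ρ t ∈ L := by
    intro T t ht htc
    have h1 := CyclicSylowInter.le_of_odd_index L1 hodd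
      (((T.isPGroup'.to_le (zpowers_le.2 ht)).map ρ).comap_subtype (K := Yq))
      (x := ⟨ρ t, mem_map_of_mem ρ (mem_cent.2 htc)⟩) (mem_map_of_mem ρ (mem_zpowers t))
    exact ⟨_, h1, rfl⟩
  -- involutions of `L` come from involutions other than `z`
  obtain ⟨b, hbS, _, _, hb, _, hbc, -, -, -⟩ := h.pair
  have hbL : orderOf (⟨ρ b, h2le S b hbS hbc⟩ : ↥L) = 2 := by
    refine Involutions.Basic.orderOf_two_iff.2 ⟨Subtype.ext ?_, fun e => ?_⟩
    · show ρ b * ρ b = 1
      rw [← map_mul, mul_self_of_orderOf hb.1, map_one]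
    · exact h.extra_not_rad hb hbS ((QuotientGroup.eq_one_iff b).1 (congrArg Subtype.val e :))
  have hlift : ∀ l : ↥L, orderOf l = 2 → ∃ a, IsExtra z a ∧ ρ a = l := by
    intro l hl
    obtain ⟨d, hd⟩ := isConj_iff.1 ((I.facts.2 _ h5L).1 _ l hbL hl)
    obtain ⟨a, ha⟩ := hρs (d : M ⧸ rad c)
    exact ⟨a * b * a⁻¹, h.isExtra_conj hb a, by rw [map_mul, map_mul, map_inv, ha, ← hd]; rfl⟩
  have huniq : ∀ (U V : Sylow 2 (M ⧸ rad c)) (l : ↥L), orderOf l = 2 → (l : M ⧸ rad c) ∈ (U : Subgroup _) →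
      (l : M ⧸ rad c) ∈ (V : Subgroup _) → U = V := by
    intro U V l hl hU hV
    obtain ⟨a, ha, hal⟩ := hlift l hl
    obtain ⟨T₁, -, hT₁⟩ := exists_sylow_lift hρs U (D₀ := ⊥) IsPGroup.of_bot bot_le
    obtain ⟨T₂, -, hT₂⟩ := exists_sylow_lift hρs V (D₀ := ⊥) IsPGroup.of_bot bot_le
    have hmem : ∀ T : Sylow 2 M, (l : M ⧸ rad c) ∈ (T : Subgroup M).map ρ → a ∈ (T : Subgroup M) := by
      rintro T ⟨t, ht, e⟩
      refine h.mem_of_map (k := 1) ?_ ⟨t, ht, ?_⟩
      · rw [pow_one, pow_two, mul_self_of_orderOf ha.1]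
      · rw [← QuotientGroup.eq_one_iff]
        change ρ _ = 1
        rw [map_mul, map_inv, hal, e, inv_mul_cancel]
    refine Sylow.ext ?_
    rw [← hT₁, ← hT₂, h.eq_sylow ha (hmem T₁ (hT₁ ▸ hU)) (hmem T₂ (hT₂ ▸ hV))]
  have hti : TISylow ↥L := by
    intro A B l hl hA hB
    obtain ⟨U, hU⟩ := (A.isPGroup'.map L.subtype).exists_le_sylow
    obtain ⟨V, hV⟩ := (B.isPGroup'.map L.subtype).exists_le_sylow
    have hUV := huniq U V l hl (hU (mem_map_of_mem _ hA)) (hV (mem_map_of_mem _ hB))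
    subst hUV
    exact Sylow.ext ((A.is_maximal' U.isPGroup'.comap_subtype fun x hx => hU (mem_map_of_mem _ hx)).symm.trans
      (B.is_maximal' U.isPGroup'.comap_subtype fun x hx => hV (mem_map_of_mem _ hx)))
  have hC : CycInt ↥L := fun A B hne => by
    have : (A : Subgroup ↥L) ⊓ B = ⊥ := by
      by_contra hX
      obtain ⟨w, hw, hw2, -⟩ := exists_central_involution (Y := (A : Subgroup ↥L) ⊓ B)
        (A.isPGroup'.to_le inf_le_left) hX
      exact hne (hti A B w hw2 hw.1 hw.2)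
    rw [this]; infer_instance
  obtain ⟨g, hgc, hg2, hgY⟩ :
      ∃ g : M ⧸ rad c, (∀ l ∈ L, Commute g l) ∧ g * g = 1 ∧ g ∉ Yq := by
    by_contra hno
    simp only [not_exists, not_and, not_not] at hno
    obtain ⟨s, hs, hsc⟩ := h.moved
    have hle := sylow_le_of_traces I L hLne hC (fun a ha ha2 => hcent a (hno a ha ha2) ha) ?_
      (Or.inl hti) (S.mapSurjective hρs)
    · obtain ⟨y, hy, e⟩ := hLle (hle (mem_mapSurjective hρs S hs))
      have hr : y⁻¹ * s ∈ rad c := by
        rw [← QuotientGroup.eq_one_iff]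
        change ρ _ = 1
        rw [map_mul, map_inv, e, inv_mul_cancel]
      have hs' := mul_mem hy (rad_le hr)
      rw [mul_inv_cancel_left] at hs'
      exact hsc (mem_cent.1 hs').symm
    · intro U V hUV
      obtain ⟨l, hl, hl2, -⟩ := exists_central_involution (sylowIn U L).isPGroup'
        ((reduced_of_simple hLne hC).sylow_ne_bot _)
      refine huniq U V l hl2 (mem_sylowIn.1 hl) ?_
      exact (hUV ▸ (⟨mem_sylowIn.1 hl, l.2⟩ : (l : M ⧸ rad c) ∈ (U : Subgroup _) ⊓ L) :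
        (l : M ⧸ rad c) ∈ (V : Subgroup _) ⊓ L).1
  exact ⟨L, g, ⟨hLn, hLle, hLs, hLne, I.ti _ hLne hC hti, h2le, hgY, hgc, hg2, hcent⟩⟩

end Mid

end Cfsg.Agent.RankOneInter
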