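import Cfsg.Agent.Lib.RankOneInter.Comps
import Cfsg.Agent.Lib.RankOneInter.OddIndex

/-!
# One component: its image modulo the 2-core

The image is simple; if its involutions lift to involutions and the 2-core is nontrivial, every
involution of it lies in one Sylow subgroup, and the Sylow 2-subgroups of the group lie in the
product of the 2-core and the component.
-/

set_option autoImplicit false
set_option linter.style.haveILetI false
set_option linter.unusedSectionVars false

namespace Cfsg.Agent.RankOneInter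

open Subgroup
open scoped Pointwise
open Cfsg.Agent.ZStar.CyclicIntersections
open Cfsg.Agent.CyclicSylowInter

universe u

/-- A perfect subgroup normalised by `g` with central commutators is centralised by `g`. -/
theorem commute_of_central_commutators {G : Type*} [Group G] {K : Subgroup G}
    (hK : Group.IsPerfect ↥K) {g : G} {Z : Subgroup G}
    (hZ : ∀ z ∈ Z, ∀ k ∈ K, Commute z k) (hg : ∀ k ∈ K, g * k * g⁻¹ * k⁻¹ ∈ Z)
    (hZK : ∀ k ∈ K, g * k * g⁻¹ * k⁻¹ ∈ K) : ∀ k ∈ K, Commute g k := by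
  let c : ↥K → ↥K := fun k => ⟨g * k * g⁻¹ * (k : G)⁻¹, hZK k k.2⟩
  have hc : ∀ k : ↥K, c k ∈ center ↥K := fun k => mem_center_iff.2 fun a =>
    Subtype.ext (hZ _ (hg k k.2) a a.2).eq.symm
  let f : ↥K →* center ↥K :=
    { toFun := fun k => ⟨c k, hc k⟩
      map_one' := Subtype.ext (Subtype.ext (by simp [c]))
      map_mul' := fun a b => Subtype.ext (Subtype.ext (by
        show g * ((a : G) * b) * g⁻¹ * ((a : G) * b)⁻¹ =
          g * a * g⁻¹ * (a : G)⁻¹ * (g * b * g⁻¹ * (b : G)⁻¹)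
        have h := (hZ _ (hg b b.2) _ (inv_mem a.2)).eq
        rw [mul_assoc (g * (a : G) * g⁻¹) (a : G)⁻¹, ← h]
        group)) }
  intro k hk
  have hker : commutator ↥K ≤ f.ker := by
    rw [commutator_eq_closure, closure_le]
    rintro _ ⟨a, b, rfl⟩
    rw [SetLike.mem_coe, MonoidHom.mem_ker, commutatorElement_def, map_mul, map_mul, map_mul,
      map_inv, map_inv]
    have hab : Commute (f a) (f b) :=
      Subtype.ext (mem_center_iff.1 (f b).2 (f a))
    rw [hab.eq]
    group
  rw [hK.commutator_eq_top] at hker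
  have h1 := congrArg (fun z : ↥(center ↥K) => ((z : ↥K) : G))
    (MonoidHom.mem_ker.1 (hker (mem_top ⟨k, hk⟩)))
  exact mul_inv_eq_iff_eq_mul.1 (mul_inv_eq_one.1 h1)

variable {G : Type u} [Group G] [Finite G]

/-- The standing hypotheses with exactly one component. -/
structure One (G : Type u) [Group G] [Finite G] (K : Subgroup G) : Prop where
  hyp : Hyp G
  comp : Cfsg.IsComponent K
  unique : ∀ L : Subgroup G, Cfsg.IsComponent L → L = K

variable {K : Subgroup G}

/-- The quotient map by the 2-core. -/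
abbrev pr : G →* G ⧸ Cfsg.pCore 2 G := QuotientGroup.mk' (Cfsg.pCore 2 G)

theorem pr_eq_one {g : G} : pr g = 1 ↔ g ∈ Cfsg.pCore 2 G := QuotientGroup.eq_one_iff g

/-- Every involution of the image of the component is the image of an involution. -/
def AllLift (K : Subgroup G) : Prop :=
  ∀ k ∈ K, k ∉ Cfsg.pCore 2 G → k * k ∈ Cfsg.pCore 2 G →
    ∃ x : G, orderOf x = 2 ∧ pr x = pr k

namespace One

variable (hK : One G K)
include hK

theorem normal : K.Normal := normal_of_unique hK.comp hK.unique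

theorem perfect : Group.IsPerfect ↥K := hK.comp.2.1

theorem commute_core {k p : G} (hk : k ∈ K) (hp : p ∈ Cfsg.pCore 2 G) : Commute k p :=
  component_commute_pCore hK.comp k hk p hp

theorem mem_core_of_commute {g : G} (hP : ∀ p ∈ Cfsg.pCore 2 G, Commute g p)
    (hgK : ∀ k ∈ K, Commute g k) : g ∈ Cfsg.pCore 2 G :=
  hK.hyp.mem_pCore_of_commute hP fun L hL k hk => hgK k (hK.unique L hL ▸ hk)

theorem normal_map : (K.map pr).Normal :=
  hK.normal.map _ (QuotientGroup.mk'_surjective _)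

theorem ker_eq : ((pr : G →* _).subgroupMap K).ker = center ↥K := by
  ext k
  rw [MonoidHom.mem_ker]
  constructor
  · intro h
    exact mem_center_iff.2 fun a => Subtype.ext
      (hK.commute_core a.2 (pr_eq_one.1 (congrArg Subtype.val h))).eq
  · intro h
    exact Subtype.ext (pr_eq_one.2 (hK.hyp.mem_pCore_of_central hK.comp k.2 fun a ha =>
      (congrArg Subtype.val (mem_center_iff.1 h ⟨a, ha⟩) : a * (k : G) = k * a).symm))

/-- The image of the component is the simple group `K / Z(K)`. -/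
noncomputable def mapEquiv : ↥(K.map pr) ≃* ↥K ⧸ center ↥K :=
  ((QuotientGroup.quotientMulEquivOfEq hK.ker_eq.symm).trans
    (QuotientGroup.quotientKerEquivOfSurjective _ (MonoidHom.subgroupMap_surjective _ K))).symm

theorem simple : IsSimpleGroup ↥(K.map pr) := by
  haveI := hK.comp.2.2
  exact isSimpleGroup_congr hK.mapEquiv.symm

theorem noncomm : ¬ IsMulCommutative ↥(K.map pr) := by
  intro h
  haveI := hK.comp.2.2
  haveI := hK.perfect
  haveI : Group.IsSolvable (↥K ⧸ center ↥K) := Group.isSolvable_of_comm fun a b =>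
    hK.mapEquiv.symm.injective (by rw [map_mul, map_mul]; exact h.is_comm.comm _ _)
  exact Components.Basic.quasisimple_not_isSolvable hK.comp.2
    (ZStar.CyclicIntersections.isSolvable_ext (center ↥K)
      (Group.isSolvable_of_comm fun a b => Subtype.ext (mem_center_iff.1 b.2 a)) inferInstance)

theorem exists_involution (T : Sylow 2 ↥(K.map pr)) :
    ∃ l ∈ (T : Subgroup ↥(K.map pr)), orderOf l = 2 := by
  haveI := Fact.mk Nat.prime_two
  haveI := hK.simple
  by_cases hne : (T : Subgroup ↥(K.map pr)) = ⊥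
  · exfalso
    have hodd : Odd (Nat.card ↥(K.map pr)) := by
      rw [Nat.odd_iff, ← Nat.two_dvd_ne_zero, ← index_bot, ← hne]
      exact T.not_dvd_index
    haveI := S0205.result hodd
    exact hK.noncomm ⟨⟨fun a b => IsSimpleGroup.comm_iff_isSolvable.2 inferInstance a b⟩⟩
  · obtain ⟨l, hl, hl2, -⟩ := exists_central_involution T.isPGroup' hne
    exact ⟨l, hl, hl2⟩

/-- An element centralising the component modulo the 2-core centralises it. -/
theorem commute_of_pr {g : G} (h : ∀ l ∈ K.map pr, Commute (pr g) l) : ∀ k ∈ K, Commute g k := by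
  haveI := hK.normal
  have hmem : ∀ k ∈ K, g * k * g⁻¹ * k⁻¹ ∈ K := fun k hk =>
    mul_mem (hK.normal.conj_mem k hk g) (inv_mem hk)
  refine commute_of_central_commutators hK.perfect (Z := K ⊓ Cfsg.pCore 2 G)
    (fun z hz k hk => (hK.commute_core hk hz.2).symm) (fun k hk => ⟨hmem k hk, ?_⟩) hmem
  show g * k * g⁻¹ * k⁻¹ ∈ Cfsg.pCore 2 G
  rw [← pr_eq_one, map_mul, map_mul, map_mul, map_inv, map_inv,
    (h _ (mem_map_of_mem _ hk)).eq, mul_inv_cancel_right, mul_inv_cancel]

/-- If the 2-core is nontrivial and the involutions lift, an involution of the image and the central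
involution determine a Sylow subgroup. -/
theorem sylow_eq_of_lift (hP : Cfsg.pCore 2 G ≠ ⊥) (hA : AllLift K) {S T : Sylow 2 G} {k : G}
    (hk : k ∈ K) (hkP : k ∉ Cfsg.pCore 2 G) (hk2 : k * k ∈ Cfsg.pCore 2 G)
    (hS : k ∈ (S : Subgroup G)) (hT : k ∈ (T : Subgroup G)) : S = T := by
  obtain ⟨z, hz, hz2, -⟩ := exists_central_involution
    (Agent.Cores.pCore_isPGroup (G := G) 2) hP
  obtain ⟨x, hx2, hx⟩ := hA k hk hkP hk2
  have hmem : ∀ U : Sylow 2 G, k ∈ (U : Subgroup G) → x ∈ (U : Subgroup G) ∧ z ∈ (U : Subgroup G) := by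
    intro U hU
    refine ⟨?_, Agent.Cores.pCore_le_sylow U hz⟩
    have h1 : k⁻¹ * x ∈ Cfsg.pCore 2 G := by
      rw [← pr_eq_one, map_mul, map_inv, hx, inv_mul_cancel]
    have := mul_mem hU (Agent.Cores.pCore_le_sylow U h1)
    rwa [mul_inv_cancel_left] at this
  refine hK.hyp.inter.eq_of_two (hmem S hS).1 (hmem T hT).1 (hmem S hS).2 (hmem T hT).2 hx2 hz2 ?_
  rintro rfl
  exact hkP (pr_eq_one.1 (hx ▸ pr_eq_one.2 hz))

/-- Sylow subgroups of the image lift. -/
theorem exists_lift_sylow (T : Sylow 2 ↥(K.map pr)) :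
    ∃ S : Sylow 2 G, ∀ l ∈ (T : Subgroup ↥(K.map pr)),
      (l : G ⧸ Cfsg.pCore 2 G) ∈ (S : Subgroup G).map pr := by
  haveI := hK.normal_map
  obtain ⟨U, hU⟩ := (T.isPGroup'.map (K.map pr).subtype).exists_le_sylow
  obtain ⟨S, -, hS⟩ := exists_sylow_lift (QuotientGroup.mk'_surjective _) U (D₀ := ⊥)
    IsPGroup.of_bot bot_le
  exact ⟨S, fun l hl => by
    show (l : G ⧸ Cfsg.pCore 2 G) ∈ _
    rw [hS]; exact hU (mem_map_of_mem _ hl)⟩

/-- Involutions lifting, every involution of the image lies in one Sylow subgroup. -/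
theorem tiSylow (hP : Cfsg.pCore 2 G ≠ ⊥) (hA : AllLift K) : TISylow ↥(K.map pr) := by
  haveI := hK.normal_map
  intro A B l hl hlA hlB
  obtain ⟨S, hS⟩ := hK.exists_lift_sylow A
  obtain ⟨T, hT⟩ := hK.exists_lift_sylow B
  obtain ⟨k, hk, hkl⟩ := l.2
  have hmem : ∀ U : Sylow 2 G, (l : G ⧸ Cfsg.pCore 2 G) ∈ (U : Subgroup G).map pr →
      k ∈ (U : Subgroup G) := by
    intro U h
    obtain ⟨s, hs, e⟩ := h
    have h1 : s⁻¹ * k ∈ Cfsg.pCore 2 G := by
      rw [← pr_eq_one, map_mul, map_inv, hkl, e, inv_mul_cancel]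
    have := mul_mem hs (Agent.Cores.pCore_le_sylow U h1)
    rwa [mul_inv_cancel_left] at this
  have hkP : k ∉ Cfsg.pCore 2 G := fun h => Involutions.Basic.ne_one hl
    (Subtype.ext (hkl.symm.trans (pr_eq_one.2 h)))
  have hk2 : k * k ∈ Cfsg.pCore 2 G := by
    rw [← pr_eq_one, map_mul, hkl]
    exact congrArg Subtype.val (Involutions.Basic.inv_sq_one hl :)
  have hST := hK.sylow_eq_of_lift hP hA hk hkP hk2 (hmem S (hS l hlA)) (hmem T (hT l hlB))
  subst hST
  have key : ∀ C : Sylow 2 ↥(K.map pr), (∀ c ∈ (C : Subgroup ↥(K.map pr)),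
      (c : G ⧸ Cfsg.pCore 2 G) ∈ (S : Subgroup G).map pr) →
      ((S : Subgroup G).map pr).subgroupOf (K.map pr) = (C : Subgroup ↥(K.map pr)) := fun C hC =>
    C.is_maximal' (S.isPGroup'.map pr).comap_subtype hC
  exact Sylow.ext ((key A hS).symm.trans (key B hT))

/-- An involution centralising the image is trivial, for a nontrivial 2-core. -/
theorem centralizer_image (hP : Cfsg.pCore 2 G ≠ ⊥) (hA : AllLift K)
    {c : G ⧸ Cfsg.pCore 2 G} (h : ∀ l ∈ K.map pr, Commute c l) (h2 : c * c = 1) : c = 1 := by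
  classical
  haveI := Fact.mk Nat.prime_two
  haveI := hK.normal
  obtain ⟨g, rfl⟩ := QuotientGroup.mk'_surjective _ c
  refine pr_eq_one.2 ?_
  by_contra hgP
  have hgK : g ∈ centralizer (K : Set G) :=
    mem_centralizer_iff.2 fun k hk => (hK.commute_of_pr h k hk).eq.symm
  set C := centralizer (K : Set G) with hC
  haveI : C.Normal := inferInstance
  have hPC : Cfsg.pCore 2 G ≤ C := fun p hp =>
    mem_centralizer_iff.2 fun k hk => (hK.commute_core hk hp).eq
  have hg2 : g * g ∈ Cfsg.pCore 2 G := pr_eq_one.1 (by rw [map_mul]; exact h2)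
  -- a Sylow subgroup of the centraliser containing `g`
  have hgp : IsPGroup 2 ↥(zpowers g) := by
    obtain ⟨j, hj⟩ := Agent.Cores.pCore_isPGroup (G := G) 2 ⟨g * g, hg2⟩
    refine IsPGroup.of_card (n := ?_) ?_ |>.to_le le_rfl
    · exact (orderOf g).factorization 2
    · rw [Nat.card_zpowers]
      have hpow : g ^ (2 ^ (j + 1)) = 1 := by
        rw [pow_succ', pow_mul, pow_two]
        exact congrArg Subtype.val hj
      obtain ⟨i, -, hi⟩ := (Nat.dvd_prime_pow Nat.prime_two).1 (orderOf_dvd_of_pow_eq_one hpow)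
      rw [hi, Nat.Prime.factorization_pow Nat.prime_two, Finsupp.single_eq_same]
  obtain ⟨R, hR⟩ := (hgp.comap_subtype (K := C)).exists_le_sylow
  by_cases hn : (R : Subgroup ↥C).Normal
  · haveI := R.characteristic_of_normal hn
    refine hgP (Agent.Cores.le_pCore (N := (R : Subgroup ↥C).map C.subtype) (R.isPGroup'.map _) ?_)
    exact ⟨⟨g, hgK⟩, hR (mem_zpowers g), rfl⟩
  obtain ⟨R', hR'⟩ : ∃ R' : Sylow 2 ↥C, R' ≠ R := by
    by_contra hall
    push Not at hall
    haveI : Subsingleton (Sylow 2 ↥C) := ⟨fun a b => (hall a).trans (hall b).symm⟩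
    exact hn R.normal_of_subsingleton
  -- both extend by the same involution of the component
  obtain ⟨A⟩ := (inferInstance : Nonempty (Sylow 2 ↥(K.map pr)))
  obtain ⟨l, -, hl⟩ := hK.exists_involution A
  obtain ⟨k, hk, hkl⟩ := l.2
  have hkP : k ∉ Cfsg.pCore 2 G := fun h' => Involutions.Basic.ne_one hl
    (Subtype.ext (hkl.symm.trans (pr_eq_one.2 h')))
  have hk2 : k * k ∈ Cfsg.pCore 2 G := by
    rw [← pr_eq_one, map_mul, hkl]
    exact congrArg Subtype.val (Involutions.Basic.inv_sq_one hl :)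
  have hkpow : IsPGroup 2 ↥(zpowers k) := by
    obtain ⟨j, hj⟩ := Agent.Cores.pCore_isPGroup (G := G) 2 ⟨k * k, hk2⟩
    have hpow : k ^ (2 ^ (j + 1)) = 1 := by
      rw [pow_succ', pow_mul, pow_two]
      exact congrArg Subtype.val hj
    obtain ⟨i, -, hi⟩ := (Nat.dvd_prime_pow Nat.prime_two).1 (orderOf_dvd_of_pow_eq_one hpow)
    exact IsPGroup.of_card (n := i) (by rw [Nat.card_zpowers, hi])
  have hext : ∀ U : Sylow 2 ↥C, ∃ S : Sylow 2 G, (U : Subgroup ↥C).map C.subtype ≤ S ∧
      k ∈ (S : Subgroup G) := by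
    intro U
    have hU : IsPGroup 2 ↥((U : Subgroup ↥C).map C.subtype) := U.isPGroup'.map _
    have hnorm : zpowers k ≤ normalizer ((((U : Subgroup ↥C).map C.subtype : Subgroup G)) : Set G) := by
      rw [zpowers_le]
      refine mem_normalizer_iff.2 fun a => ?_
      have : ∀ b ∈ (U : Subgroup ↥C).map C.subtype, k * b * k⁻¹ = b := by
        rintro _ ⟨⟨b, hb⟩, -, rfl⟩
        show k * b * k⁻¹ = b
        rw [mem_centralizer_iff.1 hb k hk, mul_inv_cancel_right]
      refine ⟨fun ha => (this a ha).symm ▸ ha, fun ha => ?_⟩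
      have h1 := this _ ha
      rw [show k * (k * a * k⁻¹) * k⁻¹ = k * (k * a * k⁻¹) * k⁻¹ from rfl] at h1
      have : k * a * k⁻¹ = a := mul_left_cancel (mul_right_cancel h1)
      rwa [this] at ha
    have hsup := IsPGroup.to_sup_of_normal_right' hkpow hU hnorm
    obtain ⟨S, hS⟩ := hsup.exists_le_sylow
    exact ⟨S, le_sup_right.trans hS, hS (mem_sup_left (mem_zpowers k))⟩
  obtain ⟨S, hS, hkS⟩ := hext R
  obtain ⟨T, hT, hkT⟩ := hext R'
  have hST := hK.sylow_eq_of_lift hP hA hk hkP hk2 hkS hkT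
  subst hST
  have key : ∀ U : Sylow 2 ↥C, (U : Subgroup ↥C).map C.subtype ≤ S →
      (S : Subgroup G).subgroupOf C = (U : Subgroup ↥C) := fun U hU =>
    U.is_maximal' S.isPGroup'.comap_subtype fun z hz => hU (mem_map_of_mem _ hz)
  exact hR' (Sylow.ext ((key R' hT).symm.trans (key R hS)))

/-- The Sylow subgroups lie in the product of the 2-core and the component. -/
theorem sylow_le_of_lift (I : Inputs.{u}) (hP : Cfsg.pCore 2 G ≠ ⊥) (hA : AllLift K)
    (S : Sylow 2 G) : (S : Subgroup G) ≤ K ⊔ Cfsg.pCore 2 G := by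
  haveI := Fact.mk Nat.prime_two
  haveI := hK.normal_map
  haveI := hK.simple
  have hti := hK.tiSylow hP hA
  have hC : CycInt ↥(K.map pr) := by
    intro A B hne
    have : (A : Subgroup ↥(K.map pr)) ⊓ B = ⊥ := by
      by_contra h
      obtain ⟨w, hw, hw2, -⟩ := exists_central_involution (Y := (A : Subgroup ↥(K.map pr)) ⊓ B)
        (A.isPGroup'.to_le inf_le_left) h
      exact hne (hti A B w hw2 hw.1 hw.2)
    rw [this]; infer_instance
  have hle := sylow_le_of_traces I (K.map pr) hK.noncomm hC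
    (fun c h h2 => hK.centralizer_image hP hA h h2) ?_ (Or.inl hti)
    (S.mapSurjective (QuotientGroup.mk'_surjective (Cfsg.pCore 2 G)))
  · intro s hs
    have h1 := hle (mem_mapSurjective _ S hs)
    rw [← mem_comap, comap_map_eq, QuotientGroup.ker_mk'] at h1
    exact h1
  · intro U V hUV
    obtain ⟨l, hl, hl2⟩ := hK.exists_involution (sylowIn U (K.map pr))
    obtain ⟨S₁, -, hS₁⟩ := exists_sylow_lift (QuotientGroup.mk'_surjective _) U (D₀ := ⊥)
      IsPGroup.of_bot bot_le
    obtain ⟨T₁, -, hT₁⟩ := exists_sylow_lift (QuotientGroup.mk'_surjective _) V (D₀ := ⊥)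
      IsPGroup.of_bot bot_le
    obtain ⟨k, hk, hkl⟩ := l.2
    have hlU : (l : G ⧸ Cfsg.pCore 2 G) ∈ (U : Subgroup _) := mem_sylowIn.1 hl
    have hlV : (l : G ⧸ Cfsg.pCore 2 G) ∈ (V : Subgroup _) :=
      (hUV ▸ (⟨hlU, l.2⟩ : (l : G ⧸ Cfsg.pCore 2 G) ∈ (U : Subgroup _) ⊓ K.map pr) :
        (l : G ⧸ Cfsg.pCore 2 G) ∈ (V : Subgroup _) ⊓ K.map pr).1
    have hkP : k ∉ Cfsg.pCore 2 G := fun h' => Involutions.Basic.ne_one hl2
      (Subtype.ext (hkl.symm.trans (pr_eq_one.2 h')))
    have hk2 : k * k ∈ Cfsg.pCore 2 G := by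
      rw [← pr_eq_one, map_mul, hkl]
      exact congrArg Subtype.val (Involutions.Basic.inv_sq_one hl2 :)
    have hmem : ∀ W : Sylow 2 G, (l : G ⧸ Cfsg.pCore 2 G) ∈ (W : Subgroup G).map pr →
        k ∈ (W : Subgroup G) := by
      intro W h
      obtain ⟨s, hs, e⟩ := h
      have h1 : s⁻¹ * k ∈ Cfsg.pCore 2 G := by
        rw [← pr_eq_one, map_mul, map_inv, hkl, e, inv_mul_cancel]
      have := mul_mem hs (Agent.Cores.pCore_le_sylow W h1)
      rwa [mul_inv_cancel_left] at this
    refine Sylow.ext ?_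
    rw [← hS₁, ← hT₁, hK.sylow_eq_of_lift hP hA hk hkP hk2 (hmem S₁ (by rw [hS₁]; exact hlU))
      (hmem T₁ (by rw [hT₁]; exact hlV))]

/-- A cyclic nontrivial 2-core with lifting involutions is impossible. -/
theorem not_cyclic_lift (I : Inputs.{u}) (hP : Cfsg.pCore 2 G ≠ ⊥)
    (hcyc : IsCyclic ↥(Cfsg.pCore 2 G)) (hA : AllLift K) : False := by
  haveI := Fact.mk Nat.prime_two
  haveI := hK.normal_map
  obtain ⟨S, T, hne, hnc⟩ := hK.hyp.noncyclic
  refine hnc ?_
  haveI := hcyc
  refine isCyclic_of_le (H' := Cfsg.pCore 2 G) fun x hx => pr_eq_one.1 ?_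
  have hti := hK.tiSylow hP hA
  have hle : ∀ U : Sylow 2 G, ∀ u ∈ (U : Subgroup G), pr u ∈ K.map pr := by
    intro U u hu
    rw [← mem_comap, comap_map_eq, QuotientGroup.ker_mk']
    exact hK.sylow_le_of_lift I hP hA U hu
  let A := sylowIn (S.mapSurjective (QuotientGroup.mk'_surjective (Cfsg.pCore 2 G))) (K.map pr)
  let B := sylowIn (T.mapSurjective (QuotientGroup.mk'_surjective (Cfsg.pCore 2 G))) (K.map pr)
  have hAB : A ≠ B := by
    intro h
    refine hne (Sylow.ext ?_)
    have hU : ∀ U : Sylow 2 G, (U : Subgroup G) = ((U : Subgroup G).map pr).comap pr := fun U => by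
      rw [comap_map_eq, QuotientGroup.ker_mk', sup_eq_left.2 (Agent.Cores.pCore_le_sylow U)]
    have hsub : ∀ U : Sylow 2 G, (U : Subgroup G).map pr ≤ K.map pr := by
      rintro U _ ⟨u, hu, rfl⟩; exact hle U u hu
    have h1 := congrArg (fun W : Sylow 2 ↥(K.map pr) => (W : Subgroup _).map (K.map pr).subtype) h
    simp only [A, B, coe_sylowIn, subgroupOf_map_subtype, Sylow.coe_mapSurjective] at h1
    rw [inf_eq_left.2 (hsub S), inf_eq_left.2 (hsub T)] at h1
    rw [hU S, hU T, h1]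
  by_contra hx1
  have hX : IsPGroup 2 ↥((A : Subgroup ↥(K.map pr)) ⊓ B) := A.isPGroup'.to_le inf_le_left
  obtain ⟨w, hw, hw2, -⟩ := exists_central_involution hX fun h => hx1 (by
    have h1 : (⟨pr x, hle S x hx.1⟩ : ↥(K.map pr)) ∈ (A : Subgroup ↥(K.map pr)) ⊓ B :=
      ⟨mem_sylowIn.2 (mem_mapSurjective _ S hx.1), mem_sylowIn.2 (mem_mapSurjective _ T hx.2)⟩
    rw [h, mem_bot] at h1
    exact congrArg Subtype.val h1)
  exact hAB (hti A B w hw2 hw.1 hw.2)

/-- For a quaternion 2-core the involutions lift. -/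
theorem allLift_of_quaternion {n : ℕ}
    (e : ↥(Cfsg.pCore 2 G) ≃* QuaternionGroup (2 ^ (n + 1))) : AllLift K := by
  intro k hk hkP hk2
  haveI : NeZero (2 ^ (n + 1)) := ⟨by positivity⟩
  have h2le : 2 ≤ 2 ^ (n + 1) := by
    calc 2 = 2 ^ 1 := rfl
      _ ≤ _ := Nat.pow_le_pow_right two_pos (by omega)
  have hsq : k * k * (k * k) = 1 := by
    have := ZStar.Consequences.quaternion_center h2le (x := e ⟨k * k, hk2⟩) fun y => by
      obtain ⟨⟨q, hq⟩, rfl⟩ := e.surjective y
      rw [← map_mul, ← map_mul]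
      exact congrArg e (Subtype.ext ((hK.commute_core (mul_mem hk hk) hq).symm.eq))
    rw [← map_mul, MulEquiv.map_eq_one_iff] at this
    exact congrArg Subtype.val this
  by_cases h1 : k * k = 1
  · exact ⟨k, orderOf_eq_prime (by rw [pow_two]; exact h1) fun e' => hkP (e' ▸ one_mem _), rfl⟩
  set p := e.symm (QuaternionGroup.xa 0) with hp
  refine ⟨k * p, orderOf_eq_prime ?_ fun h => hkP ?_, ?_⟩
  · have hc := hK.commute_core hk p.2
    rw [pow_two, hc.symm.mul_mul_mul_comm]
    have hpp : (p : G) * p = k * k := by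
      have huniq := ZStar.Consequences.quaternion_involution (n := 2 ^ (n + 1))
        (x := e ⟨k * k, hk2⟩) (by
          rw [← map_mul, MulEquiv.map_eq_one_iff]; exact Subtype.ext hsq) (by
          rw [ne_eq, MulEquiv.map_eq_one_iff]; exact fun h => h1 (congrArg Subtype.val h))
      have h' : e (p * p) = e ⟨k * k, hk2⟩ := by
        rw [huniq, map_mul, hp, MulEquiv.apply_symm_apply, QuaternionGroup.xa_mul_xa,
          add_sub_cancel_right]
      exact congrArg Subtype.val (e.injective h')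
    rw [hpp, hsq]
  · rw [mul_eq_one_iff_eq_inv.1 h]; exact inv_mem p.2
  · rw [map_mul, pr_eq_one.2 p.2, mul_one]

/-- In a cyclic 2-core larger than the centre of the component the involutions lift. -/
theorem allLift_of_cyclic (hcyc : IsCyclic ↥(Cfsg.pCore 2 G))
    (hne : ¬ Cfsg.pCore 2 G ≤ K) : AllLift K := by
  intro k hk hkP hk2
  obtain ⟨g, hg⟩ := hcyc.exists_generator
  obtain ⟨a, ha⟩ := hg ⟨k * k, hk2⟩
  rcases Int.even_or_odd a with ⟨b, rfl⟩ | hodd
  · set p := g ^ (-b) with hp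
    have hpp : (p : G) * p * (k * k) = 1 := by
      have h' : (p * p * g ^ (b + b) : ↥(Cfsg.pCore 2 G)) = 1 := by
        rw [hp, ← zpow_add, ← zpow_add, show -b + -b + (b + b) = 0 by ring, zpow_zero]
      rw [show g ^ (b + b) = (⟨k * k, hk2⟩ : ↥(Cfsg.pCore 2 G)) from ha] at h'
      exact congrArg Subtype.val h'
    refine ⟨k * p, orderOf_eq_prime ?_ fun h => hkP ?_, ?_⟩
    · rw [pow_two, (hK.commute_core hk p.2).symm.mul_mul_mul_comm,
        (hK.commute_core (mul_mem hk hk) (mul_mem p.2 p.2)).eq, hpp]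
    · rw [mul_eq_one_iff_eq_inv.1 h]; exact inv_mem p.2
    · rw [map_mul, pr_eq_one.2 p.2, mul_one]
  · exfalso
    -- an odd power of the generator generates
    refine hne fun q hq => ?_
    have hmem : ((g ^ a : ↥(Cfsg.pCore 2 G)) : G) ∈ K := by
      rw [show g ^ a = (⟨k * k, hk2⟩ : ↥(Cfsg.pCore 2 G)) from ha]; exact mul_mem hk hk
    obtain ⟨j, hj⟩ := Agent.Cores.pCore_isPGroup (G := G) 2 g
    have hcop : IsCoprime a ((2 ^ j : ℕ) : ℤ) := by
      push_cast
      obtain ⟨t, rfl⟩ := hodd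
      exact (show IsCoprime (2 * t + 1) (2 : ℤ) from ⟨1, -t, by ring⟩).pow_right
    obtain ⟨u, v, huv⟩ := hcop
    obtain ⟨i, hi⟩ := hg ⟨q, hq⟩
    have hgK : (g : G) ∈ K := by
      have : g = (g ^ a) ^ u := by
        conv_lhs => rw [← zpow_one g, ← huv, zpow_add, mul_comm u a, zpow_mul, mul_comm v,
          zpow_mul g ((2 ^ j : ℕ) : ℤ) v, zpow_natCast, hj, one_zpow, mul_one]
      rw [this, SubgroupClass.coe_zpow]
      exact zpow_mem hmem u
    have := congrArg Subtype.val hi
    simp only [SubgroupClass.coe_zpow] at this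
    exact this ▸ zpow_mem hgK i

end One

end Cfsg.Agent.RankOneInter
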