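import Cfsg.Agent.Lib.RankOneInter.Quot

/-!
# A simple component without 2-core: all intersections are cyclic
-/

set_option autoImplicit false
set_option linter.style.haveILetI false
set_option linter.unusedSectionVars false

namespace Cfsg.Agent.RankOneInter

open Subgroup
open scoped Pointwise
open Cfsg.Agent.ZStar.CyclicIntersections
open Cfsg.Agent.CyclicSylowInter

universe u

/-- A group of the list whose intersections have one involution has cyclic intersections. -/
theorem Five.cycInt (I : Inputs.{u}) {L : Type u} [Group L] [Finite L] (h5 : Five L)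
    (h : OneInv L) : CycInt L := by
  intro A B hne
  by_cases hti : TISylow L
  · have : (A : Subgroup L) ⊓ B = ⊥ := by
      by_contra hX
      obtain ⟨w, hw, hw2, -⟩ := exists_central_involution (Y := (A : Subgroup L) ⊓ B)
        (A.isPGroup'.to_le inf_le_left) hX
      exact hne (hti A B w hw2 hw.1 hw.2)
    rw [this]; infer_instance
  · have hsq : ∀ x ∈ (A : Subgroup L), x * x = 1 := fun x hx => ((I.facts.2 L h5).2 hti A x hx x hx).2
    rcases (h.uniqueInv hne).isCyclic_or_quaternion (A.isPGroup'.to_le inf_le_left) with hc | ⟨n, ⟨e⟩⟩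
    · exact hc
    exfalso
    have h1 := hsq _ ((e.symm (QuaternionGroup.xa 0)).2).1
    have h2 : e (e.symm (QuaternionGroup.xa 0) * e.symm (QuaternionGroup.xa 0)) = e 1 :=
      congrArg e (Subtype.ext h1)
    rw [map_mul, map_one, MulEquiv.apply_symm_apply, QuaternionGroup.xa_mul_xa,
      QuaternionGroup.one_def, QuaternionGroup.a.injEq, add_sub_cancel_right,
      ZMod.natCast_eq_zero_iff] at h2
    have h3 := Nat.le_of_dvd (by positivity) h2
    have h0 : 0 < 2 ^ (n + 1) := by positivity
    nlinarith

variable {G : Type u} [Group G] [Finite G] {K : Subgroup G}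

namespace One

variable (hK : One G K)
include hK

theorem not_simple (I : Inputs.{u}) (hP : Cfsg.pCore 2 G = ⊥) : False := by
  haveI := Fact.mk Nat.prime_two
  haveI := hK.normal
  -- the component is simple
  have hcen : center ↥K = ⊥ := by
    have h := hK.hyp.center_le hK.comp
    rw [hP, le_bot_iff] at h
    exact (Subgroup.map_eq_bot_iff_of_injective _ K.subtype_injective).1 h
  haveI : IsSimpleGroup ↥K := by
    haveI := hK.comp.2.2
    exact isSimpleGroup_congr
      ((QuotientGroup.quotientMulEquivOfEq hcen).trans QuotientGroup.quotientBot)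
  have hne : ¬ IsMulCommutative ↥K := fun h => Components.Basic.quasisimple_not_isSolvable hK.comp.2
    (Group.isSolvable_of_comm fun a b => h.is_comm.comm a b)
  have h5 : Five ↥K := I.central ↥K hne fun A B hAB _ => (hK.hyp.inter.subgroup K).rank hAB
  have hC : CycInt ↥K := Five.cycInt I h5 (hK.hyp.inter.subgroup K)
  have htr : ∀ S T : Sylow 2 G, (S : Subgroup G) ⊓ K = (T : Subgroup G) ⊓ K → S = T := by
    intro S T h
    obtain ⟨z, z', hz, hz', oz, oz', hzz, -, -⟩ :=
      (reduced_of_simple hne hC).exists_two_central (sylowIn S K)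
    have hmem : ∀ w : ↥K, w ∈ (sylowIn S K : Subgroup ↥K) → (w : G) ∈ (T : Subgroup G) := fun w hw =>
      (h ▸ (⟨mem_sylowIn.1 hw, w.2⟩ : (w : G) ∈ (S : Subgroup G) ⊓ K) :
        (w : G) ∈ (T : Subgroup G) ⊓ K).1
    exact hK.hyp.inter.eq_of_two (mem_sylowIn.1 hz) (hmem z hz) (mem_sylowIn.1 hz') (hmem z' hz')
      (by rw [Subgroup.orderOf_coe, oz]) (by rw [Subgroup.orderOf_coe, oz'])
      fun e => hzz (Subtype.ext e)
  have hcent : ∀ g : G, (∀ l ∈ K, Commute g l) → g * g = 1 → g = 1 := by
    intro g hg _
    have := hK.mem_core_of_commute (g := g) (fun p hp => by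
      rw [hP, mem_bot] at hp; subst hp; exact Commute.one_right g) hg
    rwa [hP, mem_bot] at this
  have hle := sylow_le_of_traces I K hne hC hcent htr (Or.inr hK.hyp.inter)
  obtain ⟨S, T, hST, hnc⟩ := hK.hyp.noncyclic
  refine hnc ?_
  have hAB : sylowIn S K ≠ sylowIn T K := by
    intro h
    refine hST (htr S T ?_)
    have := congrArg (fun W : Sylow 2 ↥K => (W : Subgroup ↥K).map K.subtype) h
    simpa only [coe_sylowIn, subgroupOf_map_subtype] using this
  haveI := hC _ _ hAB
  let f : ↥((S : Subgroup G) ⊓ (T : Subgroup G)) →*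
      ↥((sylowIn S K : Subgroup ↥K) ⊓ (sylowIn T K : Subgroup ↥K)) :=
    { toFun := fun x => ⟨⟨x, hle S x.2.1⟩, mem_sylowIn.2 x.2.1, mem_sylowIn.2 x.2.2⟩
      map_one' := rfl
      map_mul' := fun _ _ => rfl }
  exact isCyclic_of_injective f fun a b h => Subtype.ext
    (congrArg (fun w : ↥((sylowIn S K : Subgroup ↥K) ⊓ (sylowIn T K : Subgroup ↥K)) =>
      ((w : ↥K) : G)) h :)

end One

end Cfsg.Agent.RankOneInter
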