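import Cfsg.Agent.Lib.RankOneInter.CentralProd

/-!
# Two components `SL(2, 5)`: the central product has odd index
-/

set_option autoImplicit false
set_option linter.unusedSectionVars false
set_option linter.style.haveILetI false
set_option maxRecDepth 100000

namespace Cfsg.Agent.RankOneInter

open Subgroup

universe u

theorem odd_perm_five : ∀ σ : Equiv.Perm (Fin 5), σ 0 = 0 → Equiv.Perm.sign σ = -1 →
    ∀ τ : Equiv.Perm (Fin 5), τ 0 = 0 → τ * τ * τ = 1 → τ ≠ 1 →
      (τ * σ * τ⁻¹ * σ⁻¹) * (τ * σ * τ⁻¹ * σ⁻¹) ≠ 1 := by decide +kernel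

theorem even_perm_five : ∀ σ : Equiv.Perm (Fin 5), σ 0 = 0 → Equiv.Perm.sign σ = 1 →
    σ * σ * (σ * σ) = 1 → σ * σ = 1 := by decide +kernel

set_option synthInstance.maxSize 2000 in
theorem four_three : ∀ v w : alternatingGroup (Fin 5), v * v = 1 → w * w = 1 → v ≠ 1 → w ≠ 1 → v ≠ w →
    v * w = w * v → ∃ y : alternatingGroup (Fin 5), y * y * y = 1 ∧ y ≠ 1 ∧
      (y * v * y⁻¹ = w) ∧ (y * w * y⁻¹ = v * w) := by decide +kernel

theorem sq_of_four : ∀ v : alternatingGroup (Fin 5), v * v * (v * v) = 1 → v * v = 1 := by decide +kernel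

/-- The double cover of `A₅`. -/
theorem exists_alt_hom : ∃ π : SLFive →* alternatingGroup (Fin 5), Function.Surjective π ∧
    ∀ x, π x = 1 ↔ x = 1 ∨ x = -1 := by
  haveI : Fact (Nat.Prime 5) := ⟨by norm_num⟩
  obtain ⟨e⟩ := Cfsg.Agent.S0253.result (F := ZMod 5) (ZMod.card 5)
  refine ⟨e.toMonoidHom.comp (QuotientGroup.mk' (center SLFive)),
    e.surjective.comp (QuotientGroup.mk'_surjective _), fun x => ?_⟩
  show e (QuotientGroup.mk' _ x) = 1 ↔ _
  rw [map_eq_one_iff e e.injective, QuotientGroup.mk'_apply, QuotientGroup.eq_one_iff, mem_center_iff]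
  refine ⟨center_SLFive, ?_⟩
  rintro (rfl | rfl) g <;> simp

theorem perfect_SLFive : commutator SLFive = ⊤ := by
  haveI : Fact (Nat.Prime 5) := ⟨by norm_num⟩
  exact Cfsg.Agent.Classical.SL2Rep.commutator_two_eq_top (F := ZMod 5) (by simp)

theorem card_SLFive : Nat.card SLFive = 120 := by
  haveI : Fact (Nat.Prime 5) := ⟨by norm_num⟩
  rw [Cfsg.Agent.Classical.GL2.natCard_SL_two, ZMod.card]

section One

variable {A : Type u} [Group A] [Finite A] (e : A ≃* SLFive) (Q : Sylow 2 A)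

include e

theorem card_sylow_SL : Nat.card ↥(Q : Subgroup A) = 8 := by
  haveI : Fact (Nat.Prime 2) := ⟨Nat.prime_two⟩
  have h : Nat.card A = 2 ^ 3 * 15 := by rw [Nat.card_congr e.toEquiv, card_SLFive]; norm_num
  rw [Sylow.card_eq_multiplicity, h, Nat.factorization_mul (by norm_num) (by norm_num),
    Finsupp.add_apply, Nat.Prime.factorization_pow Nat.prime_two, Finsupp.single_eq_same,
    Nat.factorization_eq_zero_of_not_dvd (show ¬ 2 ∣ 15 by norm_num)]
  norm_num

/-- an element of order three normalising the Sylow subgroup -/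
theorem exists_three : ∃ y : A, y ∈ normalizer (Q : Set A) ∧ y * y * y = 1 ∧ y ≠ 1 := by
  classical
  haveI : Fact (Nat.Prime 2) := ⟨Nat.prime_two⟩
  obtain ⟨π, hπ, hk⟩ := exists_alt_hom
  let f : A →* alternatingGroup (Fin 5) := π.comp e.toMonoidHom
  have hf : Function.Surjective f := hπ.comp e.surjective
  have hkf : ∀ x, f x = 1 ↔ x = 1 ∨ x = e.symm (-1) := fun x => by
    show π (e x) = 1 ↔ _
    rw [hk, e.map_eq_one_iff, ← MulEquiv.eq_symm_apply]
  set T : Sylow 2 (alternatingGroup (Fin 5)) := Q.mapSurjective hf with hT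
  have hT4 : Nat.card ↥(T : Subgroup (alternatingGroup (Fin 5))) = 4 := by
    have h60 : Nat.card (alternatingGroup (Fin 5)) = 2 ^ 2 * 15 := by
      rw [nat_card_alternatingGroup]; simp [Nat.card_eq_fintype_card, Nat.factorial]
    rw [Sylow.card_eq_multiplicity, h60, Nat.factorization_mul (by norm_num) (by norm_num),
      Finsupp.add_apply, Nat.Prime.factorization_pow Nat.prime_two, Finsupp.single_eq_same,
      Nat.factorization_eq_zero_of_not_dvd (show ¬ 2 ∣ 15 by norm_num)]
    norm_num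
  have hsq : ∀ x ∈ (T : Subgroup (alternatingGroup (Fin 5))), x * x = 1 := fun x hx => by
    refine sq_of_four x ?_
    have h : (⟨x, hx⟩ : ↥(T : Subgroup (alternatingGroup (Fin 5)))) ^ 4 = 1 := by
      rw [← hT4]; exact pow_card_eq_one'
    have h' := congrArg Subtype.val h
    simpa [pow_succ, mul_assoc] using h'
  obtain ⟨⟨v, hv⟩, ⟨w, hw⟩, hv1, hw1, hvw⟩ : ∃ v w : ↥(T : Subgroup (alternatingGroup (Fin 5))),
      v ≠ 1 ∧ w ≠ 1 ∧ v ≠ w := by
    letI : Fintype ↥(T : Subgroup (alternatingGroup (Fin 5))) := Fintype.ofFinite _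
    have h4 : Fintype.card ↥(T : Subgroup (alternatingGroup (Fin 5))) = 4 := by
      rw [← Nat.card_eq_fintype_card, hT4]
    haveI : Nontrivial ↥(T : Subgroup (alternatingGroup (Fin 5))) := Fintype.one_lt_card_iff_nontrivial.1 (by omega)
    obtain ⟨v, hv⟩ := exists_ne (1 : ↥(T : Subgroup (alternatingGroup (Fin 5))))
    obtain ⟨w, hw⟩ : ∃ w, w ∉ ({1, v} : Finset ↥(T : Subgroup (alternatingGroup (Fin 5)))) := by
      by_contra hcon
      push Not at hcon
      have := Finset.card_le_card (show (Finset.univ : Finset _) ⊆ {1, v} from fun x _ => hcon x)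
      rw [Finset.card_univ, h4] at this
      exact absurd (this.trans (Finset.card_le_two)) (by norm_num)
    simp only [Finset.mem_insert, Finset.mem_singleton, not_or] at hw
    exact ⟨v, w, hv, hw.1, Ne.symm hw.2⟩
  have hv1' : v ≠ 1 := fun h => hv1 (Subtype.ext h)
  have hw1' : w ≠ 1 := fun h => hw1 (Subtype.ext h)
  have hvw' : v ≠ w := fun h => hvw (Subtype.ext h)
  have hcom : v * w = w * v := by
    have h := inv_eq_of_mul_eq_one_right (hsq _ (mul_mem hv hw))
    rw [_root_.mul_inv_rev, inv_eq_of_mul_eq_one_right (hsq v hv), inv_eq_of_mul_eq_one_right (hsq w hw)] at h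
    exact h.symm
  obtain ⟨y', hy3, hy1, hyv, hyw⟩ := four_three v w (hsq v hv) (hsq w hw) hv1' hw1' hvw' hcom
  have hTset : ((T : Subgroup (alternatingGroup (Fin 5))) : Set (alternatingGroup (Fin 5))) = {1, v, w, v * w} := by
    refine (Set.eq_of_subset_of_ncard_le ?_ ?_).symm
    · simp only [Set.insert_subset_iff, Set.singleton_subset_iff, SetLike.mem_coe]
      exact ⟨one_mem _, hv, hw, mul_mem hv hw⟩
    · rw [← Nat.card_coe_set_eq]
      refine le_of_eq (hT4.trans ?_)
      rw [Set.ncard_insert_of_notMem, Set.ncard_insert_of_notMem, Set.ncard_pair]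
      · exact fun h => hv1' (mul_eq_right.1 h.symm)
      · simp only [Set.mem_insert_iff, Set.mem_singleton_iff, not_or]
        exact ⟨hvw', fun h => hw1' (mul_eq_left.1 h.symm)⟩
      · simp only [Set.mem_insert_iff, Set.mem_singleton_iff, not_or]
        exact ⟨hv1'.symm, hw1'.symm, fun h => hvw' (by
          rw [← inv_eq_of_mul_eq_one_right (hsq v hv)]; exact inv_eq_of_mul_eq_one_right h.symm)⟩
  have hnT : ∀ x ∈ (T : Subgroup (alternatingGroup (Fin 5))), y' * x * y'⁻¹ ∈ (T : Subgroup (alternatingGroup (Fin 5))) := by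
    intro x hx
    have hx' : x ∈ ({1, v, w, v * w} : Set (alternatingGroup (Fin 5))) := hTset ▸ hx
    simp only [Set.mem_insert_iff, Set.mem_singleton_iff] at hx'
    rcases hx' with rfl | rfl | rfl | rfl
    · simp
    · rw [hyv]; exact hw
    · rw [hyw]; exact mul_mem hv hw
    · rw [show y' * (v * w) * y'⁻¹ = (y' * v * y'⁻¹) * (y' * w * y'⁻¹) by group, hyv, hyw]
      exact mul_mem hw (mul_mem hv hw)
  obtain ⟨y₀, hy₀⟩ := hf y'
  have hzQ : ∀ x, f x ∈ (T : Subgroup (alternatingGroup (Fin 5))) → x ∈ (Q : Subgroup A) := by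
    intro x hx
    obtain ⟨q, hq, hqe⟩ := hx
    have h1 : f (q⁻¹ * x) = 1 := by rw [map_mul, map_inv, hqe, inv_mul_cancel]
    have hker : q⁻¹ * x ∈ (Q : Subgroup A) := by
      have hm : IsPGroup 2 ↥(f.ker) := fun c => ⟨1, by
        refine Subtype.ext ?_
        show (c : A) ^ 2 ^ 1 = 1
        rw [pow_one, pow_two]
        rcases (hkf _).1 c.2 with h | h <;> rw [h]
        · exact one_mul 1
        · rw [← map_mul]; simp⟩
      exact (le_sup_right.trans (Q.is_maximal' (Q.isPGroup'.to_sup_of_normal_right hm) le_sup_left).le) h1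
    have := mul_mem hq hker
    rwa [mul_inv_cancel_left] at this
  -- a power of order three
  obtain ⟨j, hj⟩ : ∃ j : ℕ, y₀ ^ 3 = e.symm (-1) ^ j := by
    have h1 : f (y₀ ^ 3) = 1 := by rw [map_pow, hy₀, pow_succ, pow_two, hy3]
    rcases (hkf _).1 h1 with h | h
    exacts [⟨0, by rw [h, pow_zero]⟩, ⟨1, by rw [h, pow_one]⟩]
  refine ⟨y₀ ^ 4, pow_mem (mem_normalizer_iff.2 fun x => ⟨fun hx => hzQ _ ?_, fun hx => hzQ _ ?_⟩) 4, ?_, ?_⟩
  · rw [map_mul, map_mul, map_inv, hy₀]
    exact hnT _ ⟨x, hx, rfl⟩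
  · have h := hnT _ (hnT _ (⟨_, hx, rfl⟩ : f (y₀ * x * y₀⁻¹) ∈ (T : Subgroup (alternatingGroup (Fin 5)))))
    rw [map_mul, map_mul, map_inv, hy₀, show y' * (y' * (y' * f x * y'⁻¹) * y'⁻¹) * y'⁻¹ =
      (y' * y' * y') * f x * (y' * y' * y')⁻¹ by group, hy3] at h
    simpa using h
  · have hz2 : e.symm (-1) * e.symm (-1) = 1 := by rw [← map_mul]; simp
    calc y₀ ^ 4 * y₀ ^ 4 * y₀ ^ 4 = (y₀ ^ 3) ^ 4 := by rw [← pow_add, ← pow_add, ← pow_mul]
      _ = 1 := by rw [hj, ← pow_mul, mul_comm, pow_mul, pow_succ, pow_succ, pow_two, hz2, one_mul, hz2,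
            one_pow]
  · intro h
    have h1 : f (y₀ ^ 4) = y' := by rw [map_pow, hy₀, pow_succ, pow_succ, pow_two, hy3, one_mul]
    rw [h, map_one] at h1
    exact hy1 h1.symm

theorem card_sylows : Nat.card (Sylow 2 A) = 5 := by
  haveI : Fact (Nat.Prime 2) := ⟨Nat.prime_two⟩
  obtain ⟨Q⟩ : Nonempty (Sylow 2 A) := inferInstance
  obtain ⟨y, hy, hy3, hy1⟩ := exists_three e Q
  rw [Sylow.card_eq_index_normalizer Q]
  set N := normalizer (Q : Set A) with hN
  have h8 : 8 ∣ Nat.card ↥N := card_sylow_SL e Q ▸ card_dvd_of_le le_normalizer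
  have h3 : 3 ∣ Nat.card ↥N := by
    haveI : Fact (Nat.Prime 3) := ⟨Nat.prime_three⟩
    have ho : orderOf y = 3 := orderOf_eq_prime (by rw [pow_succ, pow_two, hy3]) hy1
    exact ho ▸ N.orderOf_dvd_natCard hy
  have h24 : 24 ∣ Nat.card ↥N := Nat.Coprime.mul_dvd_of_dvd_of_dvd (show Nat.Coprime 8 3 by norm_num) h8 h3
  obtain ⟨c, hc⟩ := h24
  have hcard := N.card_mul_index
  rw [hc, Nat.card_congr e.toEquiv, card_SLFive, mul_assoc] at hcard
  have h5 : N.index ∣ 5 := ⟨c, by rw [mul_comm N.index c]; omega⟩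
  rcases (Nat.dvd_prime Nat.prime_five).1 h5 with h | h
  · exfalso
    haveI : (Q : Subgroup A).Normal := normalizer_eq_top_iff.1 (index_eq_one.1 h)
    obtain ⟨π, hπ, hk⟩ := exists_alt_hom
    haveI hn : ((Q : Subgroup A).map (π.comp e.toMonoidHom)).Normal :=
      Normal.map inferInstance _ (hπ.comp e.surjective)
    haveI : IsSimpleGroup (alternatingGroup (Fin 5)) := alternatingGroup.isSimpleGroup (by simp)
    have hcardm := (Q : Subgroup A).card_map_dvd (π.comp e.toMonoidHom)
    rw [card_sylow_SL e Q] at hcardm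
    rcases hn.eq_bot_or_eq_top with hb | hb <;> rw [hb] at hcardm
    · have hle : (Q : Subgroup A) ≤ (π.comp e.toMonoidHom).ker := (Subgroup.map_eq_bot_iff _).1 hb
      have hsub : ((Q : Subgroup A) : Set A) ⊆ {1, e.symm (-1)} := fun x hx => by
        rcases (hk _).1 (hle hx) with h' | h'
        · exact Or.inl (e.map_eq_one_iff.1 h')
        · exact Or.inr (by rw [Set.mem_singleton_iff, ← h']; simp)
      have h2 := (Set.ncard_le_ncard hsub (Set.toFinite _)).trans
        ((Set.ncard_insert_le _ _).trans (Nat.succ_le_succ (Set.ncard_singleton _).le))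
      rw [← Nat.card_coe_set_eq] at h2
      change Nat.card ↥(Q : Subgroup A) ≤ 2 at h2
      rw [card_sylow_SL e Q] at h2
      omega
    · rw [card_top, nat_card_alternatingGroup] at hcardm
      simp [Nat.card_eq_fintype_card, Nat.factorial] at hcardm
  · exact h

end One

variable {K : Type u} [Group K] [Finite K]

set_option maxHeartbeats 800000 in
/-- An element normalising `A` and a Sylow subgroup `Q` of it, of 2-power order and with commutators with
the elements of order three of `N_A(Q)` in `Q`, acts on `A` as an element of `Q`. -/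
theorem inner_of_two {A : Subgroup K} (e : ↥A ≃* SLFive) (Q : Sylow 2 ↥A) {s : K} {k : ℕ}
    (hs : s ^ 2 ^ k = 1) (hsA : ∀ a, a ∈ A ↔ s * a * s⁻¹ ∈ A)
    (hsQ : ∀ q : ↥A, q ∈ (Q : Subgroup ↥A) → ∀ h : s * q * s⁻¹ ∈ A, (⟨_, h⟩ : ↥A) ∈ (Q : Subgroup ↥A))
    (hy : ∀ y : ↥A, y ∈ normalizer (Q : Set ↥A) → y * y * y = 1 →
      ∀ h : (y : K) * s * (y : K)⁻¹ * s⁻¹ ∈ A, (⟨_, h⟩ : ↥A) ∈ (Q : Subgroup ↥A)) :
    ∃ q ∈ (Q : Subgroup ↥A), ∀ a ∈ A, Commute ((q : K)⁻¹ * s) a := by
  classical
  haveI : Fact (Nat.Prime 2) := ⟨Nat.prime_two⟩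
  -- the action on the five Sylow subgroups
  set N := normalizer (A : Set K) with hNd
  have hsN : s ∈ N := mem_normalizer_iff.2 hsA
  have hAN : ∀ a : ↥A, (a : K) ∈ N := fun a => le_normalizer a.2
  let cj : ↥N →* MulAut ↥A := Subgroup.normalizerMonoidHom (H := A)
  have hcj : ∀ (g : ↥N) (a : ↥A), (cj g a : K) = (g : K) * a * (g : K)⁻¹ := fun _ _ => rfl
  let act : ↥N →* Equiv.Perm (Sylow 2 ↥A) := (MulAction.toPermHom (MulAut ↥A) (Sylow 2 ↥A)).comp cj
  letI : Fintype (Sylow 2 ↥A) := Fintype.ofFinite _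
  have h5 : Fintype.card (Sylow 2 ↥A) = 5 := by rw [← Nat.card_eq_fintype_card, card_sylows e]
  obtain ⟨ε, hε⟩ : ∃ ε : Sylow 2 ↥A ≃ Fin 5, ε Q = 0 := by
    let ε₀ := Fintype.equivFinOfCardEq h5
    exact ⟨ε₀.trans (Equiv.swap (ε₀ Q) 0), by simp⟩
  let ψ : ↥N →* Equiv.Perm (Fin 5) := (ε.permCongrHom.toMonoidHom).comp act
  have hψ : ∀ g, ψ g 0 = 0 ↔ cj g • Q = Q := fun g => by
    show ε (cj g • ε.symm 0) = 0 ↔ _
    rw [show ε.symm 0 = Q by rw [← hε, Equiv.symm_apply_apply], ← hε, ε.injective.eq_iff]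
  -- the kernel centralises `A`
  let χ : ↥A →* Equiv.Perm (Fin 5) := ψ.comp (Subgroup.inclusion le_normalizer)
  obtain ⟨π, hπ, hkπ⟩ := exists_alt_hom
  haveI : IsSimpleGroup (alternatingGroup (Fin 5)) := alternatingGroup.isSimpleGroup (by simp)
  have hχk : ∀ a : ↥A, χ a = 1 → e a = 1 ∨ e a = -1 := by
    haveI : ((χ.ker).map (π.comp e.toMonoidHom)).Normal :=
      Normal.map (MonoidHom.normal_ker χ) _ (hπ.comp e.surjective)
    rcases (inferInstance : ((χ.ker).map (π.comp e.toMonoidHom)).Normal).eq_bot_or_eq_top with hb | hb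
    · intro a ha
      exact (hkπ _).1 ((Subgroup.map_eq_bot_iff _).1 hb ha)
    · exfalso
      -- the kernel would cover, so a Sylow subgroup would be normal
      obtain ⟨y, hyN, hy3, hy1⟩ := exists_three e Q
      have hker : χ.ker ≤ normalizer (Q : Set ↥A) := by
        intro a ha
        have h0 : ψ (Subgroup.inclusion le_normalizer a) 0 = 0 := by
          show χ a 0 = 0
          rw [show χ a = 1 from ha]; rfl
        have h1 := (hψ _).1 h0
        rw [← Sylow.smul_eq_iff_mem_normalizer]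
        exact Sylow.ext (by
          have := congrArg Sylow.toSubgroup h1
          exact this)
      have h1 := card_dvd_of_le hker
      have h2 := (χ.ker).card_map_dvd (π.comp e.toMonoidHom)
      rw [hb, card_top, nat_card_alternatingGroup] at h2
      simp [Nat.card_eq_fintype_card, Nat.factorial] at h2
      have hN24 : Nat.card ↥(normalizer (Q : Set ↥A)) * 5 = 120 := by
        rw [← card_sylows e, Sylow.card_eq_index_normalizer Q, Subgroup.card_mul_index, Nat.card_congr e.toEquiv,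
          card_SLFive]
      have := Nat.le_of_dvd Nat.card_pos (h2.trans h1)
      omega
  have hker : ∀ c : ↥N, ψ c = 1 → ∀ a ∈ A, Commute (c : K) a := by
    intro c hc a ha
    have hcomm : ∀ b : ↥A, cj c b * b⁻¹ = 1 ∨ cj c b * b⁻¹ = e.symm (-1) := fun b => by
      have h1 : χ (cj c b * b⁻¹) = 1 := by
        rw [map_mul, map_inv, mul_inv_eq_one]
        show ψ _ = ψ _
        rw [show Subgroup.inclusion le_normalizer (cj c b) = c * Subgroup.inclusion le_normalizer b * c⁻¹ from
          Subtype.ext (hcj c b), map_mul, map_mul, map_inv, hc, one_mul, inv_one, mul_one]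
      rcases hχk _ h1 with h | h
      · exact Or.inl (e.map_eq_one_iff.1 h)
      · exact Or.inr (by rw [← h, MulEquiv.symm_apply_apply])
    have hz : ∀ g : ↥A, g * e.symm (-1) = e.symm (-1) * g := fun g => e.injective (by simp)
    let d : ↥A →* ↥A :=
      { toFun := fun b => cj c b * b⁻¹
        map_one' := by simp
        map_mul' := fun p q => by
          have hq := hcomm q
          rw [map_mul, _root_.mul_inv_rev, show cj c p * cj c q * (q⁻¹ * p⁻¹) = cj c p * (cj c q * q⁻¹) * p⁻¹ by group]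
          rcases hq with h | h <;> rw [h]
          · simp
          · rw [mul_assoc, ← hz, ← mul_assoc] }
    have hd : ∀ b, d b = 1 := by
      have hperf : commutator ↥A = ⊤ := by
        rw [_root_.commutator_def, ← map_top_of_surjective e.symm.toMonoidHom e.symm.surjective, ← map_commutator,
          ← _root_.commutator_def, perfect_SLFive]
      intro b
      have h1 : ⁅(⊤ : Subgroup ↥A), ⊤⁆ ≤ d.ker := commutator_le.2 fun p _ q _ => by
        rw [MonoidHom.mem_ker, map_commutatorElement, commutatorElement_eq_one_iff_mul_comm]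
        rcases hcomm p with h | h
        · rw [show d p = 1 from h, one_mul, mul_one]
        · rw [show d p = _ from h]; exact (hz _).symm
      rw [← _root_.commutator_def, hperf] at h1
      exact h1 (mem_top b)
    have := congrArg Subtype.val (mul_inv_eq_one.1 (hd ⟨a, ha⟩))
    rw [hcj] at this
    exact mul_inv_eq_iff_eq_mul.1 this
  -- signs
  have hsign : ∀ a : ↥A, Equiv.Perm.sign (χ a) = 1 := by
    intro a
    have h1 : ⁅(⊤ : Subgroup ↥A), ⊤⁆ ≤ (Equiv.Perm.sign.comp χ).ker := commutator_le.2 fun p _ q _ => by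
      rw [MonoidHom.mem_ker, map_commutatorElement, commutatorElement_eq_one_iff_mul_comm, mul_comm]
    have hperf : commutator ↥A = ⊤ := by
      rw [_root_.commutator_def, ← map_top_of_surjective e.symm.toMonoidHom e.symm.surjective, ← map_commutator,
        ← _root_.commutator_def, perfect_SLFive]
    rw [← _root_.commutator_def, hperf] at h1
    exact h1 (mem_top a)
  have hχsurj : ∀ σ : Equiv.Perm (Fin 5), Equiv.Perm.sign σ = 1 → ∃ a, χ a = σ := by
    have hle : χ.range ≤ alternatingGroup (Fin 5) := by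
      rintro _ ⟨a, rfl⟩; exact Equiv.Perm.mem_alternatingGroup.2 (hsign a)
    have hk2 : Nat.card ↥χ.ker ≤ 2 := by
      have hsub : (χ.ker : Set ↥A) ⊆ {1, e.symm (-1)} := fun a ha => by
        rcases hχk a ha with h | h
        · exact Or.inl (e.map_eq_one_iff.1 h)
        · exact Or.inr (by rw [Set.mem_singleton_iff, ← h]; simp)
      have h := (Set.ncard_le_ncard hsub (Set.toFinite _)).trans
        ((Set.ncard_insert_le _ _).trans (Nat.succ_le_succ (Set.ncard_singleton _).le))
      rw [← Nat.card_coe_set_eq] at h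
      exact h
    have heq : χ.range = alternatingGroup (Fin 5) := eq_of_le_of_card_ge hle (by
      have h := χ.ker.card_mul_index
      rw [index_ker, Nat.card_congr e.toEquiv, card_SLFive] at h
      have h60 : Nat.card (alternatingGroup (Fin 5)) = 60 := by
        rw [nat_card_alternatingGroup]; simp [Nat.card_eq_fintype_card, Nat.factorial]
      have h' := Nat.mul_le_mul_right (Nat.card ↥χ.range) hk2
      show Nat.card (alternatingGroup (Fin 5)) ≤ Nat.card ↥χ.range
      omega)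
    intro σ hσ
    obtain ⟨a, ha⟩ := heq.ge (Equiv.Perm.mem_alternatingGroup.2 hσ)
    exact ⟨a, ha⟩
  set σ := ψ ⟨s, hsN⟩ with hσ
  have hσ0 : σ 0 = 0 := (hψ _).2 (Sylow.ext (by
    refine eq_of_le_of_card_ge ?_ (le_of_eq ?_)
    · rintro _ ⟨q, hq, rfl⟩
      exact hsQ q hq _
    · rw [card_sylow_SL e Q, card_sylow_SL e (cj ⟨s, hsN⟩ • Q)]))
  obtain ⟨y, hyN, hy3, hy1⟩ := exists_three e Q
  set τ := χ y with hτ
  have hfix : ∀ g : ↥A, g ∈ normalizer (Q : Set ↥A) → χ g 0 = 0 := fun g hg => (hψ _).2 (by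
    refine Eq.trans ?_ (Sylow.smul_eq_iff_mem_normalizer.2 hg)
    exact Sylow.ext rfl)
  have hτ0 : τ 0 = 0 := hfix y hyN
  have hτ3 : τ * τ * τ = 1 := by rw [hτ, ← map_mul, ← map_mul, hy3, map_one]
  have hτ1 : τ ≠ 1 := fun h => by
    rcases hχk y h with h' | h'
    · exact hy1 (e.map_eq_one_iff.1 h')
    · have h3 := congrArg e hy3
      rw [map_mul, map_mul, map_one, h'] at h3
      simp at h3
      exact absurd h3 (by decide)
  have hQsq : ∀ q ∈ (Q : Subgroup ↥A), χ q * χ q * (χ q * χ q) = 1 → χ q * χ q = 1 := fun q hq h =>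
    even_perm_five _ (hfix q (le_normalizer hq)) (hsign q) h
  have hq4 : ∀ q ∈ (Q : Subgroup ↥A), χ q * χ q = 1 := fun q hq => by
    refine hQsq q hq ?_
    obtain ⟨m, hm⟩ := Q.isPGroup' ⟨q, hq⟩
    have hm' : (χ q) ^ 2 ^ m = 1 := by rw [← map_pow, show q ^ 2 ^ m = 1 from congrArg Subtype.val hm, map_one]
    have h8 : q ^ 8 = 1 := by
      have h : (⟨q, hq⟩ : ↥(Q : Subgroup ↥A)) ^ 8 = 1 := by rw [← card_sylow_SL e Q]; exact pow_card_eq_one'
      exact congrArg Subtype.val h
    have h4 : q ^ 4 = 1 ∨ q ^ 4 = e.symm (-1) := by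
      have : (e (q ^ 4)) * (e (q ^ 4)) = 1 := by rw [← map_mul, ← pow_add, h8, map_one]
      by_cases h1 : e (q ^ 4) = 1
      · exact Or.inl (e.map_eq_one_iff.1 h1)
      · right
        obtain ⟨π', hπ', hk'⟩ := exists_alt_hom
        have hc : π' (e (q ^ 4)) = 1 := by
          rw [map_pow, map_pow, show (4 : ℕ) = 2 + 2 from rfl, pow_add, pow_two]
          refine sq_of_four _ ?_
          rw [show π' (e q) * π' (e q) * (π' (e q) * π' (e q)) * (π' (e q) * π' (e q) * (π' (e q) * π' (e q))) =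
            π' (e q) ^ 8 by simp [pow_succ, mul_assoc], ← map_pow, ← map_pow, h8, map_one, map_one]
        rw [← (hk' _).1 hc |>.resolve_left h1, MulEquiv.symm_apply_apply]
    have hz : χ (e.symm (-1)) = 1 := by
      refine Equiv.ext fun i => ?_
      show ψ _ i = i
      show ε (cj _ • ε.symm i) = i
      rw [show cj (Subgroup.inclusion le_normalizer (e.symm (-1))) = 1 from MulEquiv.ext fun b => Subtype.ext (by
        rw [hcj]
        show ((e.symm (-1) : ↥A) : K) * b * ((e.symm (-1) : ↥A) : K)⁻¹ = b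
        have h := congrArg Subtype.val (show e.symm (-1) * b = b * e.symm (-1) from e.injective (by simp))
        rw [mul_inv_eq_iff_eq_mul]
        exact h), one_smul, Equiv.apply_symm_apply]
    rcases h4 with h | h
    · rw [show χ q * χ q * (χ q * χ q) = χ q ^ 4 by simp [pow_succ, mul_assoc], ← map_pow, h, map_one]
    · rw [show χ q * χ q * (χ q * χ q) = χ q ^ 4 by simp [pow_succ, mul_assoc], ← map_pow, h, hz]
  by_cases hodd : Equiv.Perm.sign σ = -1
  · exfalso
    have hmem : (y : K) * s * (y : K)⁻¹ * s⁻¹ ∈ A := by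
      rw [show (y : K) * s * (y : K)⁻¹ * s⁻¹ = (y : K) * (s * (y : K)⁻¹ * s⁻¹) by group]
      exact A.mul_mem y.2 ((hsA _).1 (A.inv_mem y.2))
    have hQ := hy y hyN hy3 hmem
    refine odd_perm_five σ hσ0 hodd τ hτ0 hτ3 hτ1 ?_
    have := hq4 _ hQ
    have he : χ ⟨_, hmem⟩ = τ * σ * τ⁻¹ * σ⁻¹ := by
      rw [hτ, hσ]
      show ψ (Subgroup.inclusion le_normalizer ⟨_, hmem⟩) =
        ψ (Subgroup.inclusion le_normalizer y) * ψ ⟨s, hsN⟩ * (ψ (Subgroup.inclusion le_normalizer y))⁻¹ * (ψ ⟨s, hsN⟩)⁻¹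
      rw [show Subgroup.inclusion le_normalizer ⟨_, hmem⟩ = Subgroup.inclusion le_normalizer y * ⟨s, hsN⟩ *
        (Subgroup.inclusion le_normalizer y)⁻¹ * (⟨s, hsN⟩ : ↥N)⁻¹ from Subtype.ext rfl]
      simp only [map_mul, map_inv]
    rwa [he] at this
  · have heven : Equiv.Perm.sign σ = 1 := (Int.units_eq_one_or _).resolve_right hodd
    obtain ⟨a, ha⟩ := hχsurj σ heven
    have hc : ∀ x ∈ A, Commute ((a : K)⁻¹ * s) x := fun x hx =>
      hker (⟨(a : K)⁻¹, inv_mem (hAN a)⟩ * ⟨s, hsN⟩) (by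
        rw [map_mul, ← hσ, ← ha]
        show ψ _ * ψ (Subgroup.inclusion le_normalizer a) = 1
        rw [← map_mul]
        refine (congrArg ψ ?_).trans (map_one ψ)
        exact Subtype.ext (inv_mul_cancel (a : K))) x hx
    refine ⟨a, ?_, hc⟩
    -- a 2-element fixing the point lies in the Sylow subgroup
    have hσk : σ ^ 2 ^ k = 1 := by
      rw [hσ, ← map_pow, show (⟨s, hsN⟩ : ↥N) ^ 2 ^ k = 1 from Subtype.ext hs, map_one]
    have hanorm : a ∈ normalizer (Q : Set ↥A) := by
      rw [← Sylow.smul_eq_iff_mem_normalizer]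
      refine Sylow.ext ?_
      have h := congrArg Sylow.toSubgroup ((hψ (Subgroup.inclusion le_normalizer a)).1 (by
        show χ a 0 = 0
        rw [ha, hσ0]))
      exact h
    have ha2 : χ (a ^ 2 ^ k) = 1 := by rw [map_pow, ha, hσk]
    have hp : ∃ m : ℕ, a ^ 2 ^ m = 1 := by
      refine ⟨k + 1, ?_⟩
      rcases hχk _ ha2 with h | h
      · rw [pow_succ, pow_mul, e.map_eq_one_iff.1 h, one_pow]
      · refine e.injective ?_
        rw [pow_succ, pow_mul, map_pow, h, map_one]
        simp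
    obtain ⟨m, hm⟩ := hp
    have hpg : IsPGroup 2 ↥(zpowers a) := by
      intro x
      obtain ⟨j, hj⟩ := mem_zpowers_iff.1 x.2
      refine ⟨m, Subtype.ext ?_⟩
      show (x : ↥A) ^ 2 ^ m = 1
      rw [← hj, ← zpow_natCast, ← zpow_mul, mul_comm, zpow_mul, zpow_natCast, hm, one_zpow]
    exact (hpg.inf_normalizer_sylow Q).le ⟨mem_zpowers a, hanorm⟩ |>.2

end Cfsg.Agent.RankOneInter
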