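import Cfsg.Agent.Lib.RankOneInter.TwoCompOdd
import Cfsg.Agent.Lib.CyclicSylowInter.Defs
import Cfsg.Agent.Lib.Components.Basic
import Cfsg.Agent.Lib.Components.Fitting
import Cfsg.Agent.Lib.Cores.Subnormal
import Cfsg.Agent.Lib.PGroups.UniqueSubgroup
import Cfsg.Agent.Lib.ZStar.Consequences
import Cfsg.Agent.Lib.GW.ConsDGroupTwo

/-!
# Two components when a four group lies in only one Sylow 2-subgroup
-/

set_option autoImplicit false
set_option linter.unusedSectionVars false
set_option linter.style.haveILetI false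

namespace Cfsg.Agent.RankOneInter

open Subgroup
open scoped Pointwise
open Cfsg.Agent.Components

universe u

/-- A four group lies in only one Sylow 2-subgroup. -/
def FourOnce (K : Type u) [Group K] : Prop :=
  ∀ (S T : Sylow 2 K) (u v : K), orderOf u = 2 → orderOf v = 2 → u ≠ v → Commute u v →
    u ∈ (S : Subgroup K) → v ∈ (S : Subgroup K) → u ∈ (T : Subgroup K) → v ∈ (T : Subgroup K) → S = T

variable {K : Type u} [Group K] [Finite K]

/-- From the hypothesis on ranks to four groups modulo the odd core. -/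
theorem fourOnce_quotient {G : Type u} [Group G] [Finite G]
    (hI : ∀ S T : Sylow 2 G, S ≠ T → Cfsg.PRankLE 2 1 ↥((S : Subgroup G) ⊓ (T : Subgroup G)))
    (O : Subgroup G) [O.Normal] (hO : Odd (Nat.card ↥O)) : FourOnce (G ⧸ O) := by
  haveI : Fact (Nat.Prime 2) := ⟨Nat.prime_two⟩
  set π := QuotientGroup.mk' O
  have hπ : Function.Surjective π := QuotientGroup.mk'_surjective O
  intro S' T' u v hu hv huv hc huS hvS huT hvT
  obtain ⟨S, rfl⟩ := Sylow.mapSurjective_surjective hπ 2 S'
  obtain ⟨T, rfl⟩ := Sylow.mapSurjective_surjective hπ 2 T'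
  obtain ⟨s, hs, rfl⟩ := huS
  obtain ⟨t, ht, rfl⟩ := hvS
  have hSO : ∀ x ∈ (S : Subgroup G), π x = 1 → x = 1 := by
    intro x hx hxO
    obtain ⟨k, hk⟩ := S.isPGroup' ⟨x, hx⟩
    refine orderOf_eq_one_iff.1 ?_
    exact Nat.eq_one_of_dvd_coprimes ((Nat.coprime_two_left.2 hO).pow_left k)
      (orderOf_dvd_of_pow_eq_one (congrArg Subtype.val hk))
      (O.orderOf_dvd_natCard ((QuotientGroup.eq_one_iff x).1 hxO))
  have hss : s * s = 1 := hSO _ (mul_mem hs hs) (by rw [map_mul, ← pow_two, ← hu, pow_orderOf_eq_one])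
  have htt : t * t = 1 := hSO _ (mul_mem ht ht) (by rw [map_mul, ← pow_two, ← hv, pow_orderOf_eq_one])
  have hst : Commute s t := by
    have h := hSO (s * t * s⁻¹ * t⁻¹) (mul_mem (mul_mem (mul_mem hs ht) (inv_mem hs)) (inv_mem ht)) (by
      rw [map_mul, map_mul, map_mul, map_inv, map_inv, hc.eq, mul_inv_cancel_right, mul_inv_cancel])
    rw [mul_inv_eq_one, mul_inv_eq_iff_eq_mul] at h
    exact h
  set V := closure ({s, t} : Set G) with hV
  have hVp : IsPGroup 2 ↥V := S.isPGroup'.to_le (closure_le _ |>.2 (by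
    rintro x (rfl | rfl) <;> assumption))
  set H := ((T.mapSurjective hπ : Sylow 2 (G ⧸ O)) : Subgroup (G ⧸ O)).comap π with hH
  have hTH : (T : Subgroup G) ≤ H := fun x hx => ⟨x, hx, rfl⟩
  have hVH : V ≤ H := (closure_le _).2 (by rintro x (rfl | rfl) <;> assumption)
  obtain ⟨P, hP⟩ := (hVp.comap_subtype (K := H)).exists_le_sylow
  obtain ⟨h, hh⟩ := MulAction.exists_smul_eq ↥H (T.subtype hTH) P
  obtain ⟨x, hx, hxe⟩ : π (h : G) ∈ ((T.mapSurjective hπ : Sylow 2 (G ⧸ O)) : Subgroup (G ⧸ O)) := h.2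
  set T₁ : Sylow 2 G := (h : G) • T with hT₁
  have hVT : ∀ y ∈ V, y ∈ (T₁ : Subgroup G) := by
    intro y hy
    have h1 : (⟨y, hVH hy⟩ : ↥H) ∈ (P : Subgroup ↥H) := hP hy
    rw [← hh, Sylow.coe_subgroup_smul, Subgroup.mem_pointwise_smul_iff_inv_smul_mem] at h1
    rw [hT₁, Sylow.coe_subgroup_smul, Subgroup.mem_pointwise_smul_iff_inv_smul_mem]
    exact h1
  have heq : S = T₁ := by
    by_contra hne
    have hrank := hI S T₁ hne
    have hle : V ≤ (S : Subgroup G) ⊓ (T₁ : Subgroup G) :=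
      le_inf ((closure_le _).2 (by rintro x (rfl | rfl) <;> assumption)) hVT
    set A := V.subgroupOf ((S : Subgroup G) ⊓ (T₁ : Subgroup G))
    have hcV : ∀ a ∈ V, ∀ b ∈ V, a * b = b * a := by
      intro a ha b hb
      haveI := Subgroup.isMulCommutative_closure (k := ({s, t} : Set G)) (by
        rintro x (rfl | rfl) y (rfl | rfl)
        exacts [rfl, hst.eq, hst.symm.eq, rfl])
      exact congrArg Subtype.val (mul_comm' (⟨a, ha⟩ : ↥(closure ({s, t} : Set G))) ⟨b, hb⟩)
    have hsq : ∀ a ∈ V, a * a = 1 := by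
      intro a ha
      induction ha using closure_induction with
      | mem x hx => rcases hx with rfl | rfl <;> assumption
      | one => exact one_mul 1
      | mul x y hx hy ex ey =>
        rw [(show Commute y x from hcV y hy x hx).mul_mul_mul_comm, ex, ey, one_mul]
      | inv x _ ex => rw [← mul_inv_rev, ex, inv_one]
    have h2 := hrank A ⟨⟨fun a b => Subtype.ext (Subtype.ext (hcV _ a.2 _ b.2))⟩⟩
      (fun a ha => Subtype.ext (by rw [pow_two]; exact hsq _ ha))
    rw [Nat.card_congr (Subgroup.subgroupOfEquivOfLe hle).toEquiv] at h2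
    have h3 : ({1, s, t} : Set G).ncard ≤ Nat.card ↥V := by
      rw [← SetLike.coe_sort_coe, Nat.card_coe_set_eq]
      exact Set.ncard_le_ncard (by
        rintro y (rfl | rfl | rfl)
        exacts [one_mem _, subset_closure (Or.inl rfl), subset_closure (Or.inr rfl)]) (Set.toFinite _)
    rw [Set.ncard_insert_of_notMem, Set.ncard_pair (fun e => huv (by rw [e]))] at h3
    · omega
    · rintro (e | e) <;> subst e
      · rw [map_one, orderOf_one] at hu; omega
      · rw [map_one, orderOf_one] at hv; omega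
  refine Sylow.ext ?_
  rw [heq, hT₁]
  show ((((h : G) • T : Sylow 2 G) : Subgroup G).map π) = (T : Subgroup G).map π
  refine eq_of_le_of_card_ge ?_ (le_of_eq ?_)
  · rintro _ ⟨y, hy, rfl⟩
    rw [Sylow.coe_subgroup_smul, SetLike.mem_coe, Subgroup.mem_pointwise_smul_iff_inv_smul_mem] at hy
    refine ⟨x * ((h : G)⁻¹ * y * h) * x⁻¹, mul_mem (mul_mem hx ?_) (inv_mem hx), ?_⟩
    · simpa [MulAut.smul_def] using hy
    · rw [map_mul, map_mul, map_inv, map_mul, map_mul, map_inv, hxe]
      group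
  · have h1 := (T.mapSurjective hπ).card_eq_multiplicity
    have h2 := (((h : G) • T : Sylow 2 G).mapSurjective hπ).card_eq_multiplicity
    exact h1.trans h2.symm

theorem component_perfect {A : Subgroup K} (hA : Cfsg.IsComponent A) : _root_.commutator ↥A = ⊤ :=
  hA.2.1.commutator_eq_top

theorem component_center_sylow {A : Subgroup K} (hA : Cfsg.IsComponent A) (hO : Cfsg.oddCore K = ⊥) :
    Cfsg.oddCore ↥A = ⊥ := by
  have hsn : ((Cfsg.oddCore ↥A).map A.subtype).IsSubnormal :=
    (Basic.isSubnormal_map_subtype_iff hA.1 _).2 (Subgroup.Normal.isSubnormal inferInstance)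
  have h := Cores.le_oddCore_of_isSubnormal hsn (by
    rw [card_map_of_injective A.subtype_injective]; exact InvChar.Core.odd_card_oddCore)
  rwa [hO, le_bot_iff, map_eq_bot_iff_of_injective _ A.subtype_injective] at h

/-- Two commuting involutions centralised by a component are equal. -/
theorem FourOnce.eq_of_centralized (hG : FourOnce K) {A : Subgroup K} (hA : Cfsg.IsComponent A)
    {u v : K} (hu : orderOf u = 2) (hv : orderOf v = 2) (hc : Commute u v)
    (huA : ∀ a ∈ A, Commute u a) (hvA : ∀ a ∈ A, Commute v a) : u = v := by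
  haveI : Fact (Nat.Prime 2) := ⟨Nat.prime_two⟩
  by_contra hne
  obtain ⟨P⟩ : Nonempty (Sylow 2 ↥A) := inferInstance
  set P' := (P : Subgroup ↥A).map A.subtype
  have hnorm : ∀ (w : K), (∀ a ∈ A, Commute w a) → ∀ (H : Subgroup K), H ≤ A → zpowers w ≤ normalizer (H : Set K) := by
    intro w hw H hH
    refine zpowers_le.2 (centralizer_le_normalizer _ (mem_centralizer_iff.2 fun x hx => (hw x (hH hx)).symm.eq))
  have hpu : IsPGroup 2 ↥(zpowers u) := IsPGroup.of_card (n := 1) (by rw [Nat.card_zpowers, hu, pow_one])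
  have hpv : IsPGroup 2 ↥(zpowers v) := IsPGroup.of_card (n := 1) (by rw [Nat.card_zpowers, hv, pow_one])
  have h1 : IsPGroup 2 ↥(P' ⊔ zpowers u) :=
    (P.isPGroup'.map A.subtype).to_sup_of_normal_left' hpu (hnorm u huA P' (map_subtype_le _))
  have h2 : IsPGroup 2 ↥(P' ⊔ zpowers u ⊔ zpowers v) := by
    refine h1.to_sup_of_normal_left' hpv (zpowers_le.2 (centralizer_le_normalizer _ ?_))
    rw [mem_centralizer_iff]
    intro x hx
    have hle : P' ⊔ zpowers u ≤ centralizer {v} := sup_le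
      (fun a ha => mem_centralizer_singleton_iff.2 (hvA a (map_subtype_le _ ha)).symm.eq)
      (zpowers_le.2 (mem_centralizer_singleton_iff.2 hc.eq))
    exact mem_centralizer_singleton_iff.1 (hle hx)
  obtain ⟨S, hS⟩ := h2.exists_le_sylow
  have huS : u ∈ (S : Subgroup K) := hS (mem_sup_left (mem_sup_right (mem_zpowers u)))
  have hvS : v ∈ (S : Subgroup K) := hS (mem_sup_right (mem_zpowers v))
  have hPS : ∀ q : ↥A, q ∈ (P : Subgroup ↥A) → (q : K) ∈ (S : Subgroup K) := fun q hq =>
    hS (mem_sup_left (mem_sup_left ⟨q, hq, rfl⟩))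
  have hfix : ∀ y : ↥A, ((y : K) • S : Sylow 2 K) = S := by
    intro y
    refine hG _ _ u v hu hv hne hc ?_ ?_ huS hvS
    all_goals rw [Sylow.coe_subgroup_smul, Subgroup.mem_pointwise_smul_iff_inv_smul_mem, MulAut.smul_def,
      ← map_inv, MulAut.conj_apply, inv_inv]
    · rw [((huA y y.2).symm.inv_left).eq, inv_mul_cancel_right]
      exact huS
    · rw [((hvA y y.2).symm.inv_left).eq, inv_mul_cancel_right]
      exact hvS
  haveI hPn : (P : Subgroup ↥A).Normal := ⟨fun x hx y => mem_of_mem_sylow P S hPS (by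
    rw [← hfix y, Sylow.coe_subgroup_smul, Subgroup.mem_pointwise_smul_iff_inv_smul_mem, MulAut.smul_def,
      ← map_inv, MulAut.conj_apply, inv_inv]
    simpa [mul_assoc] using hPS x hx)⟩
  refine Basic.component_not_isSolvable hA ?_
  haveI : Group.IsNilpotent ↥(P : Subgroup ↥A) := P.isPGroup'.isNilpotent
  haveI : Group.IsSolvable (↥A ⧸ (P : Subgroup ↥A)) := S0205.result (by
    rw [← Subgroup.index_eq_card, ← Nat.not_even_iff_odd, even_iff_two_dvd]
    exact P.not_dvd_index)
  exact Group.isSolvable_of_ker_le_range (P : Subgroup ↥A).subtype (QuotientGroup.mk' (P : Subgroup ↥A))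
    (by rw [QuotientGroup.ker_mk', range_subtype])

theorem component_even {A : Subgroup K} (hA : Cfsg.IsComponent A) : 2 ∣ Nat.card ↥A := by
  by_contra h
  exact Basic.component_not_isSolvable hA (S0205.result (by
    rw [← Nat.not_even_iff_odd, even_iff_two_dvd]; exact h))

theorem commute_of_components {A B : Subgroup K} (hA : Cfsg.IsComponent A) (hB : Cfsg.IsComponent B)
    (hne : A ≠ B) : ∀ a ∈ A, ∀ b ∈ B, Commute a b := fun a ha b hb =>
  (mem_centralizer_iff.1 (commutator_eq_bot_iff_le_centralizer.1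
    (Basic.component_commutator_eq_bot_of_ne hA hB hne) ha) b hb).symm

/-- A component next to another one has a central involution. -/
theorem exists_central_involution (hG : FourOnce K) (hO : Cfsg.oddCore K = ⊥) {A B : Subgroup K}
    (hA : Cfsg.IsComponent A) (hB : Cfsg.IsComponent B) (hne : A ≠ B) :
    ∃ z ∈ A, orderOf z = 2 ∧ (∀ a ∈ A, Commute z a) ∧ ∀ b ∈ B, Commute z b := by
  haveI : Fact (Nat.Prime 2) := ⟨Nat.prime_two⟩
  have hc := commute_of_components hA hB hne
  have hU : ZStar.UniqueInvolution.CommInvEq ↥A := fun a b ha hb hab => Subtype.ext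
    (hG.eq_of_centralized hB ((orderOf_coe a).trans ha) ((orderOf_coe b).trans hb)
      (congrArg Subtype.val hab.eq) (fun x hx => hc a a.2 x hx) (fun x hx => hc b b.2 x hx))
  obtain ⟨z, hz⟩ := exists_prime_orderOf_dvd_card' (G := ↥A) 2 (component_even hA)
  have hzc := ZStar.Main.mem_center_of_isolated (component_center_sylow hA hO)
    (ZStar.UniqueInvolution.isolated hU hz)
  exact ⟨z, z.2, (orderOf_coe z).trans hz, fun a ha =>
    congrArg Subtype.val (mem_center_iff.1 hzc ⟨a, ha⟩).symm, fun b hb => hc z z.2 b hb⟩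

/-- The common involution of two components and its properties. -/
structure Pair (A B : Subgroup K) (z : K) : Prop where
  compA : Cfsg.IsComponent A
  compB : Cfsg.IsComponent B
  ne : A ≠ B
  zA : z ∈ A
  zB : z ∈ B
  ord : orderOf z = 2
  cA : ∀ a ∈ A, Commute z a
  cB : ∀ b ∈ B, Commute z b

theorem exists_pair (hG : FourOnce K) (hO : Cfsg.oddCore K = ⊥) {A B : Subgroup K}
    (hA : Cfsg.IsComponent A) (hB : Cfsg.IsComponent B) (hne : A ≠ B) : ∃ z, Pair A B z := by
  obtain ⟨z, hzA, hz, hzcA, hzcB⟩ := exists_central_involution hG hO hA hB hne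
  obtain ⟨w, hwB, hw, hwcB, hwcA⟩ := exists_central_involution hG hO hB hA (Ne.symm hne)
  have e : z = w := hG.eq_of_centralized hA hz hw (hwcA z hzA).symm hzcA hwcA
  exact ⟨z, hA, hB, hne, hzA, e ▸ hwB, hz, hzcA, hzcB⟩

variable {A B : Subgroup K} {z : K}

theorem Pair.symm (h : Pair A B z) : Pair B A z :=
  ⟨h.compB, h.compA, Ne.symm h.ne, h.zB, h.zA, h.ord, h.cB, h.cA⟩

theorem Pair.zz (h : Pair A B z) : z * z = 1 := by rw [← pow_two, ← h.ord, pow_orderOf_eq_one]

theorem Pair.comm (h : Pair A B z) : ∀ a ∈ A, ∀ b ∈ B, Commute a b :=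
  commute_of_components h.compA h.compB h.ne

/-- `z` is the only involution commuting with it and centralising `A`. -/
theorem Pair.sq_one_cases (h : Pair A B z) (hG : FourOnce K) {w : K} (hww : w * w = 1)
    (hwz : Commute w z) (hwA : ∀ a ∈ A, Commute w a) : w = 1 ∨ w = z := by
  by_cases h1 : w = 1
  · exact Or.inl h1
  · exact Or.inr (hG.eq_of_centralized h.compA (orderOf_eq_prime (by rw [pow_two]; exact hww) h1) h.ord
      hwz hwA h.cA)

theorem Pair.uniq (h : Pair A B z) (hG : FourOnce K) {a : K} (ha : a ∈ A) (haa : a * a = 1) :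
    a = 1 ∨ a = z :=
  h.symm.sq_one_cases hG haa (h.cA a ha).symm fun b hb => h.comm a ha b hb

/-- An element of order four squaring to `z`. -/
theorem Pair.exists_four (h : Pair A B z) (hG : FourOnce K) :
    ∃ j ∈ A, j * j = z := by
  haveI : Fact (Nat.Prime 2) := ⟨Nat.prime_two⟩
  obtain ⟨P⟩ : Nonempty (Sylow 2 ↥A) := inferInstance
  have hnc : ¬ IsCyclic ↥(P : Subgroup ↥A) :=
    GW.ConsDGroup.not_cyclic_sylow (Basic.component_not_isSolvable h.compA) P
  by_contra hcon
  push Not at hcon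
  refine hnc ?_
  have hall : ∀ p : ↥(P : Subgroup ↥A), ((p : ↥A) : K) = 1 ∨ ((p : ↥A) : K) = z := by
    intro p
    obtain ⟨k, hk⟩ := P.isPGroup' p
    have hk' : ((p : ↥A) : K) ^ 2 ^ k = 1 := by
      have := congrArg (fun x : ↥(P : Subgroup ↥A) => ((x : ↥A) : K)) hk
      simpa using this
    clear hk
    have key : ∀ k : ℕ, ∀ a ∈ A, a ^ 2 ^ k = 1 → a = 1 ∨ a = z := by
      intro k
      induction k with
      | zero => intro a _ h0; left; simpa using h0
      | succ k ih =>
        intro a ha h0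
        rcases ih (a * a) (mul_mem ha ha) (by rw [← pow_two, ← pow_mul, ← pow_succ', h0]) with e | e
        · exact h.uniq hG ha e
        · exact absurd e (hcon a ha)
    exact key k _ (p : ↥A).2 hk'
  have h2 : Nat.card ↥(P : Subgroup ↥A) ≤ 2 := by
    refine (Nat.card_le_card_of_injective
      (fun p : ↥(P : Subgroup ↥A) => (⟨((p : ↥A) : K), hall p⟩ : ({1, z} : Set K))) ?_).trans ?_
    · exact fun p q e => Subtype.ext (Subtype.ext (congrArg (fun x : ({1, z} : Set K) => (x : K)) e))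
    · rw [Nat.card_coe_set_eq]
      exact (Set.ncard_insert_le _ _).trans (by rw [Set.ncard_singleton])
  rcases (show Nat.card ↥(P : Subgroup ↥A) = 1 ∨ Nat.card ↥(P : Subgroup ↥A) = 2 by
    have := Nat.card_pos (α := ↥(P : Subgroup ↥A)); omega) with e | e
  · haveI := (Nat.card_eq_one_iff_unique.1 e).1
    exact isCyclic_of_subsingleton
  · exact isCyclic_of_prime_card e

theorem isCyclic_quaternion_one : IsCyclic (QuaternionGroup 1) := by
  refine ⟨⟨QuaternionGroup.xa 0, fun x => ?_⟩⟩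
  have h : ∀ x : QuaternionGroup 1, x = (QuaternionGroup.xa 0) ^ 0 ∨ x = (QuaternionGroup.xa 0) ^ 1 ∨
      x = (QuaternionGroup.xa 0) ^ 2 ∨ x = (QuaternionGroup.xa 0) ^ 3 := by decide
  rcases h x with e | e | e | e
  exacts [⟨(0 : ℕ), e.symm⟩, ⟨(1 : ℕ), e.symm⟩, ⟨(2 : ℕ), e.symm⟩, ⟨(3 : ℕ), e.symm⟩]

/-- The centre of a component is `{1, z}`. -/
theorem Pair.center_cases (h : Pair A B z) (hG : FourOnce K) (hO : Cfsg.oddCore K = ⊥) {c : K}
    (hc : c ∈ A) (hcA : ∀ a ∈ A, Commute c a) : c = 1 ∨ c = z := by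
  haveI : Fact (Nat.Prime 2) := ⟨Nat.prime_two⟩
  refine h.uniq hG hc ?_
  -- `c` is a 2-element
  have hcp : IsPGroup 2 ↥(zpowers c) := by
    have hcen : IsPGroup 2 ↥(center ↥A) :=
      InvChar.Core.isPGroup_center_of_oddCore_eq_bot (component_center_sylow h.compA hO)
    obtain ⟨k, hk⟩ := hcen ⟨⟨c, hc⟩, mem_center_iff.2 fun a => Subtype.ext (hcA a a.2).symm.eq⟩
    exact isPGroup_two_of_pow (n := k) (by
      have := congrArg (fun x : ↥(center ↥A) => ((x : ↥A) : K)) hk
      simpa using this)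
  obtain ⟨R⟩ : Nonempty (Sylow 2 ↥B) := inferInstance
  set R' := (R : Subgroup ↥B).map B.subtype
  set P := R' ⊔ zpowers c with hP
  have hPp : IsPGroup 2 ↥P := (R.isPGroup'.map B.subtype).to_sup_of_normal_left' hcp
    (zpowers_le.2 (centralizer_le_normalizer _ (mem_centralizer_iff.2 fun x hx =>
      (h.comm c hc x (map_subtype_le _ hx)).symm.eq)))
  have hPA : P ≤ centralizer (A : Set K) := sup_le
    (fun x hx => mem_centralizer_iff.2 fun a ha => (h.comm a ha x (map_subtype_le _ hx)).eq)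
    (zpowers_le.2 (mem_centralizer_iff.2 fun a ha => (hcA a ha).symm.eq))
  have hPz : P ≤ centralizer {z} := sup_le
    (fun x hx => mem_centralizer_singleton_iff.2 (h.cB x (map_subtype_le _ hx)).symm.eq)
    (zpowers_le.2 (mem_centralizer_singleton_iff.2 (h.cA c hc).symm.eq))
  have hone : ∀ w : ↥P, w ^ 2 = 1 → w ≠ 1 → (w : K) = z := fun w hw2 hw1 =>
    (h.sq_one_cases hG (by rw [← pow_two]; exact congrArg Subtype.val hw2)
      (mem_centralizer_singleton_iff.1 (hPz w.2))
      (fun a ha => (mem_centralizer_iff.1 (hPA w.2) a ha).symm)).resolve_left fun e => hw1 (Subtype.ext e)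
  have huniq : ∀ H J : Subgroup ↥P, Nat.card ↥H = 2 → Nat.card ↥J = 2 → H = J := by
    have key : ∀ H : Subgroup ↥P, Nat.card ↥H = 2 → ∀ x ∈ H, (x : K) = 1 ∨ (x : K) = z := by
      intro H hH x hx
      by_cases e : x = 1
      · exact Or.inl (congrArg Subtype.val e)
      · exact Or.inr (hone x (congrArg Subtype.val (hH ▸ pow_card_eq_one' (x := (⟨x, hx⟩ : ↥H)))) e)
    have gen : ∀ H J : Subgroup ↥P, Nat.card ↥H = 2 → Nat.card ↥J = 2 → H ≤ J := by
      intro H J hH hJ x hx
      rcases key H hH x hx with e | e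
      · rw [show x = 1 from Subtype.ext e]; exact one_mem _
      · obtain ⟨y, hy, hy1⟩ : ∃ y ∈ J, y ≠ 1 := by
          by_contra hcon
          push Not at hcon
          rw [(eq_bot_iff_forall J).2 hcon, card_bot] at hJ
          omega
        rwa [show x = y from Subtype.ext (e.trans ((key J hJ y hy).resolve_left
          fun e' => hy1 (Subtype.ext e')).symm)]
    exact fun H J hH hJ => le_antisymm (gen H J hH hJ) (gen J H hJ hH)
  have hnc : ¬ IsCyclic ↥P := fun hcy => GW.ConsDGroup.not_cyclic_sylow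
    (Basic.component_not_isSolvable h.compB) R
    (((R : Subgroup ↥B).equivMapOfInjective _ B.subtype_injective).isCyclic.2
      (Subgroup.isCyclic_of_le (le_sup_left : R' ≤ P)))
  rcases PGroups.UniqueSubgroup.isCyclic_or_quaternion hPp huniq with hcy | ⟨-, n, ⟨e⟩⟩
  · exact absurd hcy hnc
  · rcases Nat.eq_zero_or_pos n with rfl | hn
    · exact absurd (e.isCyclic.2 (by simpa using isCyclic_quaternion_one)) hnc
    · have hcP : c ∈ P := mem_sup_right (mem_zpowers c)
      have hPc : P ≤ centralizer {c} := sup_le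
        (fun x hx => mem_centralizer_singleton_iff.2 (h.comm c hc x (map_subtype_le _ hx)).symm.eq)
        (zpowers_le.2 (mem_centralizer_singleton_iff.2 rfl))
      have h' := ZStar.Consequences.quaternion_center (x := e ⟨c, hcP⟩)
        (Nat.le_self_pow (Nat.pos_iff_ne_zero.1 hn) 2) fun y => by
          obtain ⟨w, rfl⟩ := e.surjective y
          rw [← map_mul, ← map_mul]
          exact congrArg e (Subtype.ext (mem_centralizer_singleton_iff.1 (hPc w.2)))
      rw [← map_mul, ← map_one e] at h'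
      exact congrArg Subtype.val (e.injective h')

/-- A component modulo its centre has disjoint Sylow 2-subgroups. -/
theorem Pair.tiSylow (h : Pair A B z) (hG : FourOnce K) (hO : Cfsg.oddCore K = ⊥) :
    CyclicSylowInter.TISylow (↥A ⧸ center ↥A) := by
  haveI : Fact (Nat.Prime 2) := ⟨Nat.prime_two⟩
  set π := QuotientGroup.mk' (center ↥A)
  have hπ : Function.Surjective π := QuotientGroup.mk'_surjective _
  intro T₁ T₂ x hx h1 h2
  obtain ⟨P₁, rfl⟩ := Sylow.mapSurjective_surjective hπ 2 T₁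
  obtain ⟨P₂, rfl⟩ := Sylow.mapSurjective_surjective hπ 2 T₂
  obtain ⟨a, ha₁, rfl⟩ := h1
  have hcenP : center ↥A ≤ (P₂ : Subgroup ↥A) := IsPGroup.le_sylow_of_normal
    (InvChar.Core.isPGroup_center_of_oddCore_eq_bot (component_center_sylow h.compA hO)) P₂
  obtain ⟨a', ha', hae⟩ := h2
  have ha₂ : a ∈ (P₂ : Subgroup ↥A) := by
    have := mul_mem ha' (hcenP ((QuotientGroup.eq (a := a') (b := a)).1 hae))
    rwa [mul_inv_cancel_left] at this
  have hcases : ∀ c : ↥A, c ∈ center ↥A → (c : K) = 1 ∨ (c : K) = z := fun c hc =>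
    h.center_cases hG hO c.2 fun b hb => (congrArg Subtype.val (mem_center_iff.1 hc ⟨b, hb⟩)).symm
  have hsq : a * a ∈ center ↥A := by
    rw [← QuotientGroup.eq_one_iff]
    show π (a * a) = 1
    rw [map_mul, ← pow_two, ← hx, pow_orderOf_eq_one]
  have hnc : a ∉ center ↥A := fun hc => by
    rw [show π a = 1 from (QuotientGroup.eq_one_iff a).2 hc, orderOf_one] at hx
    omega
  have haz : (a : K) * a = z := by
    refine (hcases _ hsq).resolve_left fun e => hnc ?_
    rcases h.uniq hG a.2 e with e' | e'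
    · rw [show a = 1 from Subtype.ext e']; exact one_mem _
    · exact mem_center_iff.2 fun g => Subtype.ext (by rw [coe_mul, coe_mul, e']; exact (h.cA g g.2).symm.eq)
  obtain ⟨j, hj, hjj⟩ := h.symm.exists_four hG
  have hjp : IsPGroup 2 ↥(zpowers j) := isPGroup_two_of_pow (n := 2)
    (by rw [show 2 ^ 2 = 2 * 2 from rfl, pow_mul, pow_two j, hjj, pow_two, h.zz])
  have hcaj : Commute (a : K) j := h.comm a a.2 j hj
  have hu : orderOf ((a : K) * j) = 2 := by
    refine orderOf_eq_prime (by rw [pow_two, hcaj.symm.mul_mul_mul_comm, haz, hjj, h.zz]) fun e => ?_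
    have haB : (a : K) ∈ B := by rw [eq_inv_of_mul_eq_one_left e]; exact inv_mem hj
    exact hnc (mem_center_iff.2 fun g => Subtype.ext (h.comm g g.2 a haB).eq)
  have huz : (a : K) * j ≠ z := fun e => by
    have haB : (a : K) ∈ B := by rw [eq_mul_inv_of_mul_eq e]; exact mul_mem h.zB (inv_mem hj)
    exact hnc (mem_center_iff.2 fun g => Subtype.ext (h.comm g g.2 a haB).eq)
  have hex : ∀ P : Sylow 2 ↥A, a ∈ (P : Subgroup ↥A) → ∃ S : Sylow 2 K,
      (∀ q : ↥A, q ∈ (P : Subgroup ↥A) → (q : K) ∈ (S : Subgroup K)) ∧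
        (a : K) * j ∈ (S : Subgroup K) ∧ z ∈ (S : Subgroup K) := by
    intro P haP
    obtain ⟨S, hS⟩ := ((P.isPGroup'.map A.subtype).to_sup_of_normal_left' hjp
      (zpowers_le.2 (centralizer_le_normalizer _ (mem_centralizer_iff.2 fun x hx =>
        (h.comm x (map_subtype_le _ hx) j hj).eq)))).exists_le_sylow
    refine ⟨S, fun q hq => hS (mem_sup_left ⟨q, hq, rfl⟩), mul_mem (hS (mem_sup_left ⟨a, haP, rfl⟩))
      (hS (mem_sup_right (mem_zpowers j))), ?_⟩
    rw [← hjj]
    exact mul_mem (hS (mem_sup_right (mem_zpowers j))) (hS (mem_sup_right (mem_zpowers j)))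
  obtain ⟨S₁, hS₁, hu₁, hz₁⟩ := hex P₁ ha₁
  obtain ⟨S₂, hS₂, hu₂, hz₂⟩ := hex P₂ ha₂
  have hSS := hG S₁ S₂ _ z hu h.ord huz
    ((h.cA a a.2).symm.mul_left (h.cB j hj).symm) hu₁ hz₁ hu₂ hz₂
  have hPP : P₁ = P₂ := Sylow.ext (le_antisymm
    (fun q hq => mem_of_mem_sylow P₂ S₂ hS₂ (hSS ▸ hS₁ q hq))
    (fun q hq => mem_of_mem_sylow P₁ S₁ hS₁ (hSS.symm ▸ hS₂ q hq)))
  rw [hPP]

theorem cycInt_of_ti {Q : Type u} [Group Q] [Finite Q] (h : CyclicSylowInter.TISylow Q) :
    ZStar.CyclicIntersections.CycInt Q := by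
  haveI : Fact (Nat.Prime 2) := ⟨Nat.prime_two⟩
  intro S T hne
  have hbot : (S : Subgroup Q) ⊓ (T : Subgroup Q) = ⊥ := by
    by_contra hb
    haveI := (nontrivial_iff_ne_bot _).2 hb
    have hp := S.isPGroup'.to_le (inf_le_left : (S : Subgroup Q) ⊓ (T : Subgroup Q) ≤ S)
    obtain ⟨n, hn, hcard⟩ := hp.nontrivial_iff_card.1 inferInstance
    obtain ⟨x, hx⟩ := exists_prime_orderOf_dvd_card' (G := ↥((S : Subgroup Q) ⊓ (T : Subgroup Q))) 2
      (hcard ▸ dvd_pow_self 2 hn.ne')
    exact hne (h S T x ((orderOf_coe x).trans hx) x.2.1 x.2.2)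
  rw [hbot]
  infer_instance

theorem Pair.kindTI (h : Pair A B z) (hG : FourOnce K) (hO : Cfsg.oddCore K = ⊥)
    (hT : CyclicSylowInter.TITheorem.{u}) : CyclicSylowInter.KindTI (↥A ⧸ center ↥A) := by
  haveI := h.compA.2.2
  have hti := h.tiSylow hG hO
  refine hT _ (fun hc => Basic.component_not_isSolvable h.compA ?_) (cycInt_of_ti hti) hti
  haveI : Group.IsSolvable (↥A ⧸ center ↥A) :=
    Group.isSolvable_of_comm fun a b => hc.is_comm.comm a b
  haveI : Group.IsSolvable ↥(center ↥A) :=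
    Group.isSolvable_of_comm fun a b => Subtype.ext (mem_center_iff.1 b.2 a)
  exact Group.isSolvable_of_ker_le_range (center ↥A).subtype (QuotientGroup.mk' (center ↥A))
    (by rw [QuotientGroup.ker_mk', range_subtype])

end Cfsg.Agent.RankOneInter
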