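import Cfsg.Agent.Lib.RankOneInter.TwoCompBasics
import Cfsg.Agent.Lib.Cores.Basic

/-!
# Two components give the central product of two copies of `SL(2, 5)` with odd index
-/

set_option autoImplicit false
set_option linter.unusedSectionVars false
set_option linter.style.haveILetI false

namespace Cfsg.Agent.RankOneInter

open Subgroup
open scoped Pointwise MatrixGroups
open Cfsg.Agent.Components

universe u

variable {K : Type u} [Group K] [Finite K]

/-- A normal subgroup whose elements of 2-power order are `1` and the central involution `z`. -/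
theorem le_zpowers_of_two_part (hO : Cfsg.oddCore K = ⊥) (N : Subgroup K) [N.Normal] {z : K}
    (hzN : z ∈ N) (hz : orderOf z = 2) (hzc : ∀ n ∈ N, Commute z n)
    (h2 : ∀ x ∈ N, ∀ k : ℕ, x ^ 2 ^ k = 1 → x = 1 ∨ x = z) : N ≤ zpowers z := by
  haveI : Fact (Nat.Prime 2) := ⟨Nat.prime_two⟩
  let zN : ↥N := ⟨z, hzN⟩
  have hzN2 : orderOf zN = 2 := by rw [← orderOf_coe]; exact hz
  obtain ⟨P, hP⟩ := (IsPGroup.of_card (G := zpowers zN) (p := 2) (n := 1)
    (by rw [Nat.card_zpowers, hzN2, pow_one])).exists_le_sylow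
  have hPle : (P : Subgroup ↥N) = zpowers zN := by
    refine le_antisymm ?_ hP
    intro x hx
    obtain ⟨k, hk⟩ := P.isPGroup' ⟨x, hx⟩
    have hk' : x ^ 2 ^ k = 1 := congrArg Subtype.val hk
    rcases h2 x x.2 k (congrArg Subtype.val hk') with e | e
    · rw [show x = 1 from Subtype.ext e]; exact one_mem _
    · rw [show x = zN from Subtype.ext e]; exact mem_zpowers _
  haveI hZn : (zpowers zN).Normal := ⟨fun x hx g => by
    obtain ⟨j, rfl⟩ := mem_zpowers_iff.1 hx
    have hc : Commute g zN := Subtype.ext (hzc g g.2).symm.eq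
    rw [(hc.zpow_right j).eq, mul_inv_cancel_right]
    exact zpow_mem (mem_zpowers _) j⟩
  have hodd : ¬ 2 ∣ (zpowers zN).index := hPle ▸ P.not_dvd_index
  obtain ⟨H, hH⟩ := exists_right_complement'_of_coprime (N := zpowers zN) (by
    rw [Nat.card_zpowers, hzN2]; exact (Nat.prime_two.coprime_iff_not_dvd).2 hodd)
  have hH2 : H.index = 2 := by rw [hH.index_eq_card, Nat.card_zpowers, hzN2]
  have hHodd : Odd (Nat.card ↥H) := by
    rw [← hH.symm.index_eq_card, Nat.odd_iff]
    omega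
  have hdet : ∀ y : ↥N, Odd (orderOf y) → y ∈ H := by
    intro y hy
    haveI := normal_of_index_eq_two hH2
    have h2' : y * y ∈ H := mul_self_mem_of_index_two hH2 y
    obtain ⟨m, hm⟩ := hy
    have : y * (y * y) ^ m = 1 := by rw [← pow_two, ← pow_mul, ← pow_succ', ← hm, pow_orderOf_eq_one]
    rw [eq_inv_of_mul_eq_one_left this]
    exact inv_mem (pow_mem h2' m)
  haveI : (H.map N.subtype).Normal := ⟨fun x hx g => by
    obtain ⟨y, hy, rfl⟩ := hx
    refine ⟨⟨g * y * g⁻¹, ‹N.Normal›.conj_mem _ y.2 g⟩, hdet _ ?_, rfl⟩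
    rw [← orderOf_coe]
    show Odd (orderOf (g * (y : K) * g⁻¹))
    rw [show g * (y : K) * g⁻¹ = MulAut.conj g (y : K) from rfl, MulEquiv.orderOf_eq, orderOf_coe]
    exact hHodd.of_dvd_nat (H.orderOf_dvd_natCard hy)⟩
  have hH1 : Nat.card ↥H = 1 := by
    have hle : H.map N.subtype ≤ Cfsg.oddCore K := Cfsg.Agent.Cores.le_oddCore (by
      rw [card_map_of_injective N.subtype_injective]; exact hHodd)
    rw [hO, le_bot_iff, map_eq_bot_iff_of_injective _ N.subtype_injective] at hle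
    rw [hle, card_bot]
  have htop : zpowers zN = ⊤ := eq_top_of_card_eq _ (by rw [← hH.card_mul, hH1, mul_one])
  intro x hx
  obtain ⟨j, hj⟩ := mem_zpowers_iff.1 (htop.ge (mem_top (⟨x, hx⟩ : ↥N)))
  exact mem_zpowers_iff.2 ⟨j, by simpa [zN] using congrArg Subtype.val hj⟩

/-- There is no third component. -/
theorem Pair.only (hG : FourOnce K) (hO : Cfsg.oddCore K = ⊥) {A B : Subgroup K} {z : K}
    (h : Pair A B z) {C : Subgroup K} (hC : Cfsg.IsComponent C) : C = A ∨ C = B := by
  by_contra hne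
  push Not at hne
  obtain ⟨w, p⟩ := exists_pair hG hO hC h.compA hne.1
  have hwz : w = z := by
    refine (h.uniq hG p.zB (by rw [← pow_two, ← p.ord, pow_orderOf_eq_one])).resolve_left fun e => ?_
    have := p.ord
    rw [e, orderOf_one] at this
    omega
  subst hwz
  obtain ⟨i, hi, hii⟩ := h.exists_four hG
  obtain ⟨j, hj, hjj⟩ := h.symm.exists_four hG
  have hij : Commute i j := h.comm i hi j hj
  have hcC : ∀ c ∈ C, Commute (i * j) c := fun c hc =>
    (commute_of_components h.compA hC (Ne.symm hne.1) i hi c hc).mul_left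
      (commute_of_components h.compB hC (Ne.symm hne.2) j hj c hc)
  rcases p.sq_one_cases hG (by rw [hij.symm.mul_mul_mul_comm, hii, hjj, h.zz])
    ((h.cA i hi).symm.mul_left (h.cB j hj).symm) hcC with e | e
  all_goals
    have hiB : i ∈ B := by
      first
        | (rw [eq_inv_of_mul_eq_one_left e]; exact inv_mem hj)
        | (rw [eq_mul_inv_of_mul_eq e]; exact mul_mem h.zB (inv_mem hj))
    rcases h.center_cases hG hO hi (fun a ha => (h.comm a ha i hiB).symm) with e' | e' <;>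
      rw [e'] at hii
    · rw [mul_one] at hii
      have := h.ord
      rw [← hii, orderOf_one] at this
      omega
    · have := h.ord
      rw [mul_eq_left.1 hii, orderOf_one] at this
      omega

/-- Two components `SL(2, 5)` generate a normal subgroup of odd index. -/
theorem two_components (hG : FourOnce K) (hO : Cfsg.oddCore K = ⊥)
    (hsl : ∀ (A B : Subgroup K) (z : K), Pair A B z → Nonempty (↥A ≃* SLFive))
    {A B : Subgroup K} (hA : Cfsg.IsComponent A) (hB : Cfsg.IsComponent B) (hne : A ≠ B) :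
    (A ⊔ B).Normal ∧ Odd (A ⊔ B).index ∧ Nonempty (↥A ≃* SLFive) ∧ Nonempty (↥B ≃* SLFive) ∧
      (∀ a ∈ A, ∀ b ∈ B, Commute a b) ∧ A ⊓ B ≠ ⊥ := by
  obtain ⟨z, h⟩ := exists_pair hG hO hA hB hne
  obtain ⟨eA⟩ := hsl A B z h
  obtain ⟨eB⟩ := hsl B A z h.symm
  have hinf : A ⊓ B ≠ ⊥ := fun e => by
    have := h.ord
    rw [(eq_bot_iff_forall _).1 e z ⟨h.zA, h.zB⟩, orderOf_one] at this
    omega
  have himg : ∀ g : K, A.map (MulAut.conj g).toMonoidHom = A ∨ A.map (MulAut.conj g).toMonoidHom = B :=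
    fun g => h.only hG hO (Basic.component_conj hA g)
  have himgB : ∀ g : K, B.map (MulAut.conj g).toMonoidHom = A ∨ B.map (MulAut.conj g).toMonoidHom = B :=
    fun g => h.only hG hO (Basic.component_conj hB g)
  haveI hn : (A ⊔ B).Normal := ⟨fun x hx g => by
    have h1 : g * x * g⁻¹ ∈ (A ⊔ B).map (MulAut.conj g).toMonoidHom := ⟨x, hx, rfl⟩
    rw [Subgroup.map_sup] at h1
    have hA' : A.map (MulAut.conj g).toMonoidHom ≤ A ⊔ B := by
      rcases himg g with e | e <;> rw [e]
      exacts [le_sup_left, le_sup_right]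
    have hB' : B.map (MulAut.conj g).toMonoidHom ≤ A ⊔ B := by
      rcases himgB g with e | e <;> rw [e]
      exacts [le_sup_left, le_sup_right]
    exact sup_le hA' hB' h1⟩
  have hfix : ∀ (C : Subgroup K) (g : K), C.map (MulAut.conj g).toMonoidHom = C →
      ∀ a, a ∈ C ↔ g * a * g⁻¹ ∈ C := fun C g e a => by
    refine ⟨fun ha => e ▸ (⟨a, ha, rfl⟩ : g * a * g⁻¹ ∈ C.map (MulAut.conj g).toMonoidHom), fun ha => ?_⟩
    rw [← e] at ha
    obtain ⟨b, hb, hbe⟩ := ha
    rwa [← (MulAut.conj g).injective hbe]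
  have hperm : ∀ g : K, ((∀ a, a ∈ A ↔ g * a * g⁻¹ ∈ A) ∧ (∀ b, b ∈ B ↔ g * b * g⁻¹ ∈ B)) ∨
      (∀ a ∈ A, g * a * g⁻¹ ∈ B) := by
    intro g
    rcases himg g with e | e
    · refine Or.inl ⟨hfix A g e, hfix B g ((himgB g).resolve_left fun e' => hne ?_)⟩
      exact Subgroup.map_injective (MulAut.conj g).injective (e.trans e'.symm)
    · exact Or.inr fun a ha => e ▸ (⟨a, ha, rfl⟩ : g * a * g⁻¹ ∈ A.map (MulAut.conj g).toMonoidHom)
  have hC : ∀ c : K, (∀ x ∈ A ⊔ B, Commute c x) → c ∈ A ⊔ B := by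
    set N := centralizer ((A ⊔ B : Subgroup K) : Set K)
    have hAN : ∀ x ∈ N, ∀ a ∈ A, Commute x a := fun x hx a ha =>
      (mem_centralizer_iff.1 hx a (mem_sup_left ha)).symm
    have hBN : ∀ x ∈ N, ∀ b ∈ B, Commute x b := fun x hx b hb =>
      (mem_centralizer_iff.1 hx b (mem_sup_right hb)).symm
    have hzN : z ∈ N := mem_centralizer_iff.2 fun x hx => by
      have hle : A ⊔ B ≤ centralizer {z} := sup_le
        (fun a ha => mem_centralizer_singleton_iff.2 (h.cA a ha).symm.eq)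
        (fun b hb => mem_centralizer_singleton_iff.2 (h.cB b hb).symm.eq)
      exact mem_centralizer_singleton_iff.1 (hle hx)
    have hsq : ∀ x ∈ N, x * x ≠ z := by
      intro x hx hxx
      obtain ⟨i, hi, hii⟩ := h.exists_four hG
      have hxi : Commute x i := hAN x hx i hi
      have hcent : ∀ b ∈ B, Commute (x * i) b := fun b hb => (hBN x hx b hb).mul_left (h.comm i hi b hb)
      have hmem : i ∈ N := by
        rcases h.symm.sq_one_cases hG (by rw [hxi.symm.mul_mul_mul_comm, hxx, hii, h.zz])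
          ((hAN x hx z h.zA).mul_left (h.cA i hi).symm) hcent with e | e
        · rw [eq_inv_of_mul_eq_one_right e]; exact inv_mem hx
        · rw [eq_inv_mul_of_mul_eq e]; exact mul_mem (inv_mem hx) hzN
      rcases h.center_cases hG hO hi (fun a ha => hAN i hmem a ha) with e | e <;> rw [e] at hii
      · have := h.ord
        rw [← (mul_one (1 : K)).symm.trans hii, orderOf_one] at this
        omega
      · have := h.ord
        rw [mul_eq_left.1 hii, orderOf_one] at this
        omega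
    have h2 : ∀ k : ℕ, ∀ x ∈ N, x ^ 2 ^ k = 1 → x = 1 ∨ x = z := by
      intro k
      induction k with
      | zero => intro x _ h0; left; simpa using h0
      | succ k ih =>
        intro x hx h0
        rcases ih (x * x) (mul_mem hx hx) (by rw [← pow_two, ← pow_mul, ← pow_succ', h0]) with e | e
        · exact h.sq_one_cases hG e (hAN x hx z h.zA) (hAN x hx)
        · exact absurd e (hsq x hx)
    have hle := le_zpowers_of_two_part hO N hzN h.ord (fun x hx => (hAN x hx z h.zA).symm)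
      fun x hx k => h2 k x hx
    intro c hc
    exact (zpowers_le.2 (mem_sup_left h.zA : z ∈ A ⊔ B))
      (hle (mem_centralizer_iff.2 fun x hx => (hc x hx).symm.eq))
  exact ⟨hn, two_comp_odd eA eB h.comm hinf hperm hC hG, ⟨eA⟩, ⟨eB⟩, h.comm, hinf⟩

/-- Two components modulo the odd core give the second alternative. -/
theorem alternative_b {G : Type u} [Group G] [Finite G]
    (hI : ∀ S T : Sylow 2 G, S ≠ T → Cfsg.PRankLE 2 1 ↥((S : Subgroup G) ⊓ (T : Subgroup G)))
    (hsl : ∀ (A B : Subgroup (G ⧸ Cfsg.oddCore G)) (z : G ⧸ Cfsg.oddCore G),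
      Pair A B z → Nonempty (↥A ≃* SLFive))
    {A B : Subgroup (G ⧸ Cfsg.oddCore G)} (hA : Cfsg.IsComponent A) (hB : Cfsg.IsComponent B)
    (hne : A ≠ B) :
    ∃ (G₁ : Subgroup G) (_ : G₁.Normal) (_ : ((Cfsg.oddCore G).subgroupOf G₁).Normal),
      (Odd G₁.index ∨ ∃ k : ℕ, Odd k ∧ G₁.index = 2 * k) ∧ Cfsg.oddCore G ≤ G₁ ∧
      ∃ (Z : Subgroup (Matrix.SpecialLinearGroup (Fin 2) (ZMod 5) × Matrix.SpecialLinearGroup (Fin 2) (ZMod 5))) (_ : Z.Normal),
        Z = Subgroup.zpowers ((-1 : Matrix.SpecialLinearGroup (Fin 2) (ZMod 5)), (-1 : Matrix.SpecialLinearGroup (Fin 2) (ZMod 5))) ∧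
        Nonempty (↥G₁ ⧸ (Cfsg.oddCore G).subgroupOf G₁ ≃*
          (Matrix.SpecialLinearGroup (Fin 2) (ZMod 5) × Matrix.SpecialLinearGroup (Fin 2) (ZMod 5)) ⧸ Z) := by
  obtain ⟨hn, hodd, ⟨eA⟩, ⟨eB⟩, hc, hinf⟩ := two_components
    (fourOnce_quotient hI _ InvChar.Core.odd_card_oddCore)
    (Cfsg.Agent.Cores.pPrimeCore_quotient_self 2) hsl hA hB hne
  haveI := hn
  obtain ⟨G₁, h1, h2, hidx, hle, Z, hZn, hZ, e⟩ := central_prod_lift (Cfsg.oddCore G) eA eB hc hinf
  exact ⟨G₁, h1, h2, Or.inl (hidx.symm ▸ hodd), hle, Z, hZn, hZ, e⟩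

end Cfsg.Agent.RankOneInter
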