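import Cfsg.Agent.Lib.RankOneInter.TwoComp

/-!
# The central product of two components `SL(2, 5)` has odd index
-/

set_option autoImplicit false
set_option linter.unusedSectionVars false
set_option linter.style.haveILetI false

namespace Cfsg.Agent.RankOneInter

open Subgroup
open scoped Pointwise MatrixGroups

universe u

/-- an element of order four -/
def quarterTurn : SLFive := ⟨!![0, -1; 1, 0], by simp [Matrix.det_fin_two]⟩

theorem quarterTurn_facts : quarterTurn * quarterTurn = -1 ∧ quarterTurn ≠ 1 ∧ quarterTurn ≠ -1 ∧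
    quarterTurn ^ 4 = 1 := by
  decide +kernel

variable {K : Type u} [Group K] [Finite K]

theorem isPGroup_two_of_pow {x : K} {n : ℕ} (h : x ^ 2 ^ n = 1) : IsPGroup 2 ↥(zpowers x) := by
  intro y
  obtain ⟨j, hj⟩ := mem_zpowers_iff.1 y.2
  refine ⟨n, Subtype.ext ?_⟩
  show (y : K) ^ 2 ^ n = 1
  rw [← hj, ← zpow_natCast, ← zpow_mul, mul_comm, zpow_mul, zpow_natCast, h, one_zpow]

theorem mem_inf_center {A B : Subgroup K} (eA : ↥A ≃* SLFive) (hc : ∀ a ∈ A, ∀ b ∈ B, Commute a b)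
    {x : K} (hA : x ∈ A) (hB : x ∈ B) : x = 1 ∨ x = ((eA.symm (-1) : ↥A) : K) := by
  have h : eA ⟨x, hA⟩ = 1 ∨ eA ⟨x, hA⟩ = -1 := center_SLFive fun y => by
    obtain ⟨a, rfl⟩ := eA.surjective y
    rw [← map_mul, ← map_mul]
    exact congrArg eA (Subtype.ext (hc a a.2 x hB).eq)
  rcases h with h | h
  · exact Or.inl (congrArg Subtype.val (eA.map_eq_one_iff.1 h))
  · exact Or.inr (by rw [← h, MulEquiv.symm_apply_apply])

/-- A Sylow subgroup of `K` above one of `A` meets `A` in it. -/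
theorem mem_of_mem_sylow {A : Subgroup K} (Q : Sylow 2 ↥A) (S : Sylow 2 K)
    (hQS : ∀ q : ↥A, q ∈ (Q : Subgroup ↥A) → (q : K) ∈ (S : Subgroup K)) {a : ↥A}
    (ha : (a : K) ∈ (S : Subgroup K)) : a ∈ (Q : Subgroup ↥A) := by
  have h : (S : Subgroup K).subgroupOf A = (Q : Subgroup ↥A) :=
    Q.is_maximal' (S.isPGroup'.comap_of_injective A.subtype A.subtype_injective)
      fun q hq => hQS q hq
  exact h.le ha

/-- The order-three normaliser of one side normalises the Sylow subgroup of `K`. -/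
theorem conj_mem_sylow {A B : Subgroup K} (eA : ↥A ≃* SLFive) (hc : ∀ a ∈ A, ∀ b ∈ B, Commute a b)
    (hGP : ∀ (S T : Sylow 2 K) (u v : K), orderOf u = 2 → orderOf v = 2 → u ≠ v → Commute u v →
      u ∈ (S : Subgroup K) → v ∈ (S : Subgroup K) → u ∈ (T : Subgroup K) → v ∈ (T : Subgroup K) → S = T)
    (Q : Sylow 2 ↥A) (S : Sylow 2 K)
    (hQS : ∀ q : ↥A, q ∈ (Q : Subgroup ↥A) → (q : K) ∈ (S : Subgroup K))
    {i : ↥A} (hi : i ∈ (Q : Subgroup ↥A)) {j : K} (hjB : j ∈ B) (hjS : j ∈ (S : Subgroup K))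
    {z : K} (hz : z = ((eA.symm (-1) : ↥A) : K)) (hu : orderOf ((i : K) * j) = 2)
    (huz : (i : K) * j ≠ z)
    {y : ↥A} (hy : y ∈ normalizer (Q : Set ↥A)) {s : K} (hs : s ∈ (S : Subgroup K)) :
    (y : K) * s * (y : K)⁻¹ * s⁻¹ ∈ (S : Subgroup K) := by
  haveI : Fact (Nat.Prime 2) := ⟨Nat.prime_two⟩
  have hzc : ∀ a : ↥A, Commute (eA.symm (-1) : ↥A) a := fun a => eA.injective (by simp)
  have hz2 : orderOf z = 2 := by
    rw [hz, orderOf_coe]
    refine orderOf_eq_prime (eA.injective (by simp [pow_two])) fun h => ?_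
    have h' := congrArg eA h
    rw [MulEquiv.apply_symm_apply, map_one] at h'
    revert h'
    decide
  have hzQ : eA.symm (-1) ∈ (Q : Subgroup ↥A) := by
    have hp : IsPGroup 2 ↥(zpowers (eA.symm (-1))) :=
      isPGroup_two_of_pow (n := 1) (eA.injective (by simp [pow_two]))
    haveI hn : (zpowers (eA.symm (-1))).Normal := ⟨fun x hx g => by
      obtain ⟨k, rfl⟩ := mem_zpowers_iff.1 hx
      rw [← ((hzc g).zpow_left k).eq, mul_inv_cancel_right]
      exact zpow_mem (mem_zpowers _) k⟩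
    exact (le_sup_right.trans (Q.is_maximal' (Q.isPGroup'.to_sup_of_normal_right hp) le_sup_left).le)
      (mem_zpowers _)
  have hcomm : Commute z ((i : K) * j) := by
    rw [hz]
    exact (show Commute ((eA.symm (-1) : ↥A) : K) (i : K) from congrArg Subtype.val (hzc i).eq).mul_right
      (hc _ (eA.symm (-1)).2 _ hjB)
  have hST : ((y : K) • S : Sylow 2 K) = S := by
    refine hGP _ _ z ((i : K) * j) hz2 hu (Ne.symm huz) hcomm ?_ ?_ (hz ▸ hQS _ hzQ)
      (mul_mem (hQS i hi) hjS)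
    · rw [Sylow.coe_subgroup_smul, Subgroup.mem_pointwise_smul_iff_inv_smul_mem, MulAut.smul_def,
        ← map_inv, MulAut.conj_apply, inv_inv, hz]
      have h := congrArg Subtype.val (hzc y⁻¹).eq
      simp only [coe_mul, coe_inv] at h
      rw [← h, inv_mul_cancel_right]
      exact hQS _ hzQ
    · rw [Sylow.coe_subgroup_smul, Subgroup.mem_pointwise_smul_iff_inv_smul_mem, MulAut.smul_def,
        ← map_inv, MulAut.conj_apply, inv_inv]
      rw [show (y : K)⁻¹ * ((i : K) * j) * (y : K) = ((y⁻¹ * i * y : ↥A) : K) * ((y : K)⁻¹ * j * y) by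
        simp [mul_assoc]]
      refine mul_mem (hQS _ ?_) ?_
      · have := (mem_normalizer_iff''.1 hy i).1 hi
        exact this
      · rw [(hc _ (A.inv_mem y.2) _ hjB).eq, inv_mul_cancel_right]
        exact hjS
  have h1 : (y : K) * s * (y : K)⁻¹ ∈ (S : Subgroup K) := by
    rw [← hST]
    rw [Sylow.coe_subgroup_smul, Subgroup.mem_pointwise_smul_iff_inv_smul_mem, MulAut.smul_def,
      ← map_inv, MulAut.conj_apply, inv_inv]
    simpa [mul_assoc] using hs
  exact mul_mem h1 (inv_mem hs)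

/-- In a group where every four group lies in one Sylow subgroup, a self-centralising central product of
two components `SL(2, 5)` has odd index. -/
theorem two_comp_odd {A B : Subgroup K} [(A ⊔ B).Normal] (eA : ↥A ≃* SLFive) (eB : ↥B ≃* SLFive)
    (hc : ∀ a ∈ A, ∀ b ∈ B, Commute a b) (hne : A ⊓ B ≠ ⊥)
    (hperm : ∀ g : K, ((∀ a, a ∈ A ↔ g * a * g⁻¹ ∈ A) ∧ (∀ b, b ∈ B ↔ g * b * g⁻¹ ∈ B)) ∨
      (∀ a ∈ A, g * a * g⁻¹ ∈ B))
    (hC : ∀ c : K, (∀ x ∈ A ⊔ B, Commute c x) → c ∈ A ⊔ B)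
    (hGP : ∀ (S T : Sylow 2 K) (u v : K), orderOf u = 2 → orderOf v = 2 → u ≠ v → Commute u v →
      u ∈ (S : Subgroup K) → v ∈ (S : Subgroup K) → u ∈ (T : Subgroup K) → v ∈ (T : Subgroup K) → S = T) :
    Odd (A ⊔ B).index := by
  haveI : Fact (Nat.Prime 2) := ⟨Nat.prime_two⟩
  obtain ⟨hw2, hw1, hw1', hw4⟩ := quarterTurn_facts
  obtain ⟨z, hz, hz1⟩ : ∃ z ∈ A ⊓ B, z ≠ 1 := by
    by_contra hcon
    push Not at hcon
    exact hne ((eq_bot_iff_forall _).2 hcon)
  have hzA : z = ((eA.symm (-1) : ↥A) : K) := (mem_inf_center eA hc hz.1 hz.2).resolve_left hz1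
  have hzB : z = ((eB.symm (-1) : ↥B) : K) :=
    (mem_inf_center eB (fun b hb a ha => (hc a ha b hb).symm) hz.2 hz.1).resolve_left hz1
  set i : ↥A := eA.symm quarterTurn with hi
  set j : ↥B := eB.symm quarterTurn with hj
  have hi4 : i ^ 2 ^ 2 = 1 := by rw [hi, ← map_pow, show quarterTurn ^ 2 ^ 2 = 1 from hw4, map_one]
  have hj4 : j ^ 2 ^ 2 = 1 := by rw [hj, ← map_pow, show quarterTurn ^ 2 ^ 2 = 1 from hw4, map_one]
  obtain ⟨Q, hQ⟩ := (isPGroup_two_of_pow hi4).exists_le_sylow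
  obtain ⟨R, hR⟩ := (isPGroup_two_of_pow hj4).exists_le_sylow
  set Q' := (Q : Subgroup ↥A).map A.subtype with hQ'
  set R' := (R : Subgroup ↥B).map B.subtype with hR'
  have hQA : Q' ≤ A := map_subtype_le _
  have hRB : R' ≤ B := map_subtype_le _
  have hnorm : Q' ≤ normalizer (R' : Set K) := fun q hq => mem_normalizer_iff.2 fun r => by
    constructor
    · intro hr
      rwa [(hc q (hQA hq) r (hRB hr)).eq, mul_inv_cancel_right]
    · intro hr
      have h := (hc q (hQA hq) _ (hRB hr)).eq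
      have h2 : q * r * q⁻¹ = r := by
        rw [← mul_assoc, ← mul_assoc] at h
        have h3 : q * q * r = q * r * q := by
          have := congrArg (· * q) h
          simpa [mul_assoc] using this
        rw [mul_assoc] at h3
        rw [mul_inv_eq_iff_eq_mul]
        exact mul_left_cancel (a := q) (by rw [h3, mul_assoc]) |>.trans rfl
      rwa [h2] at hr
  obtain ⟨S, hS⟩ := ((Q.isPGroup'.map A.subtype).to_sup_of_normal_right'
    (R.isPGroup'.map B.subtype) hnorm).exists_le_sylow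
  have hQS : ∀ q : ↥A, q ∈ (Q : Subgroup ↥A) → (q : K) ∈ (S : Subgroup K) := fun q hq =>
    hS (mem_sup_left ⟨q, hq, rfl⟩)
  have hRS : ∀ r : ↥B, r ∈ (R : Subgroup ↥B) → (r : K) ∈ (S : Subgroup K) := fun r hr =>
    hS (mem_sup_right ⟨r, hr, rfl⟩)
  have hiQ : i ∈ (Q : Subgroup ↥A) := hQ (mem_zpowers i)
  have hjR : j ∈ (R : Subgroup ↥B) := hR (mem_zpowers j)
  have hcij : Commute (i : K) (j : K) := hc _ i.2 _ j.2
  have hi2 : (i : K) * i = z := by rw [← coe_mul, hi, ← map_mul, hw2, hzA]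
  have hj2 : (j : K) * j = z := by rw [← coe_mul, hj, ← map_mul, hw2, hzB]
  have hzz : z * z = 1 := by
    rw [hzA, ← coe_mul, ← map_mul]; simp
  have hiB : (i : K) ∉ B := fun h => by
    rcases mem_inf_center eA hc i.2 h with h' | h'
    · exact hw1 (by simpa [hi] using congrArg eA (Subtype.ext h' : i = 1))
    · exact hw1' (by simpa [hi] using congrArg eA (Subtype.ext h' : i = eA.symm (-1)))
  have huz : (i : K) * j ≠ z := fun h => hiB (by
    rw [eq_mul_inv_of_mul_eq h]; exact mul_mem hz.2 (inv_mem j.2))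
  have hu : orderOf ((i : K) * j) = 2 := by
    refine orderOf_eq_prime ?_ fun h => hiB (by rw [eq_inv_of_mul_eq_one_left h]; exact inv_mem j.2)
    rw [pow_two, hcij.symm.mul_mul_mul_comm, hi2, hj2, hzz]
  have hcomS : ∀ s ∈ (S : Subgroup K), ∀ y : ↥A, y ∈ normalizer (Q : Set ↥A) →
      (y : K) * s * (y : K)⁻¹ * s⁻¹ ∈ (S : Subgroup K) := fun s hs y hy =>
    conj_mem_sylow eA hc hGP Q S hQS hiQ j.2 (hRS j hjR) hzA hu huz hy hs
  have hcomS' : ∀ s ∈ (S : Subgroup K), ∀ y : ↥B, y ∈ normalizer (R : Set ↥B) →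
      (y : K) * s * (y : K)⁻¹ * s⁻¹ ∈ (S : Subgroup K) := fun s hs y hy =>
    conj_mem_sylow eB (fun b hb a ha => (hc a ha b hb).symm) hGP R S hRS hjR i.2 (hQS i hiQ) hzB
      (by rwa [← hcij.eq]) (by rwa [← hcij.eq]) hy hs
  have hle : (S : Subgroup K) ≤ A ⊔ B := by
    intro s hs
    obtain ⟨k, hk⟩ := S.isPGroup' ⟨s, hs⟩
    have hsk : s ^ 2 ^ k = 1 := congrArg Subtype.val hk
    rcases hperm s with ⟨hA, hB⟩ | hsw
    · obtain ⟨q, hq, hqA⟩ := inner_of_two eA Q hsk hA
        (fun q hq h => mem_of_mem_sylow Q S hQS (mul_mem (mul_mem hs (hQS q hq)) (inv_mem hs)))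
        (fun y hy _ h => mem_of_mem_sylow Q S hQS (hcomS s hs y hy))
      obtain ⟨r, hr, hrB⟩ := inner_of_two eB R hsk hB
        (fun r hr h => mem_of_mem_sylow R S hRS (mul_mem (mul_mem hs (hRS r hr)) (inv_mem hs)))
        (fun y hy _ h => mem_of_mem_sylow R S hRS (hcomS' s hs y hy))
      have hqr : Commute ((q : K)⁻¹) ((r : K)⁻¹) := hc _ (inv_mem q.2) _ (inv_mem r.2)
      have hcA : A ≤ centralizer {(r : K)⁻¹ * ((q : K)⁻¹ * s)} := fun a ha =>
        mem_centralizer_singleton_iff.2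
          ((((hc a ha _ (inv_mem r.2)).symm).mul_left (hqA a ha)).symm.eq)
      have hcB : B ≤ centralizer {(r : K)⁻¹ * ((q : K)⁻¹ * s)} := fun b hb =>
        mem_centralizer_singleton_iff.2 (by
          rw [← mul_assoc ((r : K)⁻¹), ← hqr.eq, mul_assoc ((q : K)⁻¹)]
          exact ((hc _ (inv_mem q.2) b hb).mul_left (hrB b hb)).symm.eq)
      have hmem := hC _ fun x hx => (mem_centralizer_singleton_iff.1 (sup_le hcA hcB hx)).symm
      have h2 := mul_mem (mem_sup_left q.2 : (q : K) ∈ A ⊔ B)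
        (mul_mem (mem_sup_right r.2 : (r : K) ∈ A ⊔ B) hmem)
      simpa [mul_assoc] using h2
    · exfalso
      obtain ⟨y, hy, hy3, hy1⟩ := exists_three eA Q
      set b : K := s * (y : K)⁻¹ * s⁻¹ with hb
      have hbB : b ∈ B := hsw _ (inv_mem y.2)
      have hb3 : b * b * b = 1 := by
        have h := congrArg Subtype.val hy3
        simp only [coe_mul, coe_one] at h
        rw [hb, show s * (y : K)⁻¹ * s⁻¹ * (s * (y : K)⁻¹ * s⁻¹) * (s * (y : K)⁻¹ * s⁻¹) =
          s * ((y : K) * y * y)⁻¹ * s⁻¹ by group, h]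
        group
      obtain ⟨m, hm⟩ := S.isPGroup' ⟨_, hcomS s hs y hy⟩
      have hm' : ((y : K) * b) ^ 2 ^ m = 1 := by
        have := congrArg Subtype.val hm
        simpa [hb, mul_assoc] using this
      have hyb : Commute (y : K) b := hc _ y.2 _ hbB
      have h3 : ((y : K) * b) ^ 3 = 1 := by
        rw [hyb.mul_pow, pow_succ, pow_two, pow_succ, pow_two, hb3, mul_one]
        exact congrArg Subtype.val hy3
      have h1 : (y : K) * b = 1 := by
        rw [← orderOf_eq_one_iff]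
        exact Nat.eq_one_of_dvd_coprimes (Nat.Coprime.pow_left m (by norm_num : Nat.Coprime 2 3))
          (orderOf_dvd_of_pow_eq_one hm') (orderOf_dvd_of_pow_eq_one h3)
      have hyB : (y : K) ∈ B := by rw [eq_inv_of_mul_eq_one_left h1]; exact inv_mem hbB
      rcases mem_inf_center eA hc y.2 hyB with h | h
      · exact hy1 (Subtype.ext h)
      · have := congrArg eA hy3
        rw [map_mul, map_mul, map_one, show eA y = -1 by
          rw [show y = eA.symm (-1) from Subtype.ext h, MulEquiv.apply_symm_apply]] at this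
        revert this
        decide
  rw [← Nat.not_even_iff_odd, even_iff_two_dvd]
  exact fun h => S.not_dvd_index (h.trans (index_dvd_of_le hle))

end Cfsg.Agent.RankOneInter
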